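import Cfsg.Agent.H129.RealE7_m3
import Cfsg.Agent.H83.TorAut
import Cfsg.Agent.Prune
set_option linter.all false
prune_inst 0x7f00000000000000000000000000000000000000000000000000000000000000000000000000000000000000000000000000000000000000000000000000000000000000000000000000000000000000003fffffffffffffffffffffffffffbeffbdffffffff
open scoped Cfsg.Agent.FastGrp

/-!
# The torus of order `q⁴ - q² + 1` of `³D₄(q)` and the field automorphisms (helper83)
-/

set_option autoImplicit false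
set_option linter.unusedSectionVars false

namespace Cfsg.Agent.H83.TorD4

open CoxeterSystem Cfsg Cfsg.Lie Cfsg.Lie.ChevalleyDatum
open Cfsg.Agent.ChevalleyStructure Cfsg.Agent.ChevalleyStructure.Elts Cfsg.Agent.ChevalleyStructure.CoxeterGeom
  Cfsg.Agent.ChevalleyStructure.CoxeterGeomTypes Cfsg.Agent.ChevalleyStructure.NPerm
open Cfsg.Agent.Tits.Roots Cfsg.Agent.Tits.Core Cfsg.Agent.Nodes Cfsg.Agent.Nodes.Reps Cfsg.Agent.Nodes.BNOf
  Cfsg.Agent.Nodes.RGDChev Cfsg.Agent.Nodes.Bruhat Cfsg.Agent.Nodes.SubComb Cfsg.Agent.Nodes.Coroot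
open Cfsg.Agent.KFacts.RgdField Cfsg.Agent.KFacts.RgdChevCoord Cfsg.Agent.BpExc.TorCent Cfsg.Agent.BpExc.TorChev
open Cfsg.Agent.GpExc.Field Cfsg.Agent.BpExc.Tow Cfsg.Agent.BpExc.TowChev Cfsg.Agent.BpExc.Fr
  Cfsg.Agent.BpExc.LangFr Cfsg.Agent.LangThm Cfsg.Agent.BpExc Cfsg.Agent.H129.TorusChar Cfsg.Agent.H129.TorusCent
  Cfsg.Agent.H129.TorusTw Cfsg.Agent.H129.TorusMain Cfsg.Agent.H129.TorusUntw Cfsg.Agent.ChevStructure.FieldMap
  Cfsg.Agent.BpExc.EmbSplit Cfsg.Agent.BpExc.EmbInst Cfsg.Agent.H129.TriD4 Cfsg.Agent.H83.TorAut Cfsg.Agent.H129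
  Cfsg.Agent.H129.TwD4Cyc
open Cfsg.Agent.ChevalleyStructure.D4Fixed (sig)

universe u

theorem tau_comm {k : Type u} [Field k] [IsAlgClosed k] {p e : ℕ} [Fact p.Prime] [CharP k p] (j : ℕ)
    (y : ↥(chevD4.group k)) : tau k p e (phi chevD4 k p j y) = phi chevD4 k p j (tau k p e y) := by
  apply Subtype.ext
  rw [coe_tau, coe_phi, coe_phi, coe_tau]
  have h1 : chevD4.group k ≤ MonoidHom.eqLocus
      ((sig (iterateFrobenius k p e)).comp (glMap chevD4 (iterateFrobenius k p j)))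
      ((glMap chevD4 (iterateFrobenius k p j)).comp (sig (iterateFrobenius k p e))) := by
    rw [group_le_iff RGDTwD4.hp.inList]
    intro r hr t
    show sig (iterateFrobenius k p e) (glMap chevD4 (iterateFrobenius k p j) (xG RGDTwD4.hp.inList r t)) = _
    rw [glMap_xG]
    refine sig_natural (fun t => ?_) r hr t
    rw [iterateFrobenius_def, iterateFrobenius_def, iterateFrobenius_def, iterateFrobenius_def, ← pow_mul, ← pow_mul,
      mul_comm]
  exact h1 y.2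

theorem prime_ne {q r : ℕ} (hr : r.Prime) (h : r ∣ q ^ 4 - q ^ 2 + 1) : r ≠ 2 ∧ r ≠ 3 := by
  have h0 : q ^ 2 ≤ q ^ 4 := by
    rcases Nat.eq_zero_or_pos q with rfl | h1
    · norm_num
    · exact Nat.pow_le_pow_right h1 (by norm_num)
  have key : ∀ m : ℕ, m ∣ q ^ 4 - q ^ 2 + 1 → ((q : ZMod m) ^ 4 - (q : ZMod m) ^ 2 + 1 = 0) := by
    intro m hm
    have h1 := (ZMod.natCast_eq_zero_iff (q ^ 4 - q ^ 2 + 1) m).2 hm
    push_cast [Nat.cast_sub h0] at h1
    exact h1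
  constructor
  · rintro rfl
    have h1 := key 2 h
    revert h1
    generalize (q : ZMod 2) = x
    revert x
    decide
  · rintro rfl
    have h1 := key 3 h
    revert h1
    generalize (q : ZMod 3) = x
    revert x
    decide

/-- **The torus of order `q⁴ - q² + 1`.** -/
theorem exists_x0 {K : Type u} [Field K] [Fintype K] {q : ℕ} (hq : IsPrimePow q) (hK : Fintype.card K = q ^ 3)
    (p : ℕ) [Fact p.Prime] [hcp : CharP K p] :
    ∃ x0 : ↥(twistedD4 K q), orderOf x0 = q ^ 4 - q ^ 2 + 1 ∧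
      (∀ y ∈ Subgroup.zpowers x0, y ≠ 1 → Subgroup.centralizer {y} = Subgroup.zpowers x0) ∧
      ∃ b : MulAut ↥(twistedD4 K q), b x0 = x0 ^ p := by
  obtain ⟨p1, e', hpF, hpc, hpk, -, hpe, hk⟩ := exists_closure hK
  have hpp1 : p = p1 := CharP.eq K hcp hpc
  subst hpp1
  obtain ⟨p', e, hp', he, hqe'⟩ := id hq
  have hpp : p' = p := by
    have h1 : p' ∣ p ^ e' := by
      rw [← hpe, ← hqe']
      exact dvd_pow (dvd_pow_self p' he.ne') (by norm_num)
    exact (Nat.prime_dvd_prime_iff_eq hp'.nat_prime hpF.out).1 (hp'.nat_prime.dvd_of_dvd_pow h1)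
  subst hpp
  have hqe : q = p' ^ e := hqe'.symm
  have h0 : q ^ 2 ≤ q ^ 4 := Nat.pow_le_pow_right hq.pos (by norm_num)
  have hN : ((q ^ 4 - q ^ 2 + 1 : ℕ) : ℤ) = 1 - (q : ℤ) ^ 2 + (q : ℤ) ^ 4 := by
    push_cast [Nat.cast_sub h0]; ring
  set N := q ^ 4 - q ^ 2 + 1 with hNdef
  have hN0 : N ≠ 0 := by omega
  have hqN : q.Coprime N := UntwData.coprime_of_eq (a := -(q : ℤ) + (q : ℤ) ^ 3) (by rw [hN]; ring)
  have hpN : ¬ p' ∣ N := fun h1 => by
    have h2 : p' ∣ Nat.gcd q N := Nat.dvd_gcd (by rw [hqe]; exact dvd_pow_self p' he.ne') h1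
    rw [hqN] at h2
    exact hpF.out.one_lt.ne' (Nat.dvd_one.1 h2)
  have hlin := lin_tri coxeterD4.toCoxeterSystem DataD4C.hA DataD4C.chainOK DataD4C.hd_pi
  have hc := WData.cyc_of hlin DataD4C.cycOK
  have hfN : fN DataD4C.c (q : ℤ) = N := by rw [DataD4C.fN_eq, hN]
  have hnot : ∀ r : ℕ, r.Prime → r ∣ N → ∀ a : Fin 4 → ℤ,
      IsRoot coxeterD4.toCoxeterSystem RGDTwD4.hp.isCartan a → ¬ (r : ℤ) ∣ Gq DataD4C.B (q : ℤ) a := by
    intro r hr hrN a ha
    refine WData.not_dvd_G RGDTwD4.hp coxeterD4.toCoxeterSystem hlin hc DataD4C.rootOK hfN hr hrN hqN ?_ ha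
    intro s hs
    have hrq : (r : ℤ) ∣ 1 - (q : ℤ) ^ 2 + (q : ℤ) ^ 4 := by
      rw [← hN]; exact Int.natCast_dvd_natCast.2 hrN
    have h2 := DataD4C.dvd_of_G hrq s hs
    exact hr.one_lt.ne' (Nat.dvd_one.1 (by exact_mod_cast h2))
  obtain ⟨z, t, ht, htN, hfixt, ⟨u, hu, hcX⟩, -, hphi⟩ := exists_torus (k := AlgebraicClosure K) RGDTwD4.hp
    coxeterD4.toCoxeterSystem (by norm_num) hk he (isFrob_tau (p := p') (e := e))
    (fr_tau coxeterD4.toCoxeterSystem) TorusChar.invC_D4 (by norm_num) (DataD4C.chain.map Prod.fst) hc (N := N)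
    (by rw [← hqe]; exact hfN) hpN tau_comm
  rw [← hqe] at hcX
  have hrange : ∀ y : ↥(chevD4.group (AlgebraicClosure K)), tau (AlgebraicClosure K) p' e y = y →
      y ∈ (embT (algebraMap K (AlgebraicClosure K)) hq hK).range := fun y hy => tau_range _ hqe hq hK hy
  have hS : ∀ s ∈ Subgroup.zpowers t, z * s * z⁻¹ ∈ (embT (algebraMap K (AlgebraicClosure K)) hq hK).range ↔
      s ∈ Subgroup.zpowers (t ^ 1) := by
    intro s hs
    rw [pow_one]
    have hsT : s ∈ TT chevD4 (AlgebraicClosure K) := (Subgroup.zpowers_le.2 ht) hs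
    exact ⟨fun _ => hs, fun _ => hrange _ ((hfixt s hsT).2 hs)⟩
  obtain ⟨x0, hx0, hord, hcent⟩ := exists_elt RGDTwD4.hp coxeterD4.toCoxeterSystem hk ht htN hN0 hfixt hu hcX
    (embT_injective _ hq hK) (tau_embT _ hqe hq hK) (one_dvd N) hS p'
  refine ⟨x0, by rw [hord, Nat.div_one], fun y hy hy1 => ?_, ?_⟩
  · -- a prime divisor of the order
    have h1 : orderOf y ≠ 1 := fun h => hy1 (orderOf_eq_one_iff.1 h)
    obtain ⟨r, hr, hrd⟩ := Nat.exists_prime_and_dvd h1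
    have hrN : r ∣ N := by
      have h2 : orderOf y ∣ orderOf x0 := by
        obtain ⟨i, rfl⟩ := hy
        exact orderOf_dvd_of_pow_eq_one (by rw [← zpow_natCast, ← zpow_mul, mul_comm, zpow_mul, zpow_natCast,
          pow_orderOf_eq_one, one_zpow])
      rw [hord, Nat.div_one] at h2
      exact hrd.trans h2
    obtain ⟨h2, h3⟩ := prime_ne hr hrN
    exact (hcent y hy r hr hrd (not_dvd_W hr h2 h3) (hnot r hr hrN)).1
  · obtain ⟨b, hb⟩ := exists_field (p := p') RGDTwD4.hp ht (embT_injective _ hq hK) hx0 1 (fun y => hrange _ (by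
      rw [map_mul, map_mul, map_inv, hphi, tau_comm, tau_embT _ hqe hq hK]))
    exact ⟨b, by rw [hb, pow_one]⟩

end Cfsg.Agent.H83.TorD4
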