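import Cfsg.Agent.H568.RowTools_m3
import Cfsg.Agent.KFacts.RgdLieCharP
import Cfsg.Agent.Nodes.CardSup_m3
import Cfsg.Agent.H568.LinP
import Cfsg.Agent.H83.TorD4
import Cfsg.Agent.H69.OutTwD4
import Cfsg.Agent.H166.FieldAut
import Cfsg.Agent.Lib.Zsigmondy
import Cfsg.Agent.H997.OutCard
import Cfsg.Agent.S1067
import Cfsg.Agent.S1071
import Cfsg.Agent.S1082
import Cfsg.Agent.S1088
import Cfsg.Agent.FastGrp
import Cfsg.Agent.Prune
set_option linter.all false

section
prune_inst 0x7f00000000000000000000000000000000000000000000000000000000000000000000000000000000000000000000000000000000000000000000000000000000000000000000000000000000000000003fffffffffffffffffffffffffffbeffbdffffffff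

-- part: H83/OwnChar
section
set_option linter.all false
open scoped Cfsg.Agent.FastGrp

/-!
# Own characteristic: elements of large prime order normalise no unipotent subgroup (helper83)

* `card_modEq_one` : `x` of prime order `l` acting without fixed points on a subgroup `V` : `|V| ≡ 1 (mod l)`;
* `not_norm_sylow` : root group data, `l ∤ |T|`, `l ≠ r` : an element of order `l` normalises no full unipotent
  subgroup;
* `noNorm_char` : the result.
-/

set_option autoImplicit false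
set_option linter.unusedSectionVars false

namespace Cfsg.Agent.H83.OwnChar

open Subgroup Cfsg.Agent.H568
open CoxeterSystem Cfsg.Agent.ChevalleyStructure.CoxeterGeom Cfsg.Agent.Tits.Roots
  Cfsg.Agent.Nodes.Reps Cfsg.Agent.Nodes.BNOf
  Cfsg.Agent.Nodes.Bruhat Cfsg.Agent.Nodes.OppDec Cfsg.Agent.Nodes.LeviDec Cfsg.Agent.Nodes.NormX
  Cfsg.Agent.KFacts.RgdPar Cfsg.Agent.KFacts.RgdCent
  Cfsg.Agent.KFacts.RgdEx Cfsg.Agent.KFacts.RgdVJ Cfsg.Agent.KFacts.RgdCharP
  Cfsg.Agent.KFacts.RgdBorelTits Cfsg.Agent.KFacts.RgdFilt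

theorem card_modEq_one {G : Type*} [Group G] [Finite G] {l : ℕ} (hl : l.Prime) {x : G} (hx : orderOf x = l)
    {V : Subgroup G} (hV : x ∈ normalizer (V : Set G)) (hC : ∀ v ∈ V, v * x = x * v → v = 1) :
    Nat.card ↥V ≡ 1 [MOD l] := by
  have hlf : Fact l.Prime := ⟨hl⟩
  let act : ↥(zpowers x) →* MulAut ↥V := (V.normalizerMonoidHom).comp (inclusion (by rwa [zpowers_le]))
  letI : MulAction ↥(zpowers x) ↥V := MulAction.compHom _ act
  have hP : IsPGroup l ↥(zpowers x) := IsPGroup.of_card (n := 1) (by rw [Nat.card_zpowers, hx, pow_one])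
  have h1 := hP.card_modEq_card_fixedPoints (α := ↥V)
  refine h1.trans ?_
  have h2 : Nat.card (MulAction.fixedPoints ↥(zpowers x) ↥V) = 1 := by
    rw [Nat.card_eq_one_iff_unique]
    refine ⟨⟨fun a b => ?_⟩, ⟨⟨1, fun g => ?_⟩⟩⟩
    · have key : ∀ c : MulAction.fixedPoints ↥(zpowers x) ↥V, (c : ↥V) = 1 := by
        intro c
        have h3 := c.2 ⟨x, mem_zpowers x⟩
        have h4 : x * (c : ↥V) * x⁻¹ = ((c : ↥V) : G) := congrArg (Subtype.val : ↥V → G) h3
        apply Subtype.ext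
        apply hC _ (c : ↥V).2
        rw [mul_inv_eq_iff_eq_mul] at h4
        exact h4.symm
      apply Subtype.ext
      rw [key a, key b]
    · show act g 1 = 1
      rw [map_one]
  rw [h2]

section

variable {I W Y : Type*} [Fintype I] [DecidableEq I] [Group W] [Group Y] {M : CoxeterMatrix I}
  {cs : CoxeterSystem M W} {A : I → I → ℤ} {h : IsCartan M A} {p : ℕ} {T : Subgroup Y} {n : I → Y}
  {X : (I → ℤ) → Subgroup Y} (R : RGD cs h p T n X)

include R

/-- `x ^ |T| ∈ U` for `x ∈ B`. -/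
theorem pow_mem_U {x : Y} (hx : x ∈ RGD.B cs h T X) : x ^ Nat.card ↥T ∈ RGD.Sup X (RGD.Pos cs h) := by
  obtain ⟨t, ht, u, hu, e⟩ := R.mem_B.1 hx
  set N : Subgroup Y := Subgroup.normalizer (RGD.Sup X (RGD.Pos cs h) : Set Y) with hN
  have hxN : x ∈ N := R.B_le_normalizer_U hx
  have htN : t ∈ N := R.T_le_normalizer_U ht
  have : ((RGD.Sup X (RGD.Pos cs h)).subgroupOf N).Normal := Subgroup.normal_in_normalizer
  have h1 : (QuotientGroup.mk ⟨t, htN⟩ : ↥N ⧸ (RGD.Sup X (RGD.Pos cs h)).subgroupOf N) = QuotientGroup.mk ⟨x, hxN⟩ := by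
    rw [QuotientGroup.eq, Subgroup.mem_subgroupOf]
    have : t⁻¹ * x = u := by rw [e]; group
    change t⁻¹ * x ∈ _
    rw [this]; exact hu
  have h2 : t ^ Nat.card ↥T = 1 := by
    have h3 : (⟨t, ht⟩ : ↥T) ^ Nat.card ↥T = 1 := pow_card_eq_one'
    exact congrArg (Subtype.val : ↥T → Y) h3
  have h4 : (QuotientGroup.mk (⟨x, hxN⟩ ^ Nat.card ↥T) : ↥N ⧸ (RGD.Sup X (RGD.Pos cs h)).subgroupOf N) = 1 := by
    rw [QuotientGroup.mk_pow, ← h1, ← QuotientGroup.mk_pow]
    have h5 : (⟨t, htN⟩ : ↥N) ^ Nat.card ↥T = 1 := Subtype.ext h2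
    rw [h5]
    rfl
  rw [QuotientGroup.eq_one_iff, Subgroup.mem_subgroupOf] at h4
  exact h4

/-- An element of prime order `l ∤ p |T|` normalises no full unipotent subgroup. -/
theorem not_norm_sylow [Finite Y] [Finite W] [hp : Fact p.Prime] (hG : GG cs h T X = ⊤) {l : ℕ} (hl : l.Prime)
    (hlp : l ≠ p) (hlT : ¬ l ∣ Nat.card ↥T) {x : Y} (hx : orderOf x = l) {V : Subgroup Y} (hV : IsPGroup p V)
    (hVs : ¬ p ∣ V.index) : x ∉ normalizer (V : Set Y) := by
  intro hxV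
  obtain ⟨g, hg⟩ := exists_conj_U hG hV R
  -- `V = cj g U`
  let P : Sylow p Y := hV.toSylow hVs
  have hU : IsPGroup p ↥(RGD.Sup X (RGD.Pos cs h)) := R.isPGroup_Upos
  have e : V = cj g (RGD.Sup X (RGD.Pos cs h)) := by
    have h1 := P.3 (Q := cj g (RGD.Sup X (RGD.Pos cs h))) (by unfold cj; exact hU.map _) hg
    exact h1.symm
  have h2 : g⁻¹ * x * g ∈ normalizer (RGD.Sup X (RGD.Pos cs h) : Set Y) := by
    rw [e, normalizer_cj] at hxV
    exact mem_cj.1 hxV
  have h3 : g⁻¹ * x * g ∈ RGD.B cs h T X := by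
    rw [← Nodes.NormalForm.normalizer_U R, hG, inf_top_eq]
    exact h2
  have h4 := pow_mem_U R h3
  set y := g⁻¹ * x * g with hy
  have hyo : orderOf y = l := by
    rw [← hx]
    have h5 : y = MulAut.conj g⁻¹ x := by rw [hy, MulAut.conj_apply, inv_inv]
    rw [h5]
    exact orderOf_injective (MulAut.conj g⁻¹).toMonoidHom (MulAut.conj g⁻¹).injective x
  obtain ⟨k, hk⟩ := hU ⟨_, h4⟩
  have h6 : (y ^ Nat.card ↥T) ^ p ^ k = 1 := congrArg Subtype.val hk
  rw [← pow_mul] at h6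
  have h7 := orderOf_dvd_of_pow_eq_one h6
  rw [hyo] at h7
  rcases hl.dvd_mul.1 h7 with h8 | h8
  · exact hlT h8
  · exact hlp ((Nat.prime_dvd_prime_iff_eq hl hp.1).1 (hl.dvd_of_dvd_pow h8))

end

/-- **Own characteristic.** -/
theorem noNorm_char {G : Type*} [Group G] [Finite G] [IsSimpleGroup G] {r : ℕ} [hr : Fact r.Prime]
    (hc : ∃ a b : G, a * b ≠ b * a) (hF : HasFilt r G) {I W : Type*} [Fintype I] [DecidableEq I] [Group W] [Finite W]
    {M : CoxeterMatrix I} {cs : CoxeterSystem M W} {A : I → I → ℤ} {h : IsCartan M A} {T : Subgroup G} {n : I → G}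
    {X : (I → ℤ) → Subgroup G} (R : RGD cs h r T n X) (hG : GG cs h T X = ⊤) {l : ℕ} (hl : l.Prime)
    (hlr : l ≠ r) (hlT : ¬ l ∣ Nat.card ↥T) {x : G} (hx : orderOf x = l)
    (hcent : ¬ r ∣ Nat.card ↥(centralizer {x}))
    (hk : ∀ k, 1 ≤ k → r ^ k ∣ Nat.card G → l ∣ r ^ k - 1 → ¬ r ^ (k + 1) ∣ Nat.card G) : NoNorm r x := by
  intro Q hQ hn
  by_contra hQ1
  obtain ⟨V, P, hV, hQV, hNP, rfl, -, -⟩ := hF.exists_par hc hQ hQ1
  have hxV : x ∈ normalizer (V : Set G) := hNP hn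
  have hV1 : V ≠ ⊥ := fun h1 => hQ1 (le_bot_iff.1 (h1 ▸ hQV))
  obtain ⟨k, hk1⟩ := (IsPGroup.iff_card.1 hV)
  have hk0 : 1 ≤ k := by
    rcases Nat.eq_zero_or_pos k with h0 | h0
    · exfalso
      rw [h0, pow_zero] at hk1
      exact hV1 (Subgroup.card_eq_one.1 hk1)
    · exact h0
  have hC : ∀ v ∈ V, v * x = x * v → v = 1 := by
    intro v hv hvx
    by_contra hv1
    obtain ⟨m, hm⟩ := hV ⟨v, hv⟩
    have hm' : v ^ r ^ m = 1 := congrArg Subtype.val hm
    have hd : orderOf v ∣ r ^ m := orderOf_dvd_of_pow_eq_one hm'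
    obtain ⟨j, -, hj⟩ := (Nat.dvd_prime_pow hr.1).1 hd
    have hj0 : j ≠ 0 := by
      rintro rfl
      rw [pow_zero, orderOf_eq_one_iff] at hj
      exact hv1 hj
    have h1 : orderOf (⟨v, mem_centralizer_singleton_iff.2 hvx⟩ : ↥(centralizer {x})) ∣ Nat.card ↥(centralizer {x}) :=
      orderOf_dvd_natCard _
    rw [Subgroup.orderOf_mk, hj] at h1
    exact hcent ((dvd_pow_self r hj0).trans h1)
  have h1 := card_modEq_one hl hx hxV hC
  rw [hk1] at h1
  have h2 : l ∣ r ^ k - 1 := (Nat.modEq_iff_dvd' (Nat.one_le_pow _ _ hr.1.pos)).1 h1.symm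
  have h3 : r ^ k ∣ Nat.card G := by rw [← hk1]; exact Subgroup.card_subgroup_dvd_card V
  have h4 := hk k hk0 h3 h2
  refine not_norm_sylow R hG hl hlr hlT hx hV ?_ hxV
  rintro ⟨m, hm⟩
  apply h4
  rw [← Subgroup.card_mul_index V, hk1, hm, pow_succ, ← mul_assoc]
  exact Dvd.intro _ rfl

/-- **Own characteristic**, with the orders of the unipotent radicals. -/
theorem noNorm_char_bt {G : Type*} [Group G] [Finite G] {r : ℕ} [hr : Fact r.Prime]
    {I W : Type*} [Fintype I] [DecidableEq I] [Group W] [Finite W]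
    {M : CoxeterMatrix I} {cs : CoxeterSystem M W} {A : I → I → ℤ} {h : IsCartan M A} {T : Subgroup G} {n : I → G}
    {X : (I → ℤ) → Subgroup G} (R : RGD cs h r T n X) {F : (I → ℤ) → ℝ → Subgroup G} (hF : Filt R F)
    (hG1 : Nodes.RGDLib.G1 cs h X = ⊤) {l : ℕ} (hl : l.Prime)
    (hlr : l ≠ r) (hlT : ¬ l ∣ Nat.card ↥T) {x : G} (hx : orderOf x = l)
    (hcent : ¬ r ∣ Nat.card ↥(centralizer {x}))
    (hk : ∀ (J : Set I) (k : ℕ), J ≠ Set.univ → 1 ≤ k → Nat.card ↥(Nodes.LeviDec.VJ cs h X J) = r ^ k →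
      r ^ k ∣ Nat.card G → l ∣ r ^ k - 1 → ¬ r ^ (k + 1) ∣ Nat.card G) : NoNorm r x := by
  have hG : GG cs h T X = ⊤ := KFacts.RgdFilt.GG_eq_top hG1
  intro Q hQ hn
  by_contra hQ1
  obtain ⟨g, J, hJ, hQV, hNP⟩ := borel_tits_of_filt hF hG1 hQ hQ1
  set V := cj g (Nodes.LeviDec.VJ cs h X J) with hVdef
  have hV : IsPGroup r ↥V := by
    rw [hVdef]; unfold cj
    exact (isPGroup_VJ R J).map _
  have hxV : x ∈ normalizer (V : Set G) := by
    have h1 : cj g (Nodes.LeviDec.PJ cs h T X J) ≤ normalizer (V : Set G) := by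
      rw [hVdef, normalizer_cj]
      exact cj_mono g (PJ_le_normalizer_VJ R J)
    exact h1 (hNP hn)
  have hV1 : V ≠ ⊥ := fun h1 => hQ1 (le_bot_iff.1 (h1 ▸ hQV))
  obtain ⟨k, hk1⟩ := (IsPGroup.iff_card.1 hV)
  have hk0 : 1 ≤ k := by
    rcases Nat.eq_zero_or_pos k with h0 | h0
    · exfalso
      rw [h0, pow_zero] at hk1
      exact hV1 (Subgroup.card_eq_one.1 hk1)
    · exact h0
  have hC : ∀ v ∈ V, v * x = x * v → v = 1 := by
    intro v hv hvx
    by_contra hv1
    obtain ⟨m, hm⟩ := hV ⟨v, hv⟩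
    have hm' : v ^ r ^ m = 1 := congrArg Subtype.val hm
    have hd : orderOf v ∣ r ^ m := orderOf_dvd_of_pow_eq_one hm'
    obtain ⟨j, -, hj⟩ := (Nat.dvd_prime_pow hr.1).1 hd
    have hj0 : j ≠ 0 := by
      rintro rfl
      rw [pow_zero, orderOf_eq_one_iff] at hj
      exact hv1 hj
    have h1 : orderOf (⟨v, mem_centralizer_singleton_iff.2 hvx⟩ : ↥(centralizer {x})) ∣ Nat.card ↥(centralizer {x}) :=
      orderOf_dvd_natCard _
    rw [Subgroup.orderOf_mk, hj] at h1
    exact hcent ((dvd_pow_self r hj0).trans h1)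
  have h1 := card_modEq_one hl hx hxV hC
  rw [hk1] at h1
  have h2 : l ∣ r ^ k - 1 := (Nat.modEq_iff_dvd' (Nat.one_le_pow _ _ hr.1.pos)).1 h1.symm
  have h3 : r ^ k ∣ Nat.card G := by rw [← hk1]; exact Subgroup.card_subgroup_dvd_card V
  have h4 := hk J k hJ hk0 (by rw [← hk1, hVdef, Nodes.CardSup.card_cj]) h3 h2
  refine not_norm_sylow R hG hl hlr hlT hx hV ?_ hxV
  rintro ⟨m, hm⟩
  apply h4
  rw [← Subgroup.card_mul_index V, hk1, hm, pow_succ, ← mul_assoc]
  exact Dvd.intro _ rfl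

end Cfsg.Agent.H83.OwnChar
end

-- part: H83/RowD4
section
set_option linter.all false
open scoped Cfsg.Agent.FastGrp

-- part: H83/PQuot
section
/-!
# `PCent` in central quotients of linear groups (helper83)

`pcent_quot` : `Γ` a finite linear group of degree `< l` in characteristic `≠ p`; every element of prime order `l ≠ p` of
`Γ ⧸ Z(Γ)` centralises the `p`-subgroups which it normalises.
`pcent_of_injective` : `PCent` in subgroups.
-/

set_option autoImplicit false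

namespace Cfsg.Agent.H83.PQuot

open Subgroup Cfsg.Agent.H568

theorem pcent_of_injective {S G : Type*} [Group S] [Group G] {p : ℕ} (f : S →* G) (hf : Function.Injective f) {x : S}
    (h : PCent p (f x)) : PCent p x := by
  intro Q hQ hx y hy
  apply hf
  rw [map_mul, map_mul]
  refine h (Q.map f) (hQ.map f) ?_ (f y) (mem_map_of_mem f hy)
  rw [mem_normalizer_iff]
  intro z
  constructor
  · rintro ⟨w, hw, rfl⟩
    exact ⟨x * w * x⁻¹, (mem_normalizer_iff.1 hx w).1 hw, by simp only [_root_.map_mul, _root_.map_inv]⟩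
  · rintro ⟨w, hw, e⟩
    refine ⟨x⁻¹ * w * x, ?_, ?_⟩
    · have h1 := (mem_normalizer_iff.1 (inv_mem hx) w).1 hw
      rwa [inv_inv] at h1
    · rw [map_mul, map_mul, map_inv, e]
      group

theorem pcent_quot {Γ : Type*} [Group Γ] [Finite Γ] {k : Type*} [Field k] {ι : Type*} [Fintype ι] [DecidableEq ι]
    (ρ : Γ →* GL ι k) (hρ : Function.Injective ρ) {p l : ℕ} (hp : p.Prime) (hp2 : p ≠ 2) (hl : l.Prime)
    (hlp : l ≠ p) (hpk : (p : k) ≠ 0) (hcard : Fintype.card ι < l) {x : Γ ⧸ center Γ} (hx : orderOf x = l) :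
    PCent p x := by
  classical
  have hpf : Fact p.Prime := ⟨hp⟩
  obtain ⟨x, rfl⟩ := QuotientGroup.mk'_surjective (center Γ) x
  set π := QuotientGroup.mk' (center Γ) with hπ
  have hker : ∀ y, π y = 1 ↔ y ∈ center Γ := fun y => by
    rw [hπ, QuotientGroup.mk'_apply, QuotientGroup.eq_one_iff]
  intro Q hQ hxn y0 hy0
  set R := Q.comap π with hR
  have hxR : ∀ y, y ∈ R → x * y * x⁻¹ ∈ R := by
    intro y hy
    show π (x * y * x⁻¹) ∈ Q
    rw [map_mul, map_mul, map_inv]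
    exact (mem_normalizer_iff.1 hxn _).1 hy
  have hxR' : ∀ y, x * y * x⁻¹ ∈ R → y ∈ R := by
    intro y hy
    have h1 : π (x * y * x⁻¹) ∈ Q := hy
    rw [map_mul, map_mul, map_inv] at h1
    exact (mem_normalizer_iff.1 hxn _).2 h1
  -- `R` is nilpotent
  let f : R →* Q := (π.comp R.subtype).codRestrict Q fun y => y.2
  have hQn : Group.IsNilpotent ↥Q := hQ.isNilpotent
  have hRn : Group.IsNilpotent ↥R := by
    refine Subgroup.isNilpotent_of_ker_le_center f ?_
    intro y hy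
    have h1 : π (y : Γ) = 1 := congrArg Subtype.val (MonoidHom.mem_ker.1 hy)
    rw [hker] at h1
    rw [mem_center_iff]
    intro z
    exact Subtype.ext (mem_center_iff.1 h1 z)
  obtain ⟨P⟩ : Nonempty (Sylow p ↥R) := inferInstance
  have hPn : (P : Subgroup ↥R).Normal := Sylow.normal_of_normalizerCondition Group.normalizerCondition_of_isNilpotent P
  have hPc : (P : Subgroup ↥R).Characteristic := Sylow.characteristic_of_normal P hPn
  -- the action of `x` on `R`
  let α : ↥R ≃* ↥R :=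
    { toFun := fun y => ⟨x * y * x⁻¹, hxR y y.2⟩
      invFun := fun y => ⟨x⁻¹ * y * x, hxR' _ (by
        have e : x * (x⁻¹ * (y : Γ) * x) * x⁻¹ = y := by group
        rw [e]; exact y.2)⟩
      left_inv := fun y => Subtype.ext (by show x⁻¹ * (x * (y : Γ) * x⁻¹) * x = y; group)
      right_inv := fun y => Subtype.ext (by show x * (x⁻¹ * (y : Γ) * x) * x⁻¹ = y; group)
      map_mul' := fun y z => Subtype.ext (by show x * ((y : Γ) * z) * x⁻¹ = x * y * x⁻¹ * (x * z * x⁻¹); group) }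
  have hα : ∀ y : ↥R, α y ∈ (P : Subgroup ↥R) ↔ y ∈ (P : Subgroup ↥R) := by
    intro y
    have h1 := (Subgroup.characteristic_iff_comap_eq.1 hPc) α
    constructor
    · intro h2
      have h3 : y ∈ (P : Subgroup ↥R).comap α.toMonoidHom := h2
      rwa [h1] at h3
    · intro h2
      have h3 : y ∈ (P : Subgroup ↥R).comap α.toMonoidHom := by rw [h1]; exact h2
      exact h3
  set P' := (P : Subgroup ↥R).map R.subtype with hP'
  have hxP : x ∈ normalizer (P' : Set Γ) := by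
    rw [mem_normalizer_iff]
    intro y
    constructor
    · rintro ⟨z, hz, rfl⟩
      exact ⟨α z, (hα z).2 hz, rfl⟩
    · rintro ⟨z, hz, e⟩
      have hyR : y ∈ R := hxR' y (by rw [← e]; exact z.2)
      refine ⟨⟨y, hyR⟩, ?_, rfl⟩
      rw [SetLike.mem_coe, ← hα]
      have e2 : α ⟨y, hyR⟩ = z := Subtype.ext e.symm
      rw [e2]
      exact hz
  have hxl : ∀ y ∈ P', x ^ l * y = y * x ^ l := by
    intro y _
    have h1 : π (x ^ l) = 1 := by rw [map_pow, ← hx, pow_orderOf_eq_one]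
    rw [hker] at h1
    exact (mem_center_iff.1 h1 y).symm
  have hcomm := linP ρ hp hp2 hl hlp hpk P' (P.isPGroup'.map _) (fun y _ h => hρ (by rw [h, map_one])) x hxP hxl hcard
  -- conclusion
  obtain ⟨y, rfl⟩ := QuotientGroup.mk'_surjective (center Γ) y0
  have hyR : y ∈ R := hy0
  suffices h : x * y = y * x by
    show π x * π y = π y * π x
    rw [← map_mul, h, map_mul]
  -- decompose `y`
  have hn0 : orderOf y ≠ 0 := (orderOf_pos y).ne'
  obtain ⟨a, m, hm, hn⟩ := Nat.exists_eq_pow_mul_and_not_dvd hn0 p hp.ne_one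
  have hco : Nat.Coprime m (p ^ a) := (Nat.Coprime.pow_right a ((Nat.Prime.coprime_iff_not_dvd hp).2 hm).symm)
  -- the `p`-part
  have h1 : y ^ m ∈ P' := by
    refine ⟨⟨y ^ m, pow_mem hyR m⟩, ?_, rfl⟩
    have h2 : IsPGroup p ↥(zpowers (⟨y ^ m, pow_mem hyR m⟩ : ↥R)) := by
      rw [IsPGroup.iff_orderOf]
      rintro ⟨w, hw⟩
      obtain ⟨i, rfl⟩ := hw
      have h3 : orderOf ((⟨y ^ m, pow_mem hyR m⟩ : ↥R) ^ i) ∣ p ^ a := by
        apply orderOf_dvd_of_pow_eq_one
        apply Subtype.ext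
        show ((y ^ m) ^ i) ^ p ^ a = 1
        have e : ((y ^ m) ^ i) ^ p ^ a = (y ^ (p ^ a * m)) ^ i := by
          rw [← zpow_natCast ((y ^ m) ^ i), ← zpow_mul, mul_comm, zpow_mul, zpow_natCast, ← pow_mul, mul_comm m]
        rw [e, ← hn, pow_orderOf_eq_one, one_zpow]
      obtain ⟨j, -, hj⟩ := (Nat.dvd_prime_pow hp).1 h3
      refine ⟨j, ?_⟩
      rw [← hj]
      exact (Subgroup.orderOf_coe _).symm
    obtain ⟨P2, hP2⟩ := h2.exists_le_sylow
    have h4 : P2 = P := by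
      have : Subsingleton (Sylow p ↥R) := (Sylow.unique_of_normal P hPn).instSubsingleton
      exact Subsingleton.elim _ _
    rw [h4] at hP2
    exact hP2 (mem_zpowers _)
  -- the `p'`-part
  have h2 : y ^ p ^ a ∈ center Γ := by
    rw [← hker, map_pow]
    obtain ⟨b, hb⟩ := hQ ⟨π y, hy0⟩
    have hb' : π y ^ p ^ b = 1 := congrArg Subtype.val hb
    have h3 : orderOf (π y) ∣ p ^ b := orderOf_dvd_of_pow_eq_one hb'
    have h4 : orderOf (π y) ∣ p ^ a * m := by rw [← hn]; exact orderOf_map_dvd π y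
    obtain ⟨c, -, hc⟩ := (Nat.dvd_prime_pow hp).1 h3
    have h5 : orderOf (π y) ∣ p ^ a := by
      refine Nat.Coprime.dvd_of_dvd_mul_right ?_ h4
      rw [hc]
      exact Nat.Coprime.pow_left c ((Nat.Prime.coprime_iff_not_dvd hp).2 hm)
    exact orderOf_dvd_iff_pow_eq_one.1 h5
  have h3 := hcomm _ h1
  have h4 : x * y ^ p ^ a = y ^ p ^ a * x := mem_center_iff.1 h2 x
  have hbez : ∃ u v : ℤ, (m : ℤ) * u + (p ^ a : ℕ) * v = 1 := by
    have := (Nat.isCoprime_iff_coprime.2 hco)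
    obtain ⟨u, v, huv⟩ := this
    exact ⟨u, v, by linarith only [huv]⟩
  obtain ⟨u, v, huv⟩ := hbez
  have e : y = (y ^ m) ^ u * (y ^ p ^ a) ^ v := by
    rw [← zpow_natCast, ← zpow_mul, ← zpow_natCast y (p ^ a), ← zpow_mul, ← zpow_add, huv, zpow_one]
  have c1 : Commute x ((y ^ m) ^ u) := (show Commute x (y ^ m) from h3).zpow_right u
  have c2 : Commute x ((y ^ p ^ a) ^ v) := (show Commute x (y ^ p ^ a) from h4).zpow_right v
  have c3 : Commute x y := by rw [e]; exact c1.mul_right c2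
  exact c3

end Cfsg.Agent.H83.PQuot
end

-- part: H83/RowD4
section
/-!
# The row of `³D₄(q)` in S4329 (helper83)
-/

set_option autoImplicit false

namespace Cfsg.Agent.H83.RowD4

open Subgroup Cfsg Cfsg.Lie Cfsg.Agent.H568 Cfsg.Agent.H83.AutCount Cfsg.Agent.H83.PQuot

universe u

/-! ### numbers -/

theorem exists_l {r f : ℕ} (hr : r.Prime) (hf : 1 ≤ f) :
    ∃ l : ℕ, l.Prime ∧ orderOf (r : ZMod l) = 12 * f ∧ l ∣ (r ^ f) ^ 4 - (r ^ f) ^ 2 + 1 ∧ 12 * f < l ∧ l ≠ r := by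
  obtain ⟨l, hl, hd, hl1, hlr⟩ := Lib.Zsigmondy.exists_primitive hr.two_le (n := 12 * f) (by omega) (by omega) (by omega)
  have hlf : Fact l.Prime := ⟨hl⟩
  have hl2 := hl.two_le
  have hpos : ∀ m, 1 ≤ r ^ m := fun m => Nat.one_le_pow _ _ hr.pos
  have hord : orderOf (r : ZMod l) = 12 * f := by
    have key : ∀ m, (r : ZMod l) ^ m = 1 ↔ 12 * f ∣ m := by
      intro m
      rw [← hd m, ← ZMod.natCast_eq_zero_iff, Nat.cast_sub (hpos m)]
      push_cast
      rw [sub_eq_zero]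
    apply Nat.dvd_antisymm
    · rw [orderOf_dvd_iff_pow_eq_one, key]
    · rw [← key, pow_orderOf_eq_one]
  refine ⟨l, hl, hord, ?_, ?_, ?_⟩
  · set q := r ^ f with hq
    have hq1 : 1 ≤ q := hpos f
    have h12 : l ∣ q ^ 12 - 1 := by rw [hq, ← pow_mul, hd]; exact ⟨1, by ring⟩
    have h6 : ¬ l ∣ q ^ 6 - 1 := by
      rw [hq, ← pow_mul, hd]
      intro h
      have := Nat.le_of_dvd (by omega) h
      omega
    have h4 : ¬ l ∣ q ^ 4 - 1 := by
      rw [hq, ← pow_mul, hd]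
      intro h
      have := Nat.le_of_dvd (by omega) h
      omega
    have e1 : q ^ 12 - 1 = (q ^ 6 - 1) * ((q ^ 2 + 1) * (q ^ 4 - q ^ 2 + 1)) := by
      have h0 : q ^ 2 ≤ q ^ 4 := Nat.pow_le_pow_right hq1 (by norm_num)
      have h01 : 1 ≤ q ^ 12 := Nat.one_le_pow _ _ hq1
      have h02 : 1 ≤ q ^ 6 := Nat.one_le_pow _ _ hq1
      zify [h0, h01, h02]
      ring
    have e2 : q ^ 4 - 1 = (q ^ 2 - 1) * (q ^ 2 + 1) := by
      have h01 : 1 ≤ q ^ 4 := Nat.one_le_pow _ _ hq1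
      have h02 : 1 ≤ q ^ 2 := Nat.one_le_pow _ _ hq1
      zify [h01, h02]
      ring
    rw [e1] at h12
    rcases hl.dvd_mul.1 h12 with h | h
    · exact absurd h h6
    rcases hl.dvd_mul.1 h with h | h
    · exact absurd (by rw [e2]; exact h.mul_left _) h4
    · exact h
  · have := Nat.le_of_dvd (by omega) hl1
    omega
  · rintro rfl
    exact hlr dvd_rfl

theorem index_mod {q m c : ℕ} (hq : 1 ≤ q) (hm : m ∣ q ^ 4 - q ^ 2 + 1)
    (hc : c * (q ^ 4 - q ^ 2 + 1) = q ^ 12 * (q ^ 2 - 1) * (q ^ 6 - 1) * (q ^ 8 + q ^ 4 + 1)) : c ≡ 4 [MOD m] := by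
  have h0 : q ^ 2 ≤ q ^ 4 := Nat.pow_le_pow_right hq (by norm_num)
  have h1 : 1 ≤ q ^ 2 := Nat.one_le_pow _ _ hq
  have h2 : 1 ≤ q ^ 6 := Nat.one_le_pow _ _ hq
  have e : c = q ^ 12 * (q ^ 2 - 1) * (q ^ 6 - 1) * (q ^ 4 + q ^ 2 + 1) := by
    have hpos : 0 < q ^ 4 - q ^ 2 + 1 := by omega
    apply Nat.eq_of_mul_eq_mul_right hpos
    rw [hc]
    zify [h0, h1, h2]
    ring
  rw [← ZMod.natCast_eq_natCast_iff, e]
  have h3 : (q : ZMod m) ^ 4 = (q : ZMod m) ^ 2 - 1 := by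
    have h4 := (ZMod.natCast_eq_zero_iff (q ^ 4 - q ^ 2 + 1) m).2 hm
    push_cast [Nat.cast_sub h0] at h4
    linear_combination h4
  push_cast [Nat.cast_sub h1, Nat.cast_sub h2]
  set y := (q : ZMod m) with hy
  have h6 : y ^ 6 = -1 := by
    calc y ^ 6 = y ^ 4 * y ^ 2 := by ring
      _ = y ^ 4 - y ^ 2 := by rw [h3]; linear_combination h3
      _ = -1 := by rw [h3]; ring
  calc y ^ 12 * (y ^ 2 - 1) * (y ^ 6 - 1) * (y ^ 4 + y ^ 2 + 1)
      = (y ^ 6) ^ 2 * (y ^ 2 - 1) * (y ^ 6 - 1) * (y ^ 4 + y ^ 2 + 1) := by ring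
    _ = (-2) * ((y ^ 2 - 1) * (y ^ 2 - 1 + y ^ 2 + 1)) := by rw [h6, h3]; ring
    _ = (-4) * (y ^ 4 - y ^ 2) := by ring
    _ = 4 := by rw [h3]; ring

/-! ### the group -/

section

variable {K : Type u} [Field K] [Fintype K] {q : ℕ} (hq : IsPrimePow q) (hK : Fintype.card K = q ^ 3)

include hq hK

theorem pcent {r : ℕ} [Fact r.Prime] [CharP K r] {p l : ℕ} (hp : p.Prime) (hp2 : p ≠ 2) (hpr : p ≠ r) (hl : l.Prime)
    (hlp : l ≠ p) (h8 : 8 < l) {x : ↥(twistedD4 K q)} (hx : orderOf x = l) : PCent p x := by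
  obtain ⟨e⟩ := S1082.result (F := K)
  have hle : twistedD4 K q ≤ chevD4.group K := H129.TriD4.tw_le hq hK
  let f : ↥(twistedD4 K q) →* POmega K (quadFormPlus 4 K) := e.toMonoidHom.comp (Subgroup.inclusion hle)
  have hf : Function.Injective f := e.injective.comp (Subgroup.inclusion_injective hle)
  refine pcent_of_injective f hf ?_
  have hfin : Finite ↥(Omega K (quadFormPlus 4 K)) := inferInstance
  refine pcent_quot (Γ := ↥(Omega K (quadFormPlus 4 K)))
    ((isometryGroup K (quadFormPlus 4 K)).subtype.comp (Omega K (quadFormPlus 4 K)).subtype)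
    (Subtype.val_injective.comp Subtype.val_injective) hp hp2 hl hlp ?_ ?_ ?_
  · intro h
    rw [CharP.cast_eq_zero_iff K r] at h
    exact hpr ((Nat.prime_dvd_prime_iff_eq (Fact.out : r.Prime) hp).1 h).symm
  · simpa using h8
  · rw [← hx]
    exact orderOf_injective f hf x


/-- Own characteristic. -/
theorem noNorm_own {r f : ℕ} [hr : Fact r.Prime] [CharP K r] (hqf : q = r ^ f) (hf : 1 ≤ f) {l : ℕ} (hl : l.Prime)
    (hord : orderOf (r : ZMod l) = 12 * f) (hlN : l ∣ q ^ 4 - q ^ 2 + 1) (hlr : l ≠ r)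
    {x : ↥(twistedD4 K q)} (hx : orderOf x = l) (hcent : Nat.card ↥(centralizer {x}) = q ^ 4 - q ^ 2 + 1) :
    NoNorm r x := by
  have hlf : Fact l.Prime := ⟨hl⟩
  obtain ⟨φ, hφ⟩ := Cfsg.Agent.ChevalleyStructure.D4Fixed.exists_frob hq hK
  obtain ⟨hsim, hna⟩ := S1071.result hq hK
  have hq1 := hq.one_lt
  have hne : ∃ a b : ↥(twistedD4 K q), a * b ≠ b * a := by
    by_contra hcon
    push Not at hcon
    exact hna ⟨⟨hcon⟩⟩
  let cs : CoxeterSystem CoxeterMatrix.G₂ CoxeterMatrix.G₂.Group := CoxeterMatrix.G₂.toCoxeterSystem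
  have hfin : Finite CoxeterMatrix.G₂.Group :=
    Cfsg.Agent.Nodes.RGDFold.finite_W (hp := Cfsg.Agent.Nodes.RGDTwD4.hp) cs Cfsg.Agent.Nodes.RGDTwD4.isCartan Cfsg.Agent.Nodes.RGDTwD4.foldData
  have R := Cfsg.Agent.Nodes.RGDTwD4.rgd cs hK hφ r
  have hpow : ∀ m, l ∣ r ^ m - 1 ↔ 12 * f ∣ m := by
    intro m
    rw [← hord, orderOf_dvd_iff_pow_eq_one, ← ZMod.natCast_eq_zero_iff, Nat.cast_sub (Nat.one_le_pow _ _ hr.1.pos)]
    push_cast
    rw [sub_eq_zero]
  have hcop : ∀ m, 1 ≤ m → ¬ r ∣ q ^ m - 1 := by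
    intro m hm h
    have h1 : r ∣ q ^ m := by
      rw [hqf, ← pow_mul]
      exact dvd_pow_self r (Nat.mul_ne_zero (by omega) (by omega))
    have h2 : 1 ≤ q ^ m := Nat.one_le_pow _ _ (by omega)
    have h3 : r ∣ 1 := by
      have := (Nat.dvd_sub h1 h)
      rwa [Nat.sub_sub_self h2] at this
    exact hr.1.one_lt.ne' (Nat.dvd_one.1 h3)
  have hrq : r ∣ q := by rw [hqf]; exact dvd_pow_self r (by omega)
  refine OwnChar.noNorm_char (cs := cs) hne (KFacts.RgdFiltTwAll.hasFilt_D4 hq hK r) R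
    (KFacts.RgdFilt.GG_eq_top (Cfsg.Agent.Nodes.RGDTwD4.G1_eq_top cs hK hφ)) hl hlr ?_ hx ?_ ?_
  · rw [H69.OutTwD4.card_T hq hK]
    intro h
    rcases hl.dvd_mul.1 h with h1 | h1
    · rw [hqf, ← pow_mul, hpow] at h1
      have := Nat.le_of_dvd (by omega) h1
      omega
    · rw [show q - 1 = r ^ f - 1 by rw [hqf], hpow] at h1
      have := Nat.le_of_dvd (by omega) h1
      omega
  · rw [hcent]
    intro h
    have h0 : q ^ 2 ≤ q ^ 4 := Nat.pow_le_pow_right (by omega) (by norm_num)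
    have h1 : r ∣ q ^ 4 - q ^ 2 := Nat.dvd_sub (dvd_pow hrq (by norm_num)) (dvd_pow hrq (by norm_num))
    exact hr.1.one_lt.ne' (Nat.dvd_one.1 ((Nat.dvd_add_right h1).1 h))
  · intro k hk0 hkG hlk
    rw [hpow] at hlk
    obtain ⟨j, hj⟩ := hlk
    have hj0 : 1 ≤ j := by
      rcases Nat.eq_zero_or_pos j with h | h
      · rw [h] at hj; omega
      · exact h
    rw [S1067.result hq hK]
    have hco : ∀ m, Nat.Coprime (r ^ m) ((q ^ 2 - 1) * (q ^ 6 - 1) * (q ^ 8 + q ^ 4 + 1)) := by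
      intro m
      apply Nat.Coprime.pow_left
      rw [Nat.Prime.coprime_iff_not_dvd hr.1]
      intro h
      rcases hr.1.dvd_mul.1 h with h | h
      · rcases hr.1.dvd_mul.1 h with h | h
        · exact hcop 2 (by norm_num) h
        · exact hcop 6 (by norm_num) h
      · have h1 : r ∣ q ^ 8 + q ^ 4 := dvd_add (dvd_pow hrq (by norm_num)) (dvd_pow hrq (by norm_num))
        exact hr.1.one_lt.ne' (Nat.dvd_one.1 ((Nat.dvd_add_right h1).1 h))
    intro h
    rw [mul_assoc, mul_assoc, ← mul_assoc (q ^ 2 - 1)] at h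
    have h2 := (hco (k + 1)).dvd_of_dvd_mul_right h
    rw [hqf, ← pow_mul] at h2
    have h3 := (Nat.pow_dvd_pow_iff_le_right hr.1.one_lt).1 h2
    rw [hj] at h3
    nlinarith only [hj0, h3]

/-- **`Row p (³D₄(q))`.** -/
theorem row_tw (p : ℕ) [hp : Fact p.Prime] (hp2 : p ≠ 2) : Row p ↥(twistedD4 K q) := by
  obtain ⟨r, f, hr', hf, hqf⟩ := id hq
  have hr'' : r.Prime := hr'.nat_prime
  have hr : Fact r.Prime := ⟨hr''⟩
  have hcr : CharP K r := by
    obtain ⟨r', hr1⟩ := CharP.exists K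
    have hr2 : r'.Prime := CharP.char_is_prime K r'
    obtain ⟨m, -, hm⟩ := FiniteField.card K r'
    rw [hK, ← hqf, ← pow_mul] at hm
    have h1 : r ∣ r' ^ (m : ℕ) := by
      rw [← hm]
      exact dvd_pow_self r (by omega)
    have h2 := (Nat.prime_dvd_prime_iff_eq hr'' hr2).1 (hr''.dvd_of_dvd_pow h1)
    rw [h2]; exact hr1
  obtain ⟨hsim, hna⟩ := S1071.result hq hK
  have hZ := H69.OutTwD4.center_eq_bot hq hK
  obtain ⟨l, hl, hord, hlN', hlf, hlr⟩ := exists_l hr'' (f := f) (by omega)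
  have hlN : l ∣ q ^ 4 - q ^ 2 + 1 := by rw [← hqf]; exact hlN'
  obtain ⟨x0, hx0, hx0c, b, hb⟩ := TorD4.exists_x0 hq hK r
  set N := q ^ 4 - q ^ 2 + 1 with hN
  have hNpos : 0 < N := by omega
  obtain ⟨m, hm⟩ := hlN
  have hm0 : m ≠ 0 := by rintro rfl; omega
  -- the element of order `l`
  set x1 := x0 ^ m with hx1
  have hx1l : orderOf x1 = l := by
    rw [hx1, orderOf_pow_of_dvd hm0 (by rw [hx0, hm]; exact Dvd.intro_left _ rfl), hx0, hm,
      Nat.mul_div_cancel _ (Nat.pos_of_ne_zero hm0)]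
  have hx1ne : x1 ≠ 1 := by
    intro h
    rw [h, orderOf_one] at hx1l
    exact hl.one_lt.ne hx1l
  have hT : centralizer {x1} = zpowers x0 := hx0c x1 (npow_mem_zpowers x0 m) hx1ne
  set T := zpowers x0 with hTdef
  have hTcard : Nat.card ↥T = N := by rw [hTdef, Nat.card_zpowers, hx0]
  have hcyc : IsCyclic ↥T := by rw [hTdef]; infer_instance
  have hbx : b x1 = x1 ^ r := by rw [hx1, map_pow, hb, ← pow_mul, ← pow_mul, mul_comm]
  have hidx : T.index * N = q ^ 12 * (q ^ 2 - 1) * (q ^ 6 - 1) * (q ^ 8 + q ^ 4 + 1) := by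
    rw [← S1067.result hq hK, ← hTcard, mul_comm]
    exact T.card_mul_index
  have hmod : ∀ m, m ∣ N → T.index ≡ 4 [MOD m] := fun m hm => index_mod hq.one_lt.le hm hidx
  have hout : (MulAut.conj : ↥(twistedD4 K q) →* MulAut ↥(twistedD4 K q)).range.index = 3 * f := by
    rw [← H997.OutCard.card_out, H69.OutTwD4.card_out hq hK r, H166.FieldAut.card_ringAut r (3 * f)]
    rw [hK, ← hqf, ← pow_mul, mul_comm]
  have hstab : Nat.card ↥(MulAction.stabilizer (MulAut ↥(twistedD4 K q)) x1) ≤ Nat.card ↥T := by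
    have := card_fix_le hl hx1l hT hcyc hZ (c := 4) (by norm_num) (by omega) (hmod l ⟨m, hm⟩) hbx hord (d := 1)
      (by rw [hout]; omega) (by omega)
    rwa [one_mul] at this
  have hTx : ∀ y ∈ T, y * x1 = x1 * y := fun y hy => by
    rw [← hT] at hy
    exact mem_centralizer_singleton_iff.1 hy
  have hlp8 : 8 < l := by omega
  -- own characteristic
  have hown : NoNorm r x1 := noNorm_own hq hK hqf.symm (by omega) hl hord ⟨m, hm⟩ hlr hx1l (by rw [hT, hTcard])
  refine row_of hna fun a ha => ?_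
  by_cases hinn : ∃ s, a = MulAut.conj s
  · by_cases hpN : p ∣ N
    · left
      refine ⟨hinn, exists_cyclic_sylow hcyc ?_⟩
      intro h
      have h1 := hmod p hpN
      have h2 : p ∣ 4 := (Nat.modEq_zero_iff_dvd).1 (h1.symm.trans (Nat.modEq_zero_iff_dvd.2 h))
      have h3 : p ∣ 2 ^ 2 := h2
      exact hp2 ((Nat.prime_dvd_prime_iff_eq hp.1 Nat.prime_two).1 (hp.1.dvd_of_dvd_pow h3))
    · right; left
      refine ⟨hinn, x1, ?_⟩
      by_cases hpr : p = r
      · subst hpr; exact hown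
      · have hlp : l ≠ p := by
          rintro rfl
          exact hpN ⟨m, hm⟩
        have hpc := pcent hq hK hp.1 hp2 hpr hl hlp hlp8 hx1l
        intro Q hQ hn
        rw [eq_bot_iff]
        intro y hy
        rw [mem_bot]
        have h1 : y ∈ T := by
          rw [← hT, mem_centralizer_singleton_iff]
          exact (hpc Q hQ hn y hy).symm
        by_contra hy1
        obtain ⟨k, hk⟩ := hQ ⟨y, hy⟩
        have hk' : y ^ p ^ k = 1 := congrArg Subtype.val hk
        obtain ⟨j, -, hj⟩ := (Nat.dvd_prime_pow hp.1).1 (orderOf_dvd_of_pow_eq_one hk')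
        have hj0 : j ≠ 0 := by
          rintro rfl
          rw [pow_zero, orderOf_eq_one_iff] at hj
          exact hy1 hj
        apply hpN
        have h2 : orderOf (⟨y, h1⟩ : ↥T) ∣ Nat.card ↥T := _root_.orderOf_dvd_natCard _
        rw [Subgroup.orderOf_mk, hj, hTcard] at h2
        exact (dvd_pow_self p hj0).trans h2
  · right; right
    have hp3 : p ∣ 3 * f := by
      rw [← hout]
      have hKn : (MulAut.conj : ↥(twistedD4 K q) →* MulAut ↥(twistedD4 K q)).range.Normal := by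
        refine ⟨?_⟩
        rintro _ ⟨g, rfl⟩ a
        refine ⟨a g, ?_⟩
        ext y
        simp only [MulAut.conj_apply, _root_.Subgroup.coe_mul, _root_.InvMemClass.coe_inv, _root_.Units.val_mul, _root_.Matrix.coe_units_inv, _root_.MulAut.mul_apply, _root_.MulAut.inv_apply, _root_.map_mul, _root_.MulEquiv.apply_symm_apply, _root_.map_inv]
      set J := (MulAut.conj : ↥(twistedD4 K q) →* MulAut ↥(twistedD4 K q)).range with hJ
      have h1 : orderOf (QuotientGroup.mk a : MulAut ↥(twistedD4 K q) ⧸ J) ∣ p := by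
        rw [← ha]
        exact orderOf_map_dvd (QuotientGroup.mk' J) a
      rcases (Nat.dvd_prime hp.1).1 h1 with h2 | h2
      · exfalso
        rw [orderOf_eq_one_iff, QuotientGroup.eq_one_iff] at h2
        obtain ⟨s, hs⟩ := h2
        exact hinn ⟨s, hs.symm⟩
      · rw [← h2]
        exact _root_.orderOf_dvd_natCard _
    have hlp : l ≠ p := by
      rintro rfl
      have := Nat.le_of_dvd (by omega) hp3
      omega
    refine ⟨x1, ?_, ?_, ?_⟩
    · rw [hx1l]
      intro h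
      exact hlp ((Nat.prime_dvd_prime_iff_eq hp.1 hl).1 h).symm
    · by_cases hpr : p = r
      · subst hpr; exact hown.pcent
      · exact pcent hq hK hp.1 hp2 hpr hl hlp hlp8 hx1l
    · intro g hg
      obtain ⟨s, -, hs⟩ := inner_of_fix hZ hTx hstab hg
      apply hinn
      refine ⟨g⁻¹ s, ?_⟩
      have h1 : a = g⁻¹ * MulAut.conj s * g := by rw [← hs]; group
      rw [h1]
      ext y
      simp only [MulAut.conj_apply, _root_.MulAut.mul_apply, _root_.MulAut.inv_apply, _root_.map_mul, _root_.MulEquiv.symm_apply_apply, _root_.map_inv, _root_.Subgroup.coe_mul, _root_.InvMemClass.coe_inv, _root_.Units.val_mul, _root_.Matrix.coe_units_inv]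

end

/-- **The row `³D₄(q)` of S4329.** -/
theorem row_twistedD4 {G : Type*} [Group G] {K : Type u} [Field K] [Fintype K] {q : ℕ} (hq : IsPrimePow q)
    (hK : Fintype.card K = q ^ 3) (e : G ≃* ↥(twistedD4 K q)) (p : ℕ) [hp : Fact p.Prime] (hp2 : p ≠ 2) : Row p G :=
  (row_tw hq hK p hp2).congr e.symm

end Cfsg.Agent.H83.RowD4
end
end
end
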