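import Mathlib
import Cfsg.Agent.H83.Disp
import Cfsg.Agent.H83.OrthChk
import Cfsg.Agent.Nodes.RGDChev
import Cfsg.Agent.ChevalleyStructure.RootWord
import Cfsg.Agent.ChevalleyStructure.RootComb
import Cfsg.Agent.S1031
set_option linter.all false

/-!
Involutions of the Chevalley groups `D.group K` in characteristic 2 (helper83).

* `exists_orth` : every `t ∈ D.group K` with `t * t = 1` is conjugate in `D.group K` to a product of root elements
  `x_r(1)` over a list of pairwise orthogonal roots `r`.
-/

set_option autoImplicit false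
set_option linter.unusedSectionVars false

namespace Cfsg.Agent.H83.ChevInv

open CoxeterSystem Cfsg.Agent.ChevalleyStructure.CoxeterGeom Cfsg.Agent.Tits.Roots Cfsg.Agent.Tits.Core
  Cfsg.Agent.Nodes.Reps Cfsg.Agent.Nodes.BNOf Cfsg.Agent.Nodes.RGDChev Cfsg.Agent.Nodes.Bruhat Cfsg.Agent.H83.Disp
open Cfsg.Lie Cfsg.Agent.ChevalleyStructure.Elts Cfsg.Agent.ChevalleyStructure.RootCombGood
open Cfsg.Agent.ChevalleyStructure Cfsg.Agent.ChevalleyStructure.CoxeterGeomTypes Cfsg.Agent.H83.OrthChk

universe u

/-! ### Root elements in characteristic 2 -/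

section CharTwo

variable {D : ChevalleyDatum} (hD : InList D) {K : Type u} [Field K] [CharP K 2]

theorem xG_sq (r : ℕ) (t : K) : xG hD r t * xG hD r t = 1 := by
  rw [xG_add, CharTwo.add_self_eq_zero, xG_zero]

theorem xG_inv' (r : ℕ) (t : K) : (xG hD r t)⁻¹ = xG hD r t := inv_eq_of_mul_eq_one_left (xG_sq hD r t)

theorem nG_eq (r : ℕ) : nG hD r (1 : K) = xG hD r 1 * (xG hD (D.neg r) 1 * xG hD r 1) := by
  rw [nG_def, inv_one, CharTwo.neg_eq]

theorem nG_sq (r : ℕ) : nG hD r (1 : K) * nG hD r 1 = 1 := by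
  rw [nG_eq]
  calc xG hD r (1 : K) * (xG hD (D.neg r) 1 * xG hD r 1) * (xG hD r 1 * (xG hD (D.neg r) 1 * xG hD r 1))
      = xG hD r (1 : K) * (xG hD (D.neg r) 1 * (xG hD r 1 * xG hD r 1) * xG hD (D.neg r) 1) * xG hD r 1 := by group
    _ = 1 := by rw [xG_sq, mul_one, xG_sq, mul_one, xG_sq]

theorem nG_inv (r : ℕ) : (nG hD r (1 : K))⁻¹ = nG hD r 1 := inv_eq_of_mul_eq_one_left (nG_sq hD r)

/-- conjugation of root elements by the `n_i` -/
theorem n_conj {i s : ℕ} (hi : i < D.rank) (hs : s < D.nroots) (t : K) :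
    nG hD (D.simple i) 1 * xG hD s t * (nG hD (D.simple i) 1)⁻¹ = xG hD (D.reflectRoot i s) t := by
  obtain ⟨η, hη, h⟩ := Cfsg.Agent.S1031.result (F := K) D hD i s hi hs
  rw [mul_inv_eq_iff_eq_mul]
  apply Units.ext
  rw [Units.val_mul, Units.val_mul, coe_nG, coe_xG, coe_xG, h t]
  have h1 : ((η : ℤ) : K) = 1 := by
    rcases hη with rfl | rfl
    · exact Int.cast_one
    · rw [Int.cast_neg, Int.cast_one, CharTwo.neg_eq]
  rw [h1, one_mul]

theorem n_conj_n {i s : ℕ} (hi : i < D.rank) (hs : s < D.nroots) :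
    nG hD (D.simple i) 1 * nG hD s (1 : K) * (nG hD (D.simple i) 1)⁻¹ = nG hD (D.reflectRoot i s) 1 := by
  have G := RootComb.good_of_mem hD
  rw [nG_eq hD s, nG_eq hD (D.reflectRoot i s), ← G.reflect_neg hi hs, ← n_conj hD hi hs,
    ← n_conj hD hi (RootWord.neg_lt G hs)]
  group

end CharTwo

/-! ### Orthogonal roots commute in characteristic 2 -/

section Orth

variable {D : ChevalleyDatum}

/-- orthogonal roots -/
def Orth (D : ChevalleyDatum) (r s : ℕ) : Prop := car D r s = 0

instance orthDecidable (r s : ℕ) : Decidable (Orth D r s) := inferInstanceAs (Decidable (_ = _))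

variable (hD : InList D)

include hD

theorem orth_reflect {i r s : ℕ} (hi : i < D.rank) (hr : r < D.nroots) (hs : s < D.nroots) :
    Orth D (D.reflectRoot i r) (D.reflectRoot i s) ↔ Orth D r s := by
  unfold Orth
  rw [RootWord.car_reflect (RootComb.good_of_mem hD) hi hr hs]

theorem orth_symm {r s : ℕ} (hr : r < D.nroots) (hs : s < D.nroots) (h : Orth D r s) : Orth D s r := by
  have G := RootComb.good_of_mem hD
  refine RootWord.root_induction G (P := fun r => ∀ s, s < D.nroots → Orth D r s → Orth D s r) ?_ ?_ r hr s hs h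
  · intro i hi s hs h
    have h1 : D.cartan i s = 0 := by rw [← RootWord.car_simple G hi]; exact h
    have h2 := (G.reflect_eq_iff hi hs).2 h1
    have h3 := G.co_reflect hi hs hi
    rw [h2, if_pos rfl] at h3
    show car D s (D.simple i) = 0
    omega
  · intro i hi r hr ih s hs h
    have h1 := G.reflect_reflect hi hs
    rw [← h1] at h ⊢
    exact (orth_reflect hD hi (G.reflect_lt hi hs) hr).2
      (ih _ (G.reflect_lt hi hs) ((orth_reflect hD hi hr (G.reflect_lt hi hs)).1 h))

theorem orth_comm {r s : ℕ} (hr : r < D.nroots) (hs : s < D.nroots) : Orth D r s ↔ Orth D s r :=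
  ⟨orth_symm hD hr hs, orth_symm hD hs hr⟩

theorem orth_neg_left {r s : ℕ} (hr : r < D.nroots) : Orth D (D.neg r) s ↔ Orth D r s := by
  unfold Orth
  rw [RootWord.car_neg_left (RootComb.good_of_mem hD) hr, neg_eq_zero]

theorem orth_neg_right {r s : ℕ} (hs : s < D.nroots) : Orth D r (D.neg s) ↔ Orth D r s := by
  unfold Orth
  rw [RootWord.car_neg_right (RootComb.good_of_mem hD) r hs, neg_eq_zero]

variable {K : Type u} [Field K] [CharP K 2]

/-- in characteristic 2 the root elements of orthogonal roots commute -/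
theorem comm_orth {r s : ℕ} (hr : r < D.nroots) (hs : s < D.nroots) (h : Orth D r s) (t u : K) :
    xG hD r t * xG hD s u = xG hD s u * xG hD r t := by
  have G := RootComb.good_of_mem hD
  refine RootWord.root_induction G
    (P := fun r => ∀ s, s < D.nroots → Orth D r s → xG hD r t * xG hD s u = xG hD s u * xG hD r t) ?_ ?_ r hr s hs h
  · intro i hi s hs h
    have h1 : D.cartan i s = 0 := by rw [← RootWord.car_simple G hi]; exact h
    have h2 := orthChk_eq hD
    unfold orthChk at h2
    rw [List.all_eq_true] at h2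
    have h3 := h2 i (List.mem_range.2 hi)
    rw [List.all_eq_true] at h3
    have h4 := h3 s (List.mem_range.2 hs)
    rw [if_pos h1, List.all_eq_true] at h4
    have hne : s ≠ D.simple i := by
      rintro rfl
      rw [G.cartan_simple hi] at h1
      exact absurd h1 (by decide)
    have hne' : s ≠ D.neg (D.simple i) := by
      rintro rfl
      rw [G.cartan_neg hi (G.simple_lt hi), G.cartan_simple hi] at h1
      exact absurd h1 (by decide)
    have h5 := Cfsg.Agent.S1025.result (F := K) D hD (D.simple i) s (G.simple_lt hi) hs hne hne' t u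
    have h6 : wordG hD (D.commWord K (D.simple i) s t u) = 1 := by
      unfold wordG
      refine List.prod_eq_one ?_
      intro x hx
      rw [List.mem_map] at hx
      obtain ⟨c, hc, rfl⟩ := hx
      have hc' : c ∈ (D.commTerms (D.simple i) s).map fun c => (c.1, (c.2.1 : K) * (-t) ^ c.2.2.1 * u ^ c.2.2.2) := hc
      rw [List.mem_map] at hc'
      obtain ⟨d, hd, rfl⟩ := hc'
      have h7 := h4 d hd
      have h8 : d.2.1 % 2 = 0 := by simpa using h7
      have h9 : ((d.2.1 : ℤ) : K) = 0 := by
        obtain ⟨k, hk⟩ := Int.dvd_of_emod_eq_zero h8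
        rw [hk, Int.cast_mul, Int.cast_ofNat, CharTwo.two_eq_zero, zero_mul]
      show xG hD d.1 ((d.2.1 : K) * (-t) ^ d.2.2.1 * u ^ d.2.2.2) = 1
      rw [h9, zero_mul, zero_mul, xG_zero]
    have h7 : xG hD s u * xG hD (D.simple i) t =
        xG hD (D.simple i) t * xG hD s u * wordG hD (D.commWord K (D.simple i) s t u) := by
      apply Units.ext
      rw [Units.val_mul, Units.val_mul, Units.val_mul, coe_wordG, coe_xG, coe_xG]
      exact h5
    rw [h7, h6, mul_one]
  · intro i hi r hr ih s hs h
    have h1 := G.reflect_reflect hi hs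
    have h2 := ih _ (G.reflect_lt hi hs) ((orth_reflect hD hi hr (G.reflect_lt hi hs)).1 (by rw [h1]; exact h))
    have h3 := n_conj hD hi hr t
    have h4 := n_conj hD hi (G.reflect_lt hi hs) u
    rw [h1] at h4
    rw [← h3, ← h4]
    calc nG hD (D.simple i) 1 * xG hD r t * (nG hD (D.simple i) 1)⁻¹ *
          (nG hD (D.simple i) 1 * xG hD (D.reflectRoot i s) u * (nG hD (D.simple i) 1)⁻¹)
        = nG hD (D.simple i) 1 * (xG hD r t * xG hD (D.reflectRoot i s) u) * (nG hD (D.simple i) 1)⁻¹ := by group
      _ = _ := by rw [h2]; group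

theorem comm_orth_n {r s : ℕ} (hr : r < D.nroots) (hs : s < D.nroots) (h : Orth D r s) (t : K) :
    xG hD r t * nG hD s (1 : K) = nG hD s (1 : K) * xG hD r t := by
  have G := RootComb.good_of_mem hD
  rw [nG_eq]
  have h1 : Commute (xG hD r t) (xG hD s 1) := comm_orth hD hr hs h t 1
  have h2 : Commute (xG hD r t) (xG hD (D.neg s) 1) :=
    comm_orth hD hr (RootWord.neg_lt G hs) ((orth_neg_right hD hs).2 h) t 1
  exact h1.mul_right (h2.mul_right h1)

theorem comm_n_n {r s : ℕ} (hr : r < D.nroots) (hs : s < D.nroots) (h : Orth D r s) :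
    nG hD r (1 : K) * nG hD s (1 : K) = nG hD s (1 : K) * nG hD r (1 : K) := by
  have G := RootComb.good_of_mem hD
  rw [nG_eq hD r]
  have h1 : Commute (xG hD r (1 : K)) (nG hD s 1) := comm_orth_n hD hr hs h 1
  have h2 : Commute (xG hD (D.neg r) (1 : K)) (nG hD s 1) :=
    comm_orth_n hD (RootWord.neg_lt G hr) hs ((orth_neg_left hD hr).2 h) 1
  exact h1.mul_left (h2.mul_left h1)

end Orth

/-! ### Lists of pairwise orthogonal roots -/

section Lists

variable {D : ChevalleyDatum}

/-- a list of pairwise orthogonal roots -/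
structure OL (D : ChevalleyDatum) (L : List ℕ) : Prop where
  lt : ∀ r ∈ L, r < D.nroots
  orth : L.Pairwise (Orth D)

theorem OL.nil : OL D [] := ⟨by simp, List.Pairwise.nil⟩

theorem OL.tail {r : ℕ} {L : List ℕ} (h : OL D (r :: L)) : OL D L :=
  ⟨fun s hs => h.lt s (by simp [hs]), (List.pairwise_cons.1 h.orth).2⟩

theorem OL.head {r : ℕ} {L : List ℕ} (h : OL D (r :: L)) : r < D.nroots ∧ ∀ s ∈ L, Orth D r s :=
  ⟨h.lt r (by simp), (List.pairwise_cons.1 h.orth).1⟩

theorem OL.cons {r : ℕ} {L : List ℕ} (h : OL D L) (hr : r < D.nroots) (ho : ∀ s ∈ L, Orth D r s) :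
    OL D (r :: L) :=
  ⟨fun s hs => by rcases List.mem_cons.1 hs with rfl | hs; exacts [hr, h.lt s hs],
    List.pairwise_cons.2 ⟨ho, h.orth⟩⟩

theorem OL.map_reflect (hD : InList D) {i : ℕ} (hi : i < D.rank) {L : List ℕ} (h : OL D L) :
    OL D (L.map (D.reflectRoot i)) := by
  have G := RootComb.good_of_mem hD
  refine ⟨fun r hr => ?_, ?_⟩
  · obtain ⟨s, hs, rfl⟩ := List.mem_map.1 hr
    exact G.reflect_lt hi (h.lt s hs)
  · rw [List.pairwise_map]
    exact h.orth.imp_of_mem fun {a b} ha hb hab => (orth_reflect hD hi (h.lt a ha) (h.lt b hb)).2 hab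

theorem OL.perm (hD : InList D) {L L' : List ℕ} (h : OL D L) (hp : L.Perm L') : OL D L' := by
  refine ⟨fun r hr => h.lt r (hp.mem_iff.2 hr), ?_⟩
  have h1 : L.Pairwise fun r s => Orth D r s ∧ Orth D s r :=
    h.orth.imp_of_mem fun {a b} ha hb hab => ⟨hab, orth_symm hD (h.lt a ha) (h.lt b hb) hab⟩
  exact ((hp.pairwise_iff fun {a b} hab => ⟨hab.2, hab.1⟩).1 h1).imp fun hab => hab.1

theorem OL.map_neg (hD : InList D) {L : List ℕ} (h : OL D L) : OL D (L.map D.neg) := by
  have G := RootComb.good_of_mem hD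
  refine ⟨fun r hr => ?_, ?_⟩
  · obtain ⟨s, hs, rfl⟩ := List.mem_map.1 hr
    exact RootWord.neg_lt G (h.lt s hs)
  · rw [List.pairwise_map]
    exact h.orth.imp_of_mem fun {a b} ha hb hab =>
      (orth_neg_left hD (h.lt a ha)).2 ((orth_neg_right hD (h.lt b hb)).2 hab)

variable (hD : InList D) (K : Type u) [Field K]

/-- the product of the `n_r(1)` -/
def PN (L : List ℕ) : GL D.Idx K := (L.map fun r => nG hD r 1).prod

/-- the product of the `x_r(1)` -/
def PX (L : List ℕ) : GL D.Idx K := (L.map fun r => xG hD r 1).prod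

theorem PN_nil : PN hD K [] = 1 := rfl
theorem PX_nil : PX hD K [] = 1 := rfl
theorem PN_cons (r : ℕ) (L : List ℕ) : PN hD K (r :: L) = nG hD r 1 * PN hD K L := by
  unfold PN; rw [List.map_cons, List.prod_cons]
theorem PX_cons (r : ℕ) (L : List ℕ) : PX hD K (r :: L) = xG hD r 1 * PX hD K L := by
  unfold PX; rw [List.map_cons, List.prod_cons]
theorem PX_append (L L' : List ℕ) : PX hD K (L ++ L') = PX hD K L * PX hD K L' := by
  unfold PX; rw [List.map_append, List.prod_append]

theorem PX_mem (L : List ℕ) : PX hD K L ∈ D.group K := by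
  induction L with
  | nil => exact one_mem _
  | cons r L ih => rw [PX_cons]; exact mul_mem (xG_mem_group hD _ _) ih

theorem PN_mem (L : List ℕ) : PN hD K L ∈ D.group K := by
  induction L with
  | nil => exact one_mem _
  | cons r L ih => rw [PN_cons]; exact mul_mem (nG_mem_group hD _ _) ih

variable [CharP K 2]

variable {hD K}

theorem comm_PX {L : List ℕ} {g : GL D.Idx K} (h : ∀ s ∈ L, g * xG hD s 1 = xG hD s 1 * g) :
    g * PX hD K L = PX hD K L * g := by
  induction L with
  | nil => rw [PX_nil, mul_one, one_mul]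
  | cons s L ih =>
    rw [PX_cons, ← mul_assoc, h s (by simp), mul_assoc, ih fun r hr => h r (by simp [hr]), mul_assoc]

theorem comm_PN {L : List ℕ} {g : GL D.Idx K} (h : ∀ s ∈ L, g * nG hD s 1 = nG hD s 1 * g) :
    g * PN hD K L = PN hD K L * g := by
  induction L with
  | nil => rw [PN_nil, mul_one, one_mul]
  | cons s L ih =>
    rw [PN_cons, ← mul_assoc, h s (by simp), mul_assoc, ih fun r hr => h r (by simp [hr]), mul_assoc]

theorem PX_sq {L : List ℕ} (h : OL D L) : PX hD K L * PX hD K L = 1 := by
  induction L with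
  | nil => rw [PX_nil, mul_one]
  | cons r L ih =>
    have h1 := h.head
    have h2 : xG hD r (1 : K) * PX hD K L = PX hD K L * xG hD r 1 :=
      comm_PX fun s hs => comm_orth hD h1.1 (h.lt s (by simp [hs])) (h1.2 s hs) 1 1
    rw [PX_cons]
    calc xG hD r (1 : K) * PX hD K L * (xG hD r 1 * PX hD K L)
        = xG hD r 1 * (PX hD K L * xG hD r 1) * PX hD K L := by group
      _ = (xG hD r 1 * xG hD r 1) * (PX hD K L * PX hD K L) := by rw [← h2]; group
      _ = 1 := by rw [xG_sq, ih h.tail, mul_one]

theorem PN_sq {L : List ℕ} (h : OL D L) : PN hD K L * PN hD K L = 1 := by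
  induction L with
  | nil => rw [PN_nil, mul_one]
  | cons r L ih =>
    have h1 := h.head
    have h2 : nG hD r (1 : K) * PN hD K L = PN hD K L * nG hD r 1 :=
      comm_PN fun s hs => comm_n_n hD h1.1 (h.lt s (by simp [hs])) (h1.2 s hs)
    rw [PN_cons]
    calc nG hD r (1 : K) * PN hD K L * (nG hD r 1 * PN hD K L)
        = nG hD r 1 * (PN hD K L * nG hD r 1) * PN hD K L := by group
      _ = (nG hD r 1 * nG hD r 1) * (PN hD K L * PN hD K L) := by rw [← h2]; group
      _ = 1 := by rw [nG_sq, ih h.tail, mul_one]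

theorem PN_conj {i : ℕ} (hi : i < D.rank) {L : List ℕ} (h : ∀ r ∈ L, r < D.nroots) :
    nG hD (D.simple i) 1 * PN hD K L * (nG hD (D.simple i) 1)⁻¹ = PN hD K (L.map (D.reflectRoot i)) := by
  induction L with
  | nil => rw [List.map_nil, PN_nil, mul_one, mul_inv_cancel]
  | cons s L ih =>
    rw [List.map_cons, PN_cons, PN_cons, ← ih fun r hr => h r (by simp [hr]), ← n_conj_n hD hi (h s (by simp))]
    group

theorem PX_conj {i : ℕ} (hi : i < D.rank) {L : List ℕ} (h : ∀ r ∈ L, r < D.nroots) :
    nG hD (D.simple i) 1 * PX hD K L * (nG hD (D.simple i) 1)⁻¹ = PX hD K (L.map (D.reflectRoot i)) := by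
  induction L with
  | nil => rw [List.map_nil, PX_nil, mul_one, mul_inv_cancel]
  | cons s L ih =>
    rw [List.map_cons, PX_cons, PX_cons, ← ih fun r hr => h r (by simp [hr]), ← n_conj hD hi (h s (by simp)) 1]
    group

/-- `∏ n_r(1)` is conjugate to `∏ x_{-r}(1)` by `∏ x_r(1)` -/
theorem conj_PN {L : List ℕ} (h : OL D L) :
    PX hD K L * PN hD K L * (PX hD K L)⁻¹ = PX hD K (L.map D.neg) := by
  have G := RootComb.good_of_mem hD
  induction L with
  | nil => rw [List.map_nil, PN_nil, PX_nil, mul_one, mul_inv_cancel]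
  | cons r L ih =>
    have h1 := h.head
    have h2 : nG hD r (1 : K) * PX hD K L = PX hD K L * nG hD r 1 :=
      comm_PX fun s hs => (comm_orth_n hD (h.lt s (by simp [hs])) h1.1
        (orth_symm hD h1.1 (h.lt s (by simp [hs])) (h1.2 s hs)) 1).symm
    have h3 : xG hD r (1 : K) * (PX hD K L * PN hD K L * (PX hD K L)⁻¹) =
        (PX hD K L * PN hD K L * (PX hD K L)⁻¹) * xG hD r (1 : K) := by
      rw [ih h.tail]
      refine comm_PX fun s hs => ?_
      obtain ⟨v, hv, rfl⟩ := List.mem_map.1 hs
      have hv' := h.lt v (by simp [hv])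
      exact comm_orth hD h1.1 (RootWord.neg_lt G hv') ((orth_neg_right hD hv').2 (h1.2 v hv)) 1 1
    have h4 : xG hD r (1 : K) * nG hD r (1 : K) * xG hD r (1 : K) = xG hD (D.neg r) 1 := by
      rw [nG_eq]
      calc xG hD r (1 : K) * (xG hD r 1 * (xG hD (D.neg r) 1 * xG hD r 1)) * xG hD r 1
          = (xG hD r 1 * xG hD r 1) * xG hD (D.neg r) 1 * (xG hD r 1 * xG hD r 1) := by group
        _ = _ := by rw [xG_sq, one_mul, mul_one]
    rw [List.map_cons, PX_cons, PN_cons, PX_cons, ← ih h.tail, mul_inv_rev, xG_inv' hD]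
    calc xG hD r (1 : K) * PX hD K L * (nG hD r 1 * PN hD K L) * ((PX hD K L)⁻¹ * xG hD r 1)
        = xG hD r (1 : K) * (PX hD K L * nG hD r 1) * PN hD K L * (PX hD K L)⁻¹ * xG hD r 1 := by group
      _ = xG hD r (1 : K) * (nG hD r 1 * PX hD K L) * PN hD K L * (PX hD K L)⁻¹ * xG hD r 1 := by rw [h2]
      _ = xG hD r (1 : K) * nG hD r 1 * ((PX hD K L * PN hD K L * (PX hD K L)⁻¹) * xG hD r 1) := by group
      _ = xG hD r (1 : K) * nG hD r 1 * xG hD r 1 * (PX hD K L * PN hD K L * (PX hD K L)⁻¹) := by
        rw [← h3]; group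
      _ = _ := by rw [h4]

end Lists

/-! ### Every involution is a product of orthogonal root elements, up to conjugacy -/

section Main

variable {D : ChevalleyDatum} {l : ℕ} {M : CoxeterMatrix (Fin l)} (hp : IsType D l M)
  {W : Type*} [Group W] (cs : CoxeterSystem M W)

/-- `w` commutes with `s_i` if `w α_i = -α_i` -/
theorem simple_comm_neg [Finite W] {w : W} {i : Fin l} (hi : rep cs hp.isCartan w (sr i) = - sr i) :
    cs.simple i * w = w * cs.simple i := by
  have := Fintype.ofFinite W
  apply rep_injective cs hp.isCartan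
  apply LinearMap.ext
  intro y
  show rep cs hp.isCartan (cs.simple i * w) y = rep cs hp.isCartan (w * cs.simple i) y
  have h1 : pairing (cartanOf D l) i (rep cs hp.isCartan w y) = - pairing (cartanOf D l) i y := by
    have h2 := two_form cs hp.isCartan i (rep cs hp.isCartan w y)
    have h3 : form cs hp.isCartan (rep cs hp.isCartan w y) (sr i) = - form cs hp.isCartan y (sr i) := by
      have h4 : (sr i : Fin l → ℤ) = - rep cs hp.isCartan w (sr i) := by rw [hi, neg_neg]
      conv_lhs => rw [h4]
      rw [form_neg_right, form_rep]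
    rw [h3, mul_neg, two_form cs hp.isCartan i y, ← neg_mul] at h2
    exact (mul_right_cancel₀ (form_pos cs hp.isCartan (sr_ne_zero i)).ne' h2).symm
  rw [rep_mul_apply, rep_mul_apply, rep_simple_eq, rep_simple_eq, map_sub, map_smul, hi, h1, smul_neg, neg_smul]

variable (K : Type u) [Field K] [CharP K 2]

theorem exists_list [Finite W] : ∀ (k : ℕ) (w : W), cs.length w ≤ k → w * w = 1 →
    ∃ L, OL D L ∧ (∀ r ∈ L, rep cs hp.isCartan w (vec D l r) = - vec D l r) ∧
      Rp cs (nsys (K := K) hp) w (PN hp.inList K L) := by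
  have hD := hp.inList
  have G := RootComb.good_of_mem hD
  have := Fintype.ofFinite W
  intro k
  induction k with
  | zero =>
    intro w hk _
    have hw : w = 1 := cs.length_eq_zero_iff.1 (Nat.le_zero.1 hk)
    subst hw
    exact ⟨[], OL.nil, by simp, rp_one⟩
  | succ k ih =>
    intro w hk hww
    by_cases hw1 : w = 1
    · subst hw1
      exact ⟨[], OL.nil, by simp, rp_one⟩
    obtain ⟨i, hi⟩ := cs.exists_rightDescent_of_ne_one hw1
    have hi' : cs.length (w * cs.simple i) < cs.length w := hi
    have hneg : rep cs hp.isCartan w (sr i) ≤ 0 := nonpos_of_lt cs hp.isCartan w i hi'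
    have hwinv : w⁻¹ = w := inv_eq_of_mul_eq_one_left hww
    have hir := lt_rank hp i
    by_cases hA : rep cs hp.isCartan w (sr i) = - sr i
    · have hcm := simple_comm_neg hp cs hA
      have hfix : rep cs hp.isCartan (cs.simple i * w) (sr i) = sr i := by
        rw [rep_mul_apply, hA, map_neg, rep_simple_sr, neg_neg]
      obtain ⟨L, hL, hLr, hLp⟩ := ih (cs.simple i * w) (by rw [hcm]; omega) (by
        calc cs.simple i * w * (cs.simple i * w) = cs.simple i * (w * cs.simple i) * w := by group
          _ = (cs.simple i * cs.simple i) * (w * w) := by rw [← hcm]; group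
          _ = 1 := by rw [hww, cs.simple_mul_simple_self, mul_one])
      have hpair : ∀ r ∈ L, D.cartan i r = 0 := by
        intro r hr
        have h1 := two_form cs hp.isCartan i (vec D l r)
        have h2 : form cs hp.isCartan (vec D l r) (sr i) = - form cs hp.isCartan (vec D l r) (sr i) := by
          conv_lhs => rw [← form_rep cs hp.isCartan (cs.simple i * w), hLr r hr, hfix, form_neg_left]
        have h3 : form cs hp.isCartan (vec D l r) (sr i) = 0 := by linarith
        rw [h3, mul_zero, pairing_vec hp i (hL.lt r hr)] at h1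
        rcases mul_eq_zero.1 h1.symm with h4 | h4
        · exact h4
        · exact absurd h4 (form_pos cs hp.isCartan (sr_ne_zero i)).ne'
      refine ⟨D.simple i :: L, hL.cons (G.simple_lt hir) fun s hs => ?_, ?_, ?_⟩
      · show car D (D.simple i) s = 0
        rw [RootWord.car_simple G hir, hpair s hs]
      · intro r hr
        rcases List.mem_cons.1 hr with rfl | hr
        · rw [vec_simple hp, hA]
        · have h1 : w = cs.simple i * (cs.simple i * w) := by
            rw [← mul_assoc, cs.simple_mul_simple_self, one_mul]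
          rw [h1, rep_mul_apply, hLr r hr, map_neg, rep_simple_eq, pairing_vec hp i (hL.lt r hr), hpair r hr,
            zero_smul, sub_zero]
      · rw [PN_cons]
        have h1 := (rp_simple cs (nsys (K := K) hp) i).mul hLp
        rwa [← mul_assoc, cs.simple_mul_simple_self, one_mul] at h1
    · -- conjugate
      have hroot := ((isRoot_sr cs hp.isCartan i).act w).neg
      have h1 : rep cs hp.isCartan (cs.simple i * w) (sr i) ≤ 0 := by
        have h2 := hroot.simple_nonneg (neg_nonneg.2 hneg) i (fun h => hA (neg_eq_iff_eq_neg.1 h))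
        rw [map_neg, neg_nonneg] at h2
        rw [rep_mul_apply]
        exact h2
      have h2 : cs.length (cs.simple i * w * cs.simple i) < cs.length (cs.simple i * w) := by
        rw [lt_iff cs hp.isCartan]; exact h1
      have h3 : cs.length (cs.simple i * w) = cs.length (w * cs.simple i) := by
        rw [← cs.length_inv, mul_inv_rev, hwinv, cs.inv_simple]
      obtain ⟨L, hL, hLr, hLp⟩ := ih (cs.simple i * w * cs.simple i) (by omega) (by
        calc cs.simple i * w * cs.simple i * (cs.simple i * w * cs.simple i)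
            = cs.simple i * w * (cs.simple i * cs.simple i) * w * cs.simple i := by group
          _ = cs.simple i * (w * w) * cs.simple i := by rw [cs.simple_mul_simple_self]; group
          _ = 1 := by rw [hww, mul_one, cs.simple_mul_simple_self])
      refine ⟨L.map (D.reflectRoot i), hL.map_reflect hD hir, ?_, ?_⟩
      · intro r hr
        obtain ⟨s, hs, rfl⟩ := List.mem_map.1 hr
        have h4 : w = cs.simple i * (cs.simple i * w * cs.simple i) * cs.simple i := by
          calc w = (cs.simple i * cs.simple i) * w * (cs.simple i * cs.simple i) := by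
                rw [cs.simple_mul_simple_self]; group
            _ = _ := by group
        rw [h4, ← rep_vec hp cs i (hL.lt s hs), ← rep_mul_apply, mul_assoc, cs.simple_mul_simple_self, mul_one,
          rep_mul_apply, hLr s hs, map_neg]
      · have h4 := ((rp_simple cs (nsys (K := K) hp) i).mul hLp).mul (rp_simple cs (nsys (K := K) hp) i).inv
        have h5 : cs.simple i * (cs.simple i * w * cs.simple i) * (cs.simple i)⁻¹ = w := by
          rw [cs.inv_simple]
          calc cs.simple i * (cs.simple i * w * cs.simple i) * cs.simple i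
              = (cs.simple i * cs.simple i) * w * (cs.simple i * cs.simple i) := by group
            _ = w := by rw [cs.simple_mul_simple_self]; group
        rw [h5] at h4
        have h6 := PN_conj (hD := hD) (K := K) hir hL.lt
        rw [← h6]
        exact h4

variable {K}

include cs in
/-- **Every involution of a Chevalley group in characteristic 2 is conjugate to a product of root elements `x_r(1)` over
pairwise orthogonal roots.** -/
theorem exists_orth' [Finite K] {t : GL D.Idx K} (ht : t ∈ D.group K) (h2 : t * t = 1) :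
    ∃ g ∈ D.group K, ∃ L, OL D L ∧ g * t * g⁻¹ = PX hp.inList K L := by
  have hD := hp.inList
  have G := RootComb.good_of_mem hD
  have hW : Finite W := finite_W hp cs
  have hpr : Fact (Nat.Prime 2) := ⟨Nat.prime_two⟩
  have R := rgd_GL (K := K) hp cs 2
  have hGG : GG cs hp.isCartan (D.diagonalSubgroup K) (XV D l K) = D.group K := by
    apply le_antisymm
    · refine sup_le (diagonal_le_group hD K) ?_
      refine iSup_le fun x => ?_
      exact XV_le_group hp x.1
    · rw [group_le_iff hD]
      intro r hr t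
      have h1 : xG hD r t ∈ XV D l K (vec D l r) := by
        rw [XV_vec hp K hr]; exact xG_mem_rootSubgroup hD r t
      exact X_le_GG (isRoot_vec hp cs hr) h1
  obtain ⟨y, hy, w, -, hww, hyw⟩ := exists_conj_rp R (hGG ▸ ht) h2
  obtain ⟨L, hL, -, hLp⟩ := exists_list hp cs K (cs.length w) w le_rfl hww
  have h3 : (y * t * y⁻¹) * (y * t * y⁻¹) = 1 := by
    calc (y * t * y⁻¹) * (y * t * y⁻¹) = y * (t * t) * y⁻¹ := by group
      _ = 1 := by rw [h2, mul_one, mul_inv_cancel]
  obtain ⟨s, hs, hs'⟩ := conj_of_rp (tcop hp 2) hyw hLp h3 (PN_sq hL)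
  refine ⟨PX hD K L * s * y, ?_, L.map D.neg, hL.map_neg hD, ?_⟩
  · exact mul_mem (mul_mem (PX_mem hD K L) (diagonal_le_group hD K hs)) (hGG ▸ hy)
  · rw [← conj_PN hL, ← hs']
    group

end Main

end Cfsg.Agent.H83.ChevInv
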