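import Mathlib
import Cfsg.Agent.H83.Disp
import Cfsg.Agent.H83.OrthRed
import Cfsg.Agent.Nodes.RGDFold
set_option linter.all false

-- part: H83/ExtWord
section
/-!
The elements `w` of a finite Weyl group with `w α_i = α_i` or `w α_i < 0` for all `i` from explicit words (helper83).

* `eq_of_words` : such an element `w` with set of fixed nodes `K` is `υ` as soon as `υ κ` sends all simple roots to
  negative roots, for some `κ ∈ W_K` sending the simple roots of `K` to negative roots;
* `act` : the action of a word on vectors, computable; `rep_wordProd`.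
-/

set_option autoImplicit false
set_option linter.unusedSectionVars false

namespace Cfsg.Agent.H83.ExtWord

open CoxeterSystem Cfsg.Agent.ChevalleyStructure.CoxeterGeom Cfsg.Agent.Tits.Roots Cfsg.Agent.Tits.Core
  Cfsg.Agent.Tits.Exchange Cfsg.Agent.Nodes.Reps Cfsg.Agent.Nodes.BNOf Cfsg.Agent.Nodes.StabComb
  Cfsg.Agent.Nodes.Bruhat Cfsg.Agent.Nodes.OppDec Cfsg.Agent.H83.Disp

variable {I W : Type*} [Fintype I] [DecidableEq I] [Group W] {M : CoxeterMatrix I}
  {cs : CoxeterSystem M W} {A : I → I → ℤ} {h : IsCartan M A}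

/-- an element sending all simple roots to negative roots sends all positive roots to negative roots -/
theorem neg_of_simple {v : W} (hv : ∀ i, rep cs h v (sr i) ≤ 0) {x : I → ℤ} (hx : 0 ≤ x) : rep cs h v x ≤ 0 := by
  rw [eq_sum x, map_sum]
  refine Finset.sum_nonpos fun k _ => ?_
  rw [map_smul]
  exact smul_nonpos_of_nonneg_of_nonpos (hx k) (hv k)

/-- such an element is unique -/
theorem eq_of_neg {v v' : W} (hv : ∀ i, rep cs h v (sr i) ≤ 0) (hv' : ∀ i, rep cs h v' (sr i) ≤ 0) : v = v' := by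
  have h1 : v * v'⁻¹ = 1 := by
    refine eq_one_of_nonneg cs h _ fun i => ?_
    show 0 ≤ rep cs h (v * v'⁻¹) (sr i)
    rw [rep_mul_apply]
    have hroot := (isRoot_sr cs h i).act v'⁻¹
    have h2 : rep cs h v'⁻¹ (sr i) ≤ 0 := by
      rcases hroot.pos_or_neg with h3 | h3
      · exfalso
        have h4 := neg_of_simple hv' h3
        rw [rep_apply_inv] at h4
        exact sr_ne_zero i (le_antisymm h4 (sr_nonneg i))
      · exact h3
    have h3 := neg_of_simple hv (neg_nonneg.2 h2)
    rw [map_neg] at h3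
    exact neg_nonpos.1 h3
  exact mul_inv_eq_one.1 h1

theorem rep_word_off {K : Set I} {κ : List I} (hκ : ∀ i ∈ κ, i ∈ K) (x : I → ℤ) {k : I} (hk : k ∉ K) :
    rep cs h (cs.wordProd κ) x k = x k := by
  induction κ with
  | nil => rw [wordProd_nil, map_one, Module.End.one_apply]
  | cons i κ ih =>
    have hi := hκ i (by simp)
    rw [wordProd_cons, rep_mul_apply, rep_simple_apply, ih fun j hj => hκ j (by simp [hj])]
    rintro rfl
    exact hk hi

/-- **An extremal element is determined by its fixed nodes.** -/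
theorem eq_of_words {w υ : W} (hw : Ext cs h w) {κ : List I} (hκ : ∀ i ∈ κ, i ∈ FixJ cs h w)
    (hneg : ∀ i ∈ FixJ cs h w, rep cs h (cs.wordProd κ) (sr i) ≤ 0)
    (hυ : ∀ i, rep cs h (υ * cs.wordProd κ) (sr i) ≤ 0) : w = υ := by
  have h1 : ∀ i, rep cs h (w * cs.wordProd κ) (sr i) ≤ 0 := by
    intro i
    rw [rep_mul_apply]
    have hroot := (isRoot_sr cs h i).act (cs.wordProd κ)
    by_cases hi : i ∈ FixJ cs h w
    · have h2 : ∀ k, k ∉ FixJ cs h w → rep cs h (cs.wordProd κ) (sr i) k = 0 := by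
        intro k hk
        rw [rep_word_off hκ _ hk]
        exact sr_ne (by rintro rfl; exact hk hi)
      rw [rep_fix h2]
      exact hneg i hi
    · have h2 : rep cs h (cs.wordProd κ) (sr i) i = 1 := by
        rw [rep_word_off hκ _ hi, sr_self]
      have h3 : 0 ≤ rep cs h (cs.wordProd κ) (sr i) := by
        rcases hroot.pos_or_neg with h4 | h4
        · exact h4
        · exfalso
          have := h4 i
          rw [h2] at this
          exact absurd this (by norm_num)
      have h4 : ¬ 0 ≤ rep cs h w (rep cs h (cs.wordProd κ) (sr i)) := by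
        intro h5
        have h6 : rep cs h (cs.wordProd κ) (sr i) ∈ PW cs h w := ⟨hroot, h3, h5⟩
        rw [PW_eq hw] at h6
        have h7 := h6.2.2 i hi
        rw [h2] at h7
        exact one_ne_zero h7
      exact ((hroot.act w).not_nonneg_iff).1 h4
  have h2 := eq_of_neg h1 hυ
  exact mul_right_cancel h2

/-! ### Computation -/

/-- the action of a word -/
def act (A : I → I → ℤ) (ω : List I) (x : I → ℤ) : I → ℤ :=
  ω.foldr (fun i y => y - pairing A i y • sr i) x

theorem act_nil (x : I → ℤ) : act A [] x = x := rfl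

theorem act_cons (i : I) (ω : List I) (x : I → ℤ) : act A (i :: ω) x = act A ω x - pairing A i (act A ω x) • sr i :=
  rfl

theorem rep_wordProd (ω : List I) (x : I → ℤ) : rep cs h (cs.wordProd ω) x = act A ω x := by
  induction ω with
  | nil => rw [wordProd_nil, map_one, Module.End.one_apply, act_nil]
  | cons i ω ih => rw [wordProd_cons, rep_mul_apply, ih, rep_simple_eq, act_cons]

end Cfsg.Agent.H83.ExtWord
end

-- part: H83/FoldInv
section
/-!
Involutions of the twisted groups obtained by folding, characteristic 2 (helper83).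

* `EqvG G L L'` : the products `PX L`, `PX L'` are conjugate in the subgroup `G` of `GL`;
* `exists_list` : every involution of the twisted group `G` is conjugate in `G` to `PX L` for `L` in an explicit
  finite list, from the table checks `tabchk`.
-/

set_option autoImplicit false
set_option linter.unusedSectionVars false
set_option maxHeartbeats 400000

namespace Cfsg.Agent.H83.FoldInv

open CoxeterSystem Cfsg.Agent.ChevalleyStructure.CoxeterGeom Cfsg.Agent.Tits.Roots Cfsg.Agent.Tits.Core
  Cfsg.Agent.Nodes.Reps Cfsg.Agent.Nodes.BNOf Cfsg.Agent.Nodes.RGDChev Cfsg.Agent.Nodes.Bruhat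
  Cfsg.Agent.Nodes.RGDFold Cfsg.Agent.H83.Disp Cfsg.Agent.H83.ExtWord
open Cfsg.Lie Cfsg.Agent.ChevalleyStructure Cfsg.Agent.ChevalleyStructure.Elts
  Cfsg.Agent.ChevalleyStructure.RootCombGood Cfsg.Agent.ChevalleyStructure.NPerm
  Cfsg.Agent.H83.ChevInv Cfsg.Agent.H83.OrthRed

universe u

section Comb

variable {l m : ℕ}

/-- the simple roots of a block -/
def sblk (D : ChevalleyDatum) (o : List (Fin l)) : List ℕ := o.map fun a : Fin l => D.simple (a : ℕ)

/-- the action of a word of blocks on the roots -/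
def bact (D : ChevalleyDatum) (J : Fin m → List (Fin l)) (ω : List (Fin m)) (r : ℕ) : ℕ :=
  ω.foldr (fun i r => wp D (J i) r) r

/-- a list of relative reflections `(ω, i)`: the reflection `ω s_i ω⁻¹` -/
abbrev Refs (m : ℕ) := List (List (Fin m) × Fin m)

/-- the roots of a list of relative reflections -/
def rl (D : ChevalleyDatum) (J : Fin m → List (Fin l)) (refs : Refs m) : List ℕ :=
  refs.flatMap fun p => (sblk D (J p.2)).map (bact D J p.1)

/-- the word of a list of relative reflections -/
def rwd (refs : Refs m) : List (Fin m) := refs.flatMap fun p => p.1 ++ [p.2] ++ p.1.reverse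

/-- a root over the simple relative root of the block `i` -/
def hd (D : ChevalleyDatum) (J : Fin m → List (Fin l)) (i : Fin m) : ℕ := (sblk D (J i)).headD 0

/-- `κ` is a word in `K` sending the simple roots of `K` to negative roots, `υ κ` sends all to negative roots -/
def lchk (D : ChevalleyDatum) (J : Fin m → List (Fin l)) (K υ κ : List (Fin m)) : Bool :=
  κ.all (fun i => decide (i ∈ K)) &&
    K.all (fun i => (List.finRange m).all fun k => decide (V D J (bact D J κ (hd D J i)) k ≤ 0)) &&
    (List.finRange m).all (fun i => (List.finRange m).all fun k => decide (V D J (bact D J (υ ++ κ) (hd D J i)) k ≤ 0))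

/-- `υ` moves a node of `K` -/
def bchk (D : ChevalleyDatum) (J : Fin m → List (Fin l)) (K υ : List (Fin m)) : Bool :=
  K.any fun i => (List.finRange m).any fun k => decide (V D J (bact D J υ (hd D J i)) k ≠ sr i k)

/-- the table check -/
def tabchk (D : ChevalleyDatum) (J : Fin m → List (Fin l))
    (good : List (List (Fin m) × Refs m × List (Fin m))) (bad : List (List (Fin m) × List (Fin m) × List (Fin m))) :
    Bool :=
  (List.finRange m).sublists.all (fun K => good.any (fun e => decide (e.1 = K)) || bad.any (fun e => decide (e.1 = K)))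
    && good.all (fun e => lchk D J e.1 (rwd e.2.1) e.2.2 && decide (∀ r ∈ rl D J e.2.1, r < D.nroots) &&
      decide ((rl D J e.2.1).Pairwise (Orth D)))
    && bad.all (fun e => lchk D J e.1 e.2.1 e.2.2 && bchk D J e.1 e.2.1)
    && (List.finRange m).all (fun i => decide (hd D J i < D.nroots) &&
      (List.finRange m).all fun k => decide (V D J (hd D J i) k = sr i k))

end Comb

/-! ### Conjugacy in a subgroup -/

section EqvG

variable {D : ChevalleyDatum} (hD : InList D) (K : Type u) [Field K] (G : Subgroup (GL D.Idx K))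

/-- the products over `L` and `L'` are conjugate in `G` -/
def EqvG (L L' : List ℕ) : Prop := ∃ g ∈ G, g * PX hD K L * g⁻¹ = PX hD K L'

variable {hD K G}

theorem EqvG.refl (L : List ℕ) : EqvG hD K G L L := ⟨1, one_mem _, by group⟩

theorem EqvG.symm {L L' : List ℕ} (h : EqvG hD K G L L') : EqvG hD K G L' L := by
  obtain ⟨g, hg, e⟩ := h
  exact ⟨g⁻¹, inv_mem hg, by rw [← e]; group⟩

theorem EqvG.trans {L L' L'' : List ℕ} (h : EqvG hD K G L L') (h' : EqvG hD K G L' L'') : EqvG hD K G L L'' := by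
  obtain ⟨g, hg, e⟩ := h
  obtain ⟨k, hk, e'⟩ := h'
  exact ⟨k * g, mul_mem hk hg, by rw [← e', ← e]; group⟩

theorem EqvG.perm [CharP K 2] {L L' : List ℕ} (h : OL D L) (hp : L.Perm L') : EqvG hD K G L L' :=
  ⟨1, one_mem _, by rw [PX_perm h hp]; group⟩

end EqvG

/-! ### The monomial elements -/

section Fold

variable {D : ChevalleyDatum} {l : ℕ} {M' : CoxeterMatrix (Fin l)} {hp : IsType D l M'} {K : Type u} [Field K]
  {m : ℕ} {M : CoxeterMatrix (Fin m)} {W : Type*} [Group W] (cs : CoxeterSystem M W)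
  {A : Fin m → Fin m → ℤ} (h : IsCartan M A)
  {J : Fin m → List (Fin l)} {L : List (List ℕ)} {σ : GL D.Idx K →* GL D.Idx K} {ρ ρ' : ℕ → ℕ}
    {f : ℕ → K → K} {G : Subgroup (GL D.Idx K)} (FD : FoldData D M A J L)
    (FG : FoldGrp hp K J L σ ρ ρ' f G)

theorem nI_eq_PN (o : List (Fin l)) : nI hp K o = PN hp.inList K (sblk D o) := by
  unfold nI PN sblk
  rw [List.map_map]
  rfl

theorem PN_append (L L' : List ℕ) : PN hp.inList K (L ++ L') = PN hp.inList K L * PN hp.inList K L' := by
  unfold PN
  rw [List.map_append, List.prod_append]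

variable [CharP K 2]

theorem nI_conj_PN (o : List (Fin l)) {L : List ℕ} (hL : ∀ r ∈ L, r < D.nroots) :
    nI hp K o * PN hp.inList K L * (nI hp K o)⁻¹ = PN hp.inList K (L.map (wp D o)) := by
  induction o with
  | nil =>
    have : L.map (wp D ([] : List (Fin l))) = L := by
      rw [show (wp D ([] : List (Fin l))) = id from rfl, List.map_id]
    rw [this]
    show 1 * _ * 1⁻¹ = _
    group
  | cons j o ih =>
    rw [nI_cons, mul_inv_rev]
    have h1 := PN_conj (hD := hp.inList) (K := K) (i := (j : ℕ)) (lt_rank hp j) (L := L.map (wp D o)) fun r hr => by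
      obtain ⟨s, hs, rfl⟩ := List.mem_map.1 hr
      exact wp_lt hp o (hL s hs)
    rw [List.map_map] at h1
    calc nn hp K j * nI hp K o * PN hp.inList K L * ((nI hp K o)⁻¹ * (nn hp K j)⁻¹)
        = nn hp K j * (nI hp K o * PN hp.inList K L * (nI hp K o)⁻¹) * (nn hp K j)⁻¹ := by group
      _ = _ := by rw [ih]; exact h1

theorem nI_conj_PX (o : List (Fin l)) {L : List ℕ} (hL : ∀ r ∈ L, r < D.nroots) :
    nI hp K o * PX hp.inList K L * (nI hp K o)⁻¹ = PX hp.inList K (L.map (wp D o)) := by
  induction o with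
  | nil =>
    have : L.map (wp D ([] : List (Fin l))) = L := by
      rw [show (wp D ([] : List (Fin l))) = id from rfl, List.map_id]
    rw [this]
    show 1 * _ * 1⁻¹ = _
    group
  | cons j o ih =>
    rw [nI_cons, mul_inv_rev]
    have h1 := PX_conj (hD := hp.inList) (K := K) (i := (j : ℕ)) (lt_rank hp j) (L := L.map (wp D o)) fun r hr => by
      obtain ⟨s, hs, rfl⟩ := List.mem_map.1 hr
      exact wp_lt hp o (hL s hs)
    rw [List.map_map] at h1
    calc nn hp K j * nI hp K o * PX hp.inList K L * ((nI hp K o)⁻¹ * (nn hp K j)⁻¹)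
        = nn hp K j * (nI hp K o * PX hp.inList K L * (nI hp K o)⁻¹) * (nn hp K j)⁻¹ := by group
      _ = _ := by rw [ih]; exact h1

include FG in
/-- a word of blocks -/
theorem EqvG.bword (ω : List (Fin m)) {L : List ℕ} (hL : ∀ r ∈ L, r < D.nroots) :
    EqvG hp.inList K G L (L.map (bact D J ω)) := by
  induction ω with
  | nil =>
    have : L.map (bact D J []) = L := by
      rw [show (bact D J []) = id from rfl, List.map_id]
    rw [this]
    exact EqvG.refl L
  | cons i ω ih =>
    refine ih.trans ⟨nI hp K (J i), FG.nG i, ?_⟩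
    rw [nI_conj_PX (J i) fun r hr => ?_, List.map_map]
    · rfl
    · obtain ⟨s, hs, rfl⟩ := List.mem_map.1 hr
      have key : ∀ ω : List (Fin m), bact D J ω s < D.nroots := by
        intro ω
        induction ω with
        | nil => exact hL s hs
        | cons i ω ih => exact wp_lt hp (J i) ih
      exact key ω

include hp in
theorem bact_lt (ω : List (Fin m)) {r : ℕ} (hr : r < D.nroots) : bact D J ω r < D.nroots := by
  induction ω with
  | nil => exact hr
  | cons i ω ih => exact wp_lt hp (J i) ih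

include hp in
theorem sblk_lt (o : List (Fin l)) : ∀ r ∈ sblk D o, r < D.nroots := by
  intro r hr
  obtain ⟨a, -, rfl⟩ := List.mem_map.1 hr
  exact simple_lt hp.inList (lt_rank hp a)

section Rp

variable {T : Subgroup (GL D.Idx K)} {hN : NSys M T fun i => nI hp K (J i)}

theorem rp_conj (ω : List (Fin m)) {w : W} {L : List ℕ} (hL : ∀ r ∈ L, r < D.nroots)
    (hw : Rp cs hN w (PN hp.inList K L)) :
    Rp cs hN (cs.wordProd ω * w * (cs.wordProd ω)⁻¹) (PN hp.inList K (L.map (bact D J ω))) := by
  induction ω with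
  | nil =>
    have : L.map (bact D J []) = L := by
      rw [show (bact D J []) = id from rfl, List.map_id]
    rw [this, wordProd_nil, one_mul, inv_one, mul_one]
    exact hw
  | cons i ω ih =>
    have h1 := ((rp_simple cs hN i).mul ih).mul (rp_simple cs hN i).inv
    have h2 := nI_conj_PN (hp := hp) (K := K) (J i) (L := L.map (bact D J ω)) fun r hr => by
      obtain ⟨s, hs, rfl⟩ := List.mem_map.1 hr
      exact bact_lt (hp := hp) ω (hL s hs)
    rw [List.map_map] at h2
    have h3 : cs.simple i * (cs.wordProd ω * w * (cs.wordProd ω)⁻¹) * (cs.simple i)⁻¹ =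
        cs.wordProd (i :: ω) * w * (cs.wordProd (i :: ω))⁻¹ := by
      rw [wordProd_cons]; group
    rw [h3] at h1
    exact h2 ▸ h1

theorem rp_refs (refs : Refs m) : Rp cs hN (cs.wordProd (rwd refs)) (PN hp.inList K (rl D J refs)) := by
  induction refs with
  | nil => exact rp_one
  | cons p refs ih =>
    have h1 : Rp cs hN (cs.simple p.2) (PN hp.inList K (sblk D (J p.2))) := by
      rw [← nI_eq_PN]
      exact rp_simple cs hN p.2
    have h2 := rp_conj cs p.1 (sblk_lt (hp := hp) (J p.2)) h1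
    have h3 : cs.wordProd (rwd (p :: refs)) =
        cs.wordProd p.1 * cs.simple p.2 * (cs.wordProd p.1)⁻¹ * cs.wordProd (rwd refs) := by
      show cs.wordProd ((p.1 ++ [p.2] ++ p.1.reverse) ++ rwd refs) = _
      rw [wordProd_append, wordProd_append, wordProd_append, wordProd_reverse, wordProd_singleton]
    have h4 : PN hp.inList K (rl D J (p :: refs)) =
        PN hp.inList K ((sblk D (J p.2)).map (bact D J p.1)) * PN hp.inList K (rl D J refs) :=
      PN_append (hp := hp) _ _
    rw [h3, h4]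
    exact h2.mul ih

end Rp

include FG in
theorem PX_rl_mem (hx : ∀ i, PX hp.inList K (sblk D (J i)) ∈ G) (refs : Refs m) :
    PX hp.inList K (rl D J refs) ∈ G := by
  induction refs with
  | nil => exact one_mem _
  | cons p refs ih =>
    have h4 : PX hp.inList K (rl D J (p :: refs)) =
        PX hp.inList K ((sblk D (J p.2)).map (bact D J p.1)) * PX hp.inList K (rl D J refs) :=
      PX_append _ _ _ _
    rw [h4]
    refine mul_mem ?_ ih
    obtain ⟨g, hg, e⟩ := EqvG.bword (hp := hp) FG p.1 (sblk_lt (hp := hp) (J p.2))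
    rw [← e]
    exact mul_mem (mul_mem hg (hx p.2)) (inv_mem hg)

include FD FG h cs in
/-- **Every involution of the twisted group is conjugate to one of the products of the table.** -/
theorem exists_list [Finite K] {good : List (List (Fin m) × Refs m × List (Fin m))}
    {bad : List (List (Fin m) × List (Fin m) × List (Fin m))} (htab : tabchk D J good bad = true)
    (hx : ∀ i, PX hp.inList K (sblk D (J i)) ∈ G) {t : GL D.Idx K} (ht : t ∈ G) (h2 : t * t = 1) :
    ∃ e ∈ good, ∃ g ∈ G, OL D ((rl D J e.2.1).map D.neg) ∧ g * t * g⁻¹ = PX hp.inList K ((rl D J e.2.1).map D.neg) := by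
  classical
  have hW : Finite W := finite_W (hp := hp) cs h FD
  have hpr : Fact (Nat.Prime 2) := ⟨Nat.prime_two⟩
  have Rg := rgd_GL (K := K) cs h FD FG 2
  have hGG : GG cs h (D.diagonalSubgroup K ⊓ G) (R D hp K J σ) = G := by
    apply le_antisymm
    · refine sup_le inf_le_right ?_
      refine iSup_le fun x => ?_
      exact R_le cs h FD FG 2 x.2
    · refine FG.gen.trans (iSup_le fun i => sup_le ?_ ?_)
      · exact X_le_GG (isRoot_sr cs h i)
      · exact X_le_GG (isRoot_sr cs h i).neg
  obtain ⟨y, hy, w, hE, hww, hyw⟩ := exists_conj_rp Rg (by rw [hGG]; exact ht) h2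
  rw [hGG] at hy
  unfold tabchk at htab
  rw [Bool.and_eq_true, Bool.and_eq_true, Bool.and_eq_true, List.all_eq_true, List.all_eq_true, List.all_eq_true,
    List.all_eq_true] at htab
  obtain ⟨⟨⟨hcov, hgood⟩, hbad⟩, hhd⟩ := htab
  have hrep : ∀ (ω : List (Fin m)) (i : Fin m), rep cs h (cs.wordProd ω) (sr i) = V D J (bact D J ω (hd D J i)) := by
    intro ω i
    have h3 := hhd i (List.mem_finRange i)
    rw [Bool.and_eq_true, decide_eq_true_eq, List.all_eq_true] at h3
    have h4 : V D J (hd D J i) = sr i := funext fun k => of_decide_eq_true (h3.2 k (List.mem_finRange k))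
    have h5 : ∀ ω : List (Fin m), bact D J ω (hd D J i) < D.nroots := fun ω => bact_lt (hp := hp) ω h3.1
    induction ω with
    | nil => rw [wordProd_nil, map_one, Module.End.one_apply]; exact h4.symm
    | cons j ω ih => rw [wordProd_cons, rep_mul_apply, ih, rep_refl]; exact (FD.wp_V _ (h5 ω) j).symm
  set Kl : List (Fin m) := (List.finRange m).filter fun i => decide (i ∈ FixJ cs h w) with hKl
  have hKmem : ∀ i, i ∈ Kl ↔ i ∈ FixJ cs h w := by
    intro i
    rw [hKl, List.mem_filter, decide_eq_true_eq]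
    exact ⟨fun h => h.2, fun h => ⟨List.mem_finRange i, h⟩⟩
  have hcov' := hcov Kl (List.mem_sublists.2 List.filter_sublist)
  -- the consequence of `lchk`
  have hl : ∀ υ κ : List (Fin m), lchk D J Kl υ κ = true → w = cs.wordProd υ := by
    intro υ κ hc
    unfold lchk at hc
    rw [Bool.and_eq_true, Bool.and_eq_true, List.all_eq_true, List.all_eq_true, List.all_eq_true] at hc
    obtain ⟨⟨h3, h4⟩, h5⟩ := hc
    refine eq_of_words hE (κ := κ) (fun i hi => (hKmem i).1 (of_decide_eq_true (h3 i hi))) ?_ ?_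
    · intro i hi k
      rw [hrep]
      have := h4 i ((hKmem i).2 hi)
      rw [List.all_eq_true] at this
      exact of_decide_eq_true (this k (List.mem_finRange k))
    · intro i k
      rw [← wordProd_append, hrep]
      have := h5 i (List.mem_finRange i)
      rw [List.all_eq_true] at this
      exact of_decide_eq_true (this k (List.mem_finRange k))
  rw [Bool.or_eq_true, List.any_eq_true, List.any_eq_true] at hcov'
  rcases hcov' with ⟨e, he, he'⟩ | ⟨e, he, he'⟩
  · have he1 : e.1 = Kl := of_decide_eq_true he'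
    have h3 := hgood e he
    rw [Bool.and_eq_true, Bool.and_eq_true, he1, decide_eq_true_eq, decide_eq_true_eq] at h3
    have hO : OL D (rl D J e.2.1) := ⟨h3.1.2, h3.2⟩
    have hw := hl _ _ h3.1.1
    have hrp := rp_refs (hp := hp) (K := K) (J := J) cs (hN := Rg.nsys) e.2.1
    rw [← hw] at hrp
    have h4 : (y * t * y⁻¹) * (y * t * y⁻¹) = 1 := by
      calc (y * t * y⁻¹) * (y * t * y⁻¹) = y * (t * t) * y⁻¹ := by group
        _ = 1 := by rw [h2, mul_one, mul_inv_cancel]
    obtain ⟨s, hs, hs'⟩ := conj_of_rp Rg.tcop hyw hrp h4 (PN_sq hO)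
    refine ⟨e, he, PX hp.inList K (rl D J e.2.1) * s * y, ?_, hO.map_neg hp.inList, ?_⟩
    · exact mul_mem (mul_mem (PX_rl_mem FG hx _) hs.2) hy
    · rw [← conj_PN hO, ← hs']
      group
  · exfalso
    have he1 : e.1 = Kl := of_decide_eq_true he'
    have h3 := hbad e he
    rw [Bool.and_eq_true, he1] at h3
    have hw := hl _ _ h3.1
    have h4 := h3.2
    unfold bchk at h4
    rw [List.any_eq_true] at h4
    obtain ⟨i, hi, h5⟩ := h4
    rw [List.any_eq_true] at h5
    obtain ⟨k, -, h6⟩ := h5
    refine of_decide_eq_true h6 ?_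
    have h7 : rep cs h w (sr i) = sr i := (hKmem i).1 hi
    rw [hw, hrep] at h7
    rw [h7]

end Fold

end Cfsg.Agent.H83.FoldInv
end

-- part: H83/FoldRel
section
/-!
Relations between products of root elements in twisted groups, characteristic 2 (helper83).

* `EqvG.d4` : the `D₄` relation `x_a x_b x_c x_d ~ x_a x_b x_c`;
* `EqvG.b2` : the relation `x_c x_d ~ x_a x_ā` (`a = d + b`, `ā = d + b̄`, `c = d + b + b̄`).
-/

set_option autoImplicit false
set_option linter.unusedSectionVars false
set_option maxHeartbeats 400000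

namespace Cfsg.Agent.H83.FoldRel

open Cfsg.Lie Cfsg.Agent.ChevalleyStructure Cfsg.Agent.ChevalleyStructure.Elts
  Cfsg.Agent.ChevalleyStructure.RootCombGood Cfsg.Agent.H83.ChevInv Cfsg.Agent.H83.OrthRed Cfsg.Agent.H83.FoldInv

universe u

variable {D : ChevalleyDatum} (hD : InList D) {K : Type u} [Field K] [CharP K 2] {G : Subgroup (GL D.Idx K)}

/-- **The `D₄` relation** in a subgroup. -/
theorem EqvG.d4 {a b c z d : ℕ} (h : d4chk D a b c z d = true) {L : List ℕ} (hL : OL D (a :: b :: c :: d :: L))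
    (hz : z < D.nroots) (hzL : ∀ e ∈ L, Orth D z e) (hzG : xG hD z (1 : K) ∈ G) (hG : PX hD K [a, b, c] ∈ G) :
    EqvG hD K G (a :: b :: c :: d :: L) (a :: b :: c :: L) := by
  refine EqvG.symm ?_
  have habc : PX hD K [a, b, c] = xG hD a 1 * xG hD b 1 * xG hD c 1 := by
    rw [PX_cons, PX_cons, PX_cons, PX_nil, mul_one, mul_assoc]
  set s : GL D.Idx K := xG hD z 1 * (xG hD a 1 * xG hD b 1 * xG hD c 1) * xG hD z 1 with hs
  refine ⟨s, ?_, ?_⟩
  · rw [hs, ← habc]
    exact mul_mem (mul_mem hzG hG) hzG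
  · have h1 : s * PX hD K L = PX hD K L * s := by
      refine comm_PX fun e he => ?_
      have he' := hL.lt e (by simp [he])
      have q1 := hL.head
      have q2 := hL.tail.head
      have q3 := hL.tail.tail.head
      have e1 : Commute (xG hD z (1 : K)) (xG hD e 1) := comm_orth hD hz he' (hzL e he) 1 1
      have e2 : Commute (xG hD a (1 : K)) (xG hD e 1) := comm_orth hD q1.1 he' (q1.2 e (by simp [he])) 1 1
      have e3 : Commute (xG hD b (1 : K)) (xG hD e 1) := comm_orth hD q2.1 he' (q2.2 e (by simp [he])) 1 1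
      have e4 : Commute (xG hD c (1 : K)) (xG hD e 1) := comm_orth hD q3.1 he' (q3.2 e (by simp [he])) 1 1
      exact (e1.mul_left ((e2.mul_left e3).mul_left e4)).mul_left e1
    have h2 := d4_conj hD (K := K) h
    rw [← hs] at h2
    simp only [PX_cons]
    calc s * (xG hD a 1 * (xG hD b 1 * (xG hD c 1 * PX hD K L))) * s⁻¹
        = (s * (xG hD a 1 * xG hD b 1 * xG hD c 1) * s⁻¹) * (s * PX hD K L * s⁻¹) := by group
      _ = (xG hD a 1 * xG hD b 1 * xG hD c 1 * xG hD d 1) * PX hD K L := by
        rw [h2, h1, mul_inv_cancel_right]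
      _ = _ := by group

/-! ### Relations with parameters -/

/-- `add` with exponents `(1, 1)` -/
def add1 (D : ChevalleyDatum) (r s k : ℕ) : Bool :=
  decide (r < D.nroots) && decide (s < D.nroots) && decide (s ≠ r) && decide (s ≠ D.neg r) &&
    match D.commTerms r s with
    | [] => false
    | [c] => decide (c.1 = k) && decide (c.2.1 % 2 = 1) && decide (c.2.2.1 = 1) && decide (c.2.2.2 = 1)
    | _ :: _ :: _ => false

theorem xs_xr' {r s : ℕ} (hr : r < D.nroots) (hs : s < D.nroots) (hne : s ≠ r) (hne' : s ≠ D.neg r) (t u : K) :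
    xG hD s u * xG hD r t = xG hD r t * xG hD s u * wordG hD (D.commWord K r s t u) := by
  have h5 := Cfsg.Agent.S1025.result (F := K) D hD r s hr hs hne hne' t u
  apply Units.ext
  rw [Units.val_mul, Units.val_mul, Units.val_mul, coe_wordG, coe_xG, coe_xG]
  exact h5

theorem of_add1 {r s k : ℕ} (h : add1 D r s k = true) (t u : K) :
    xG hD r t * xG hD s u * xG hD r t = xG hD s u * xG hD k (t * u) := by
  unfold add1 at h
  rw [Bool.and_eq_true, Bool.and_eq_true, Bool.and_eq_true, Bool.and_eq_true, decide_eq_true_eq, decide_eq_true_eq,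
    decide_eq_true_eq, decide_eq_true_eq] at h
  obtain ⟨⟨⟨⟨hr, hs⟩, hne⟩, hne'⟩, h1⟩ := h
  have h2 := xs_xr' hD (K := K) hr hs hne hne' t u
  have h3 : D.commWord K r s t u =
    (D.commTerms r s).map fun c => (c.1, (c.2.1 : K) * (-t) ^ c.2.2.1 * u ^ c.2.2.2) := rfl
  rw [h3] at h2
  rcases hc : D.commTerms r s with _ | ⟨c, _ | ⟨c', l⟩⟩
  · rw [hc] at h1; exact absurd h1 (by simp)
  · rw [hc] at h1 h2
    simp only [Bool.and_eq_true, decide_eq_true_eq] at h1
    obtain ⟨⟨⟨h4, h5⟩, h6⟩, h7⟩ := h1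
    rw [List.map_cons, List.map_nil, wordG_cons, wordG_nil, mul_one, cast_odd h5, h4, h6, h7, pow_one, pow_one,
      one_mul, CharTwo.neg_eq] at h2
    rw [mul_assoc, h2, ← mul_assoc, ← mul_assoc, xG_sq, one_mul]
  · rw [hc] at h1; exact absurd h1 (by simp)

theorem of_com' {r s : ℕ} (h : com D r s = true) (t u : K) : xG hD r t * xG hD s u = xG hD s u * xG hD r t := by
  unfold com at h
  rw [Bool.and_eq_true, Bool.and_eq_true, Bool.and_eq_true, Bool.and_eq_true, decide_eq_true_eq, decide_eq_true_eq,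
    decide_eq_true_eq, decide_eq_true_eq] at h
  obtain ⟨⟨⟨⟨hr, hs⟩, hne⟩, hne'⟩, h1⟩ := h
  have h2 := xs_xr' hD (K := K) hr hs hne hne' t u
  have h3 : wordG hD (D.commWord K r s t u) = 1 := by
    unfold wordG ChevalleyDatum.commWord
    refine List.prod_eq_one ?_
    intro x hx
    obtain ⟨y, hy, rfl⟩ := List.mem_map.1 hx
    obtain ⟨c, hc, rfl⟩ := List.mem_map.1 hy
    rw [List.all_eq_true] at h1
    show xG hD c.1 ((c.2.1 : K) * (-t) ^ c.2.2.1 * u ^ c.2.2.2) = 1
    rw [cast_even (of_decide_eq_true (h1 c hc)), zero_mul, zero_mul, xG_zero]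
  rw [h3, mul_one] at h2
  exact h2.symm

/-- check of the `B₂` relation: `a = d + b`, `a' = d + b'`, `c = d + b + b'`, `nb = -b`, `nb' = -b'` -/
def b2chk (D : ChevalleyDatum) (a a' b b' nb nb' c d : ℕ) : Bool :=
  add1 D b' d a' && add1 D b d a && add1 D b a' c && com D b c && com D b' c && com D c d && com D c a && com D c a' &&
  com D b b' &&
  com D nb' a && add1 D nb' a' d && add1 D nb a d && com D nb a' && com D nb d && com D nb' d && com D a a' &&
  com D a d && com D a' d

/-- **The `B₂` relation** in a subgroup `G` containing `x_b(1) x_{b'}(1)` and `x_{-b}(t) x_{-b'}(t')`, `t + t' = 1`. -/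
theorem EqvG.b2 {a a' b b' nb nb' c d : ℕ} (h : b2chk D a a' b b' nb nb' c d = true) {L : List ℕ}
    (hL : ∀ e ∈ L, com D a e = true ∧ com D a' e = true ∧ com D b e = true ∧ com D b' e = true ∧ com D nb e = true ∧
      com D nb' e = true ∧ com D c e = true ∧ com D d e = true) {t t' : K} (htt : t + t' = 1)
    (hU : xG hD b (1 : K) * xG hD b' 1 ∈ G) (hV : xG hD nb t * xG hD nb' t' ∈ G) :
    EqvG hD K G (c :: d :: L) (a :: a' :: L) := by
  unfold b2chk at h
  simp only [Bool.and_eq_true] at h
  obtain ⟨⟨⟨⟨⟨⟨⟨⟨⟨⟨⟨⟨⟨⟨⟨⟨⟨h1, h2⟩, h3⟩, h4⟩, h5⟩, h6⟩, h7⟩, h8⟩, h9⟩, h10⟩, h11⟩, h12⟩, h13⟩, h14⟩, h15⟩, h16⟩,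
    h17⟩, h18⟩ := h
  set U : GL D.Idx K := xG hD b (1 : K) * xG hD b' 1 with hUd
  set V : GL D.Idx K := xG hD nb t * xG hD nb' t' with hVd
  have hUL : U * PX hD K L = PX hD K L * U := by
    refine comm_PX fun e he => ?_
    have q := hL e he
    have e1 : Commute (xG hD b (1 : K)) (xG hD e 1) := of_com' hD q.2.2.1 1 1
    have e2 : Commute (xG hD b' (1 : K)) (xG hD e 1) := of_com' hD q.2.2.2.1 1 1
    exact e1.mul_left e2
  have hVL : V * PX hD K L = PX hD K L * V := by
    refine comm_PX fun e he => ?_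
    have q := hL e he
    have e1 : Commute (xG hD nb t) (xG hD e 1) := of_com' hD q.2.2.2.2.1 t 1
    have e2 : Commute (xG hD nb' t') (xG hD e 1) := of_com' hD q.2.2.2.2.2.1 t' 1
    exact e1.mul_left e2
  have sq : ∀ (r : ℕ) (u : K), xG hD r u * xG hD r u = 1 := fun r u => xG_sq hD r u
  -- conjugation by U
  have k1 := of_add1 hD h1 (1 : K) 1
  have k2 := of_add1 hD h2 (1 : K) 1
  have k3 := of_add1 hD h3 (1 : K) 1
  have k4 := of_com' hD h4 (1 : K) 1
  have k5 := of_com' hD h5 (1 : K) 1
  have k6 := of_com' hD h6 (1 : K) 1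
  have k7 := of_com' hD h7 (1 : K) 1
  have k8 := of_com' hD h8 (1 : K) 1
  rw [mul_one] at k1 k2 k3
  have hUinv : U⁻¹ = xG hD b' 1 * xG hD b 1 := by rw [hUd, mul_inv_rev, xG_inv' hD, xG_inv' hD]
  have hUc : U * xG hD c 1 * U⁻¹ = xG hD c 1 := by
    have e1 : Commute (xG hD b (1 : K)) (xG hD c 1) := k4
    have e2 : Commute (xG hD b' (1 : K)) (xG hD c 1) := k5
    have e3 : U * xG hD c 1 = xG hD c 1 * U := e1.mul_left e2
    rw [e3, mul_inv_cancel_right]
  have hUdd : U * xG hD d 1 * U⁻¹ = xG hD d 1 * xG hD a 1 * xG hD a' 1 * xG hD c 1 := by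
    rw [hUinv, hUd]
    calc xG hD b (1 : K) * xG hD b' 1 * xG hD d 1 * (xG hD b' 1 * xG hD b 1)
        = xG hD b 1 * (xG hD b' 1 * xG hD d 1 * xG hD b' 1) * xG hD b 1 := by group
      _ = xG hD b 1 * (xG hD d 1 * 1 * xG hD a' 1) * xG hD b 1 := by rw [k1, mul_one]
      _ = (xG hD b 1 * xG hD d 1 * xG hD b 1) * (xG hD b 1 * xG hD a' 1 * xG hD b 1) := by
        rw [← sq b 1]; group
      _ = _ := by rw [k2, k3]; group
  have step1 : U * PX hD K (c :: d :: L) * U⁻¹ = PX hD K (d :: a :: a' :: L) := by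
    simp only [PX_cons]
    calc U * (xG hD c 1 * (xG hD d 1 * PX hD K L)) * U⁻¹
        = (U * xG hD c 1 * U⁻¹) * (U * xG hD d 1 * U⁻¹) * (U * PX hD K L * U⁻¹) := by group
      _ = xG hD c 1 * (xG hD d 1 * xG hD a 1 * xG hD a' 1 * xG hD c 1) * PX hD K L := by
        rw [hUc, hUdd, hUL, mul_inv_cancel_right]
      _ = (xG hD c 1 * xG hD d 1) * xG hD a 1 * xG hD a' 1 * xG hD c 1 * PX hD K L := by group
      _ = xG hD d 1 * (xG hD c 1 * xG hD a 1) * xG hD a' 1 * xG hD c 1 * PX hD K L := by rw [k6]; group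
      _ = xG hD d 1 * xG hD a 1 * (xG hD c 1 * xG hD a' 1) * xG hD c 1 * PX hD K L := by rw [k7]; group
      _ = xG hD d 1 * xG hD a 1 * xG hD a' 1 * (xG hD c 1 * xG hD c 1) * PX hD K L := by rw [k8]; group
      _ = _ := by rw [sq, mul_one]; group
  -- conjugation by V
  have m1 := of_com' hD h10 t' (1 : K)
  have m2 := of_add1 hD h11 t' (1 : K)
  have m3 := of_add1 hD h12 t (1 : K)
  have m4 := of_com' hD h13 t (1 : K)
  have m5 := of_com' hD h14 t (1 : K)
  have m6 := of_com' hD h15 t' (1 : K)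
  have m7 := of_com' hD h17 (1 : K) (1 : K)
  have m8 := of_com' hD h18 (1 : K) (1 : K)
  have m5' := of_com' hD h14 t t'
  have m9 := of_com' hD h18 (1 : K) t
  rw [mul_one] at m2 m3
  have hVinv : V⁻¹ = xG hD nb' t' * xG hD nb t := by rw [hVd, mul_inv_rev, xG_inv' hD, xG_inv' hD]
  have hVc : V * xG hD d 1 * V⁻¹ = xG hD d 1 := by
    have e1 : Commute (xG hD nb t) (xG hD d 1) := m5
    have e2 : Commute (xG hD nb' t') (xG hD d 1) := m6
    have e3 : V * xG hD d 1 = xG hD d 1 * V := e1.mul_left e2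
    rw [e3, mul_inv_cancel_right]
  have hVa : V * xG hD a 1 * V⁻¹ = xG hD a 1 * xG hD d t := by
    rw [hVinv, hVd]
    calc xG hD nb t * xG hD nb' t' * xG hD a 1 * (xG hD nb' t' * xG hD nb t)
        = xG hD nb t * (xG hD nb' t' * xG hD a 1) * xG hD nb' t' * xG hD nb t := by group
      _ = xG hD nb t * xG hD a 1 * (xG hD nb' t' * xG hD nb' t') * xG hD nb t := by rw [m1]; group
      _ = _ := by rw [sq, mul_one, m3]
  have hVa' : V * xG hD a' 1 * V⁻¹ = xG hD a' 1 * xG hD d t' := by
    rw [hVinv, hVd]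
    calc xG hD nb t * xG hD nb' t' * xG hD a' 1 * (xG hD nb' t' * xG hD nb t)
        = xG hD nb t * (xG hD nb' t' * xG hD a' 1 * xG hD nb' t') * xG hD nb t := by group
      _ = (xG hD nb t * xG hD a' 1) * (xG hD d t' * xG hD nb t) := by rw [m2]; group
      _ = (xG hD a' 1 * xG hD nb t) * (xG hD nb t * xG hD d t') := by rw [m4, m5']
      _ = xG hD a' 1 * (xG hD nb t * xG hD nb t) * xG hD d t' := by group
      _ = _ := by rw [sq, mul_one]
  have step2 : V * PX hD K (d :: a :: a' :: L) * V⁻¹ = PX hD K (a :: a' :: L) := by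
    simp only [PX_cons]
    calc V * (xG hD d 1 * (xG hD a 1 * (xG hD a' 1 * PX hD K L))) * V⁻¹
        = (V * xG hD d 1 * V⁻¹) * (V * xG hD a 1 * V⁻¹) * (V * xG hD a' 1 * V⁻¹) * (V * PX hD K L * V⁻¹) := by
          group
      _ = xG hD d 1 * (xG hD a 1 * xG hD d t) * (xG hD a' 1 * xG hD d t') * PX hD K L := by
        rw [hVc, hVa, hVa', hVL, mul_inv_cancel_right]
      _ = (xG hD d 1 * xG hD a 1) * (xG hD d t * xG hD a' 1) * xG hD d t' * PX hD K L := by group
      _ = (xG hD a 1 * xG hD d 1) * (xG hD a' 1 * xG hD d t) * xG hD d t' * PX hD K L := by rw [← m7, ← m9]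
      _ = xG hD a 1 * (xG hD d 1 * xG hD a' 1) * (xG hD d t * xG hD d t') * PX hD K L := by group
      _ = xG hD a 1 * (xG hD a' 1 * xG hD d 1) * xG hD d 1 * PX hD K L := by rw [← m8, xG_add, htt]
      _ = xG hD a 1 * xG hD a' 1 * (xG hD d 1 * xG hD d 1) * PX hD K L := by group
      _ = _ := by rw [sq, mul_one]; group
  exact (EqvG.trans ⟨U, hU, step1⟩ ⟨V, hV, step2⟩)

/-- an element of trace `1` -/
theorem exists_trace [Fintype K] {q : ℕ} (hK : Fintype.card K = q ^ 2) (φ : K →+* K) (hφ : ∀ x, φ x = x ^ q)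
    (hφφ : ∀ x, φ (φ x) = x) : ∃ t : K, t + t ^ q = 1 := by
  by_cases h : ∀ s : K, s + φ s = 0
  · exfalso
    have h1 : ∀ s : K, s ^ q = s := by
      intro s
      have := h s
      rw [hφ] at this
      have h2 : s ^ q = - s := by rw [eq_neg_iff_add_eq_zero, add_comm]; exact this
      rw [h2, CharTwo.neg_eq]
    have hcard : 1 < Fintype.card K := Fintype.one_lt_card
    have hq : 1 < q := by
      by_contra hq
      have : q = 0 ∨ q = 1 := by omega
      rcases this with rfl | rfl
      · rw [hK] at hcard; norm_num at hcard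
      · rw [hK] at hcard; norm_num at hcard
    have h3 : Fintype.card K ≤ q := by
      have hp : (Polynomial.X ^ q - Polynomial.X : Polynomial K) ≠ 0 := by
        exact FiniteField.X_pow_card_sub_X_ne_zero K hq
      have h4 : Finset.univ.val ≤ (Polynomial.X ^ q - Polynomial.X : Polynomial K).roots := by
        rw [Multiset.le_iff_subset Finset.univ.nodup]
        intro x _
        rw [Polynomial.mem_roots hp, Polynomial.IsRoot.def, Polynomial.eval_sub, Polynomial.eval_pow,
          Polynomial.eval_X, h1, sub_self]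
      have h5 := (Multiset.card_le_card h4).trans (Polynomial.card_roots' _)
      rw [FiniteField.X_pow_card_sub_X_natDegree_eq K hq] at h5
      exact h5
    rw [hK] at h3
    have : q * 1 < q * q := (Nat.mul_lt_mul_left (by omega)).2 hq
    rw [pow_two] at h3
    omega
  · push Not at h
    obtain ⟨s, hs⟩ := h
    refine ⟨s / (s + φ s), ?_⟩
    have h1 : φ (s + φ s) = s + φ s := by rw [map_add, hφφ, add_comm]
    have h2 : (s / (s + φ s)) ^ q = φ s / (s + φ s) := by
      rw [← hφ, map_div₀, h1]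
    rw [h2, ← add_div, div_self hs]

end Cfsg.Agent.H83.FoldRel
end
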