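import Cfsg.Agent.H129.TwE6Idx
import Cfsg.Agent.H129.WData
import Cfsg.Agent.H83.TorAut
import Cfsg.Agent.H83.RootCount
import Cfsg.Agent.FastGrp
import Cfsg.Agent.Prune
set_option linter.all false
prune_inst 0x7f00000000000000000000000000000000000000000000000000000000000000000000000000000000000000000000000000000000000000000000000000000000000000000000000000000000000000003fffffffffffffffffffffffffffbeffbdffffffff
open scoped Cfsg.Agent.FastGrp

/-!
# Tori of `²E₆(q)` and the field automorphisms (helper83)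
-/

set_option autoImplicit false
set_option linter.unusedSectionVars false

namespace Cfsg.Agent.H83.TorE6

open CoxeterSystem Cfsg Cfsg.Lie Cfsg.Lie.ChevalleyDatum
open Cfsg.Agent.ChevalleyStructure Cfsg.Agent.ChevalleyStructure.Elts Cfsg.Agent.ChevalleyStructure.CoxeterGeom
  Cfsg.Agent.ChevalleyStructure.CoxeterGeomTypes Cfsg.Agent.ChevalleyStructure.NPerm
open Cfsg.Agent.Tits.Roots Cfsg.Agent.Tits.Core Cfsg.Agent.Nodes Cfsg.Agent.Nodes.Reps Cfsg.Agent.Nodes.BNOf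
  Cfsg.Agent.Nodes.RGDChev Cfsg.Agent.Nodes.Bruhat Cfsg.Agent.Nodes.SubComb Cfsg.Agent.Nodes.Coroot
open Cfsg.Agent.KFacts.RgdField Cfsg.Agent.KFacts.RgdChevCoord Cfsg.Agent.BpExc.TorCent Cfsg.Agent.BpExc.TorChev
open Cfsg.Agent.GpExc.Field Cfsg.Agent.BpExc.Tow Cfsg.Agent.BpExc.TowChev Cfsg.Agent.BpExc.Fr
  Cfsg.Agent.BpExc.LangFr Cfsg.Agent.LangThm Cfsg.Agent.BpExc Cfsg.Agent.H129.TorusChar Cfsg.Agent.H129.TorusCent
  Cfsg.Agent.H129.TorusTw Cfsg.Agent.H129.TorusMain Cfsg.Agent.H129.TorusUntw Cfsg.Agent.ChevStructure.FieldMap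
  Cfsg.Agent.BpExc.EmbSplit Cfsg.Agent.BpExc.EmbInst Cfsg.Agent.H83.TorAut Cfsg.Agent.H129
  Cfsg.Agent.H129.TwE6Fr Cfsg.Agent.H83.RootCount
open Cfsg.Agent.ChevalleyStructure.TwE6Basic (sg rho sg_x twisted_le_iff single_mem pair_mem)

universe u

section Phi

variable {k : Type u} [Field k] [IsAlgClosed k] {p : ℕ} [Fact p.Prime] [CharP k p]

theorem phi_add {D : ChevalleyDatum} {l : ℕ} {M : CoxeterMatrix (Fin l)} (hp : IsType D l M) (i j : ℕ)
    (y : ↥(D.group k)) : phi D k p (i + j) y = phi D k p i (phi D k p j y) := by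
  rw [phi_eq hp, phi_eq hp, phi_eq hp, emb_comp]
  congr 1
  have h : (iterateFrobenius k p i).comp (iterateFrobenius k p j) = iterateFrobenius k p (i + j) := by
    ext a
    rw [RingHom.comp_apply, iterateFrobenius_def, iterateFrobenius_def, iterateFrobenius_def, ← pow_mul, pow_add,
      mul_comm (p ^ j)]
  rw [h]

theorem phi_zero {D : ChevalleyDatum} (y : ↥(D.group k)) : phi D k p 0 y = y := by
  apply Subtype.ext
  rw [coe_phi]
  apply Units.ext
  rw [coe_glMap]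
  ext i j
  rw [Matrix.map_apply, iterateFrobenius_def, pow_zero, pow_one]

theorem phi_torus {D : ChevalleyDatum} {l : ℕ} {M : CoxeterMatrix (Fin l)} (hp : IsType D l M) (j : ℕ)
    {t : ↥(D.group k)} (ht : t ∈ TT D k) : phi D k p j t = t ^ p ^ j := by
  have hφt : phi D k p j t ∈ TT D k := by
    rw [phi_eq hp]
    exact emb_T hp _ ⟨t, ht, rfl⟩
  refine cX_inj hp hφt (pow_mem ht _) fun i => ?_
  have h2 := emb_ch hp (iterateFrobenius k p j) (simple_lt hp.inList (lt_rank hp i)) ht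
  rw [vec_simple hp i] at h2
  rw [cX_pow hp ht, cX_sr, cX_sr, phi_eq hp, h2, iterateFrobenius_def]

end Phi

section

variable {k : Type u} [Field k] [IsAlgClosed k] {p e : ℕ} [Fact p.Prime] [CharP k p]

theorem tau_comm (j : ℕ) (y : ↥(chevE6.group k)) : tau k p e (phi chevE6 k p j y) = phi chevE6 k p j (tau k p e y) := by
  apply Subtype.ext
  rw [coe_tau, coe_phi, coe_phi, coe_tau]
  have h1 : chevE6.group k ≤ MonoidHom.eqLocus
      ((sg (iterateFrobenius k p e)).comp (glMap chevE6 (iterateFrobenius k p j)))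
      ((glMap chevE6 (iterateFrobenius k p j)).comp (sg (iterateFrobenius k p e))) := by
    rw [group_le_iff RGDTwE6.hp.inList]
    intro r hr t
    show sg (iterateFrobenius k p e) (glMap chevE6 (iterateFrobenius k p j) (xG RGDTwE6.hp.inList r t)) =
      glMap chevE6 (iterateFrobenius k p j) (sg (iterateFrobenius k p e) (xG RGDTwE6.hp.inList r t))
    rw [glMap_xG]
    have h2 := sg_x (iterateFrobenius k p e) ⟨r, hr⟩ (iterateFrobenius k p j t)
    have h3 := sg_x (iterateFrobenius k p e) ⟨r, hr⟩ t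
    rw [show sg (iterateFrobenius k p e) (xG RGDTwE6.hp.inList r (iterateFrobenius k p j t)) = _ from h2,
      show sg (iterateFrobenius k p e) (xG RGDTwE6.hp.inList r t) = _ from h3, glMap_xG, map_mul, map_intCast]
    congr 2
    rw [iterateFrobenius_def, iterateFrobenius_def, iterateFrobenius_def, iterateFrobenius_def, ← pow_mul, ← pow_mul,
      mul_comm]
  exact (h1 y.2 :)

variable {F : Type u} [Field F] [Fintype F] (f : F →+* k) {q : ℕ}

/-- The field automorphisms preserve the image of `²E₆(q)`. -/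
theorem phi_range (hq : IsPrimePow q) (hF : Fintype.card F = q ^ 2) (j : ℕ) {y : ↥(chevE6.group k)}
    (hy : y ∈ (embT (k := k) f hq hF).range) : phi chevE6 k p j y ∈ (embT (k := k) f hq hF).range := by
  obtain ⟨x, rfl⟩ := hy
  have hcF : CharP F p := RingHom.charP f f.injective p
  have h1 : twistedE6 F q ≤ (twistedE6 F q).comap (glMap chevE6 (iterateFrobenius F p j)) := by
    rw [twisted_le_iff]
    refine ⟨fun t ht r hr => ?_, fun t rs hr => ?_⟩
    · show glMap chevE6 (iterateFrobenius F p j) (xG RGDTwE6.hp.inList r t) ∈ twistedE6 F q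
      rw [glMap_xG]
      exact single_mem (by rw [← map_pow, ht]) hr
    · show glMap chevE6 (iterateFrobenius F p j) (xG RGDTwE6.hp.inList rs.1 t * xG RGDTwE6.hp.inList rs.2 (t ^ q)) ∈
        twistedE6 F q
      rw [map_mul, glMap_xG, glMap_xG, map_pow]
      exact pair_mem _ hr
  refine ⟨⟨_, h1 x.2⟩, ?_⟩
  apply Subtype.ext
  rw [coe_embT, coe_phi, coe_embT]
  apply Units.ext
  rw [coe_glMap, coe_glMap, coe_glMap, coe_glMap]
  ext a b
  simp only [Matrix.map_apply, iterateFrobenius_def, map_pow]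

theorem gcd_dvd (hqe : q = p ^ e) : Nat.gcd 3 (q + 1) ∣ p + 1 := by
  rcases (Nat.dvd_prime Nat.prime_three).1 (Nat.gcd_dvd_left 3 (q + 1)) with h | h
  · rw [h]; exact one_dvd _
  · rw [h]
    have h1 : 3 ∣ q + 1 := by
      have := Nat.gcd_dvd_right 3 (q + 1)
      rwa [h] at this
    rw [hqe] at h1
    have h3 : p % 3 = 0 ∨ p % 3 = 1 ∨ p % 3 = 2 := by omega
    have h2 : (p ^ e) % 3 = 2 := by omega
    rw [Nat.pow_mod] at h2
    rcases h3 with h3 | h3 | h3
    · exfalso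
      rw [h3] at h2
      rcases Nat.eq_zero_or_pos e with rfl | he
      · norm_num at h2
      · rw [zero_pow he.ne'] at h2
        norm_num at h2
    · exfalso
      rw [h3, one_pow] at h2
      norm_num at h2
    · omega

theorem mul_phi_mem (hqe : q = p ^ e) (hq : IsPrimePow q) (hF : Fintype.card F = q ^ 2) {g : ↥(chevE6.group k)}
    (hg : tau k p e g = g) : g * phi chevE6 k p 1 g ∈ (embT (k := k) f hq hF).range := by
  obtain ⟨x, t, ht, hτ, rfl⟩ := tau_split f hqe hq hF hg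
  have e1 : embT f hq hF x * t * phi chevE6 k p 1 (embT f hq hF x * t) =
      embT f hq hF x * (t * phi chevE6 k p 1 (embT f hq hF x) * t⁻¹) * t ^ (p + 1) := by
    rw [map_mul, phi_torus RGDTwE6.hp 1 ht, pow_one, pow_succ']
    group
  rw [e1]
  refine mul_mem (mul_mem ⟨x, rfl⟩ (tau_normal f hqe hq hF hτ (phi_range f hq hF 1 ⟨x, rfl⟩))) ?_
  obtain ⟨m, hm⟩ := gcd_dvd (p := p) hqe
  rw [hm, pow_mul]
  exact pow_mem (torus_pow f hqe hq hF ht hτ) m

/-- **The element inducing the `q²`-power on the torus lies in `²E₆(q)`.** -/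
theorem u_mem (hqe : q = p ^ e) (hq : IsPrimePow q) (hF : Fintype.card F = q ^ 2) {z : ↥(chevE6.group k)}
    (hz : ∀ j : ℕ, tau k p e (z * (phi chevE6 k p j z)⁻¹) = z * (phi chevE6 k p j z)⁻¹) (m : ℕ) :
    z * (phi chevE6 k p (2 * m) z)⁻¹ ∈ (embT (k := k) f hq hF).range := by
  induction m with
  | zero => rw [mul_zero, phi_zero, mul_inv_cancel]; exact one_mem _
  | succ m ih =>
    have e1 : z * (phi chevE6 k p (2 * (m + 1)) z)⁻¹ =
        (z * (phi chevE6 k p 1 z)⁻¹ * phi chevE6 k p 1 (z * (phi chevE6 k p 1 z)⁻¹)) *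
          phi chevE6 k p 2 (z * (phi chevE6 k p (2 * m) z)⁻¹) := by
      rw [map_mul, map_inv, ← phi_add RGDTwE6.hp, map_mul, map_inv, ← phi_add RGDTwE6.hp,
        show 2 * (m + 1) = 2 + 2 * m by ring, show 1 + 1 = 2 from rfl]
      group
    rw [e1]
    exact mul_mem (mul_phi_mem f hqe hq hF (hz 1)) (phi_range f hq hF 2 ih)

end

theorem lin_flip {W : Type*} [Group W] (cs : CoxeterSystem CoxeterMatrix.E₆ W) {A : WData.Mat 6}
    (hA : ∀ i j, A i j = CoxeterGeomTypes.cartanOf chevE6 6 i j)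
    {L : List (Fin 6 × WData.Mat 6)} (hL : WData.ChainOK A L) {Th : WData.Mat 6}
    (hT : ∀ j, WData.hd L ((![5, 1, 4, 3, 2, 0] : Fin 6 → Fin 6) j) = Th j) :
    WData.Lin (theta RGDTwE6.hp cs (cs.wordProd (L.map Prod.fst)) flip6) Th := by
  intro j
  rw [theta_apply]
  have h1 : flip6 (sr j) = sr ((![5, 1, 4, 3, 2, 0] : Fin 6 → Fin 6) j) := funext (flip_sr j)
  rw [h1, WData.chain_rep RGDTwE6.hp cs hA hL, hT]

section Main

variable {k : Type u} [Field k] [IsAlgClosed k] {p e : ℕ} [Fact p.Prime] [CharP k p]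
  {F : Type u} [Field F] [Fintype F] (f : F →+* k) {q : ℕ} (hq : IsPrimePow q) (hF : Fintype.card F = q ^ 2)
  {W : Type*} [Group W] (cs : CoxeterSystem CoxeterMatrix.E₆ W)

/-- A cyclic torus of `²E₆(q)`. -/
structure Tor6 (p e : ℕ) [Fact p.Prime] [CharP k p] (B : Fin 6 → Fin 6 → ℤ) (N d' : ℕ) (z t : ↥(chevE6.group k)) (u : k)
    (x0 : ↥(twistedE6 F q)) : Prop where
  ht : t ∈ TT chevE6 k
  htN : orderOf t = N
  hfix : ∀ s ∈ TT chevE6 k, tau k p e (z * s * z⁻¹) = z * s * z⁻¹ ↔ s ∈ Subgroup.zpowers t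
  hu : IsPrimitiveRoot u N
  hcX : ∀ x, cX RGDTwE6.hp t x = u ^ Gq B (q : ℤ) x
  hdN : d' ∣ N
  hd : d' ∣ Nat.gcd 3 (q + 1)
  hS : ∀ s ∈ Subgroup.zpowers t, z * s * z⁻¹ ∈ (embT f hq hF).range ↔ s ∈ Subgroup.zpowers (t ^ d')
  hx0 : embT f hq hF x0 = z * t ^ d' * z⁻¹
  hord : orderOf x0 = N / d'
  hcent : ∀ y ∈ Subgroup.zpowers x0, ∀ r : ℕ, r.Prime → r ∣ orderOf y → ¬ r ∣ Nat.card W →
      (∀ a, IsRoot cs RGDTwE6.hp.isCartan a → ¬ (r : ℤ) ∣ Gq B (q : ℤ) a) →
      Subgroup.centralizer {y} = Subgroup.zpowers x0 ∧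
        ∀ c, c * embT f hq hF y = embT f hq hF y * c → z⁻¹ * c * z ∈ TT chevE6 k
  hfield : ∃ b : MulAut ↥(twistedE6 F q), b x0 = x0 ^ p
  hv : ∃ v : ↥(twistedE6 F q), v * x0 * v⁻¹ = x0 ^ q ^ 2

/-- **Existence.** -/
theorem exists_tor6 [Finite W] (hk : LocFin k) (hqe : q = p ^ e) (L : List (Fin 6)) {V B : Fin 6 → Fin 6 → ℤ}
    {c : Fin 6 → ℤ} (h : Cyc 6 (theta RGDTwE6.hp cs (cs.wordProd L) flip6) V B c) {N : ℕ}
    (hfN : fN c (q : ℤ) = N) (hqN : q.Coprime N) (hN0 : N ≠ 0) :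
    ∃ (d' : ℕ) (z t : ↥(chevE6.group k)) (u : k) (x0 : ↥(twistedE6 F q)),
      Tor6 f hq hF cs p e B N d' z t u x0 := by
  have he : 0 < e := by
    rcases Nat.eq_zero_or_pos e with rfl | he
    · exfalso
      rw [pow_zero] at hqe
      exact hq.one_lt.ne' hqe
    · exact he
  have hpN : ¬ p ∣ N := fun h1 => by
    have h2 : p ∣ Nat.gcd q N := Nat.dvd_gcd (by rw [hqe]; exact dvd_pow_self p he.ne') h1
    rw [hqN] at h2
    exact (Fact.out : p.Prime).one_lt.ne' (Nat.dvd_one.1 h2)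
  obtain ⟨z, t, ht, htN, hfixt, ⟨u, hu, hcX⟩, -, hphi⟩ := exists_torus RGDTwE6.hp
    cs (by norm_num) hk he (isFrob_tau (p := p) (e := e))
    (fr_tau cs) TorusChar.invC_E6 (by norm_num) L h (N := N)
    (by rw [← hqe]; exact hfN) hpN tau_comm
  rw [← hqe] at hcX
  have hzt : tau k p e (z * t * z⁻¹) = z * t * z⁻¹ := (hfixt t ht).2 (Subgroup.mem_zpowers t)
  have hpow := tau_pow f hqe hq hF hzt
  obtain ⟨d', hdN, hd, hS⟩ : ∃ d' : ℕ, d' ∣ N ∧ d' ∣ Nat.gcd 3 (q + 1) ∧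
      ∀ s ∈ Subgroup.zpowers t, z * s * z⁻¹ ∈ (embT f hq hF).range ↔ s ∈ Subgroup.zpowers (t ^ d') := by
    by_cases hmem : z * t * z⁻¹ ∈ (embT f hq hF).range
    · refine ⟨1, one_dvd _, one_dvd _, fun s hs => ⟨fun _ => by rwa [pow_one], fun _ => ?_⟩⟩
      obtain ⟨i, rfl⟩ := hs
      show z * t ^ i * z⁻¹ ∈ _
      rw [← conj_zpow]
      exact zpow_mem hmem i
    · have hg : Nat.gcd 3 (q + 1) = 3 := by
        rcases (Nat.dvd_prime Nat.prime_three).1 (Nat.gcd_dvd_left 3 (q + 1)) with h1 | h1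
        · exfalso
          rw [h1, pow_one] at hpow
          exact hmem hpow
        · exact h1
      rw [hg] at hpow
      refine ⟨3, ?_, by rw [hg], fun s hs => hS_of_prime Nat.prime_three ?_ hmem hs⟩
      · by_contra h3
        apply hmem
        have hco : Nat.Coprime 3 N := (Nat.Prime.coprime_iff_not_dvd Nat.prime_three).2 h3
        have hco' : IsCoprime (3 : ℤ) (N : ℤ) := Nat.isCoprime_iff_coprime.2 hco
        obtain ⟨a, b, hab⟩ := hco'
        have e1 : z * t * z⁻¹ = ((z * t * z⁻¹) ^ 3) ^ a := by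
          rw [← zpow_natCast, ← zpow_mul, conj_zpow]
          have e2 : t ^ (((3 : ℕ) : ℤ) * a) = t := by
            have e3 : ((3 : ℕ) : ℤ) * a = 1 - (N : ℤ) * b := by push_cast; linarith only [hab]
            rw [e3, zpow_sub, zpow_one, zpow_mul, zpow_natCast, ← htN, pow_orderOf_eq_one, one_zpow, inv_one, mul_one]
          rw [e2]
        rw [e1]
        exact zpow_mem hpow a
      · rwa [← conj_pow]
  obtain ⟨x0, hx0, hord, hcent⟩ := exists_elt RGDTwE6.hp cs hk ht htN hN0 hfixt hu hcX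
    (embT_injective f hq hF) (tau_embT f hqe hq hF) hdN hS p
  refine ⟨d', z, t, u, x0, ht, htN, hfixt, hu, hcX, hdN, hd, hS, hx0, hord, hcent, ?_, ?_⟩
  · obtain ⟨b, hb⟩ := exists_field (p := p) RGDTwE6.hp ht (embT_injective f hq hF) hx0 1 (fun y =>
      tau_normal f hqe hq hF (hphi 1) (phi_range f hq hF 1 ⟨y, rfl⟩))
    exact ⟨b, by rw [hb, pow_one]⟩
  · obtain ⟨v, hv⟩ := u_mem f hqe hq hF hphi e
    refine ⟨v, embT_injective f hq hF ?_⟩
    have h1 : phi chevE6 k p (2 * e) (embT f hq hF x0) = embT f hq hF x0 :=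
      phi_emb RGDTwE6.hp f (by rw [hF, hqe, ← pow_mul, mul_comm]) _
    have h2 : phi chevE6 k p (2 * e) (embT f hq hF x0) =
        phi chevE6 k p (2 * e) z * (t ^ d') ^ p ^ (2 * e) * (phi chevE6 k p (2 * e) z)⁻¹ := by
      rw [hx0, map_mul, map_mul, map_inv, phi_torus RGDTwE6.hp (2 * e) (pow_mem ht d')]
    have h3 : q ^ 2 = p ^ (2 * e) := by rw [hqe, ← pow_mul, mul_comm]
    rw [map_mul, map_mul, map_inv, hv, map_pow, h3]
    conv_rhs => rw [hx0, conj_pow]
    conv_lhs => rw [← h1, h2]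
    group

end Main

end Cfsg.Agent.H83.TorE6
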