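import Mathlib
import Cfsg.Agent.Lib.Zsigmondy
import Cfsg.Agent.H129.WData
import Cfsg.Agent.H83.TorE6
import Cfsg.Agent.H83.TwEC
import Cfsg.Agent.H129.UntwData
import Cfsg.Agent.ChevalleyStructure.WeylData
import Cfsg.Agent.H568.RowTools_m3
import Cfsg.Agent.S1066
import Cfsg.Agent.H129.RootFast
import Cfsg.Agent.H568.LinP
import Cfsg.Agent.H83.RowD4
import Cfsg.Agent.H568.FldExc
import Cfsg.Agent.H719.RowTData
import Cfsg.Agent.H129.UntwTwo
import Cfsg.Agent.H568.OwnCharChev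
import Cfsg.Agent.KFacts.TwESix.Tor
import Cfsg.Agent.S1070
import Cfsg.Agent.S1102
import Cfsg.Agent.S2130
import Cfsg.Agent.H997.OutCard
import Cfsg.Agent.S1055
import Cfsg.Agent.S1054
import Cfsg.Agent.H129.PhiE
import Cfsg.Agent.S1093
import Cfsg.Agent.FastGrp
import Cfsg.Agent.Prune
set_option linter.all false

section
prune_inst 0x7ffefff9ebb8afffffff7e7ffed9dffe19d09fffe6dff94bffe8e1ffab9f23020bc5fb850de050ff0ed6e29410b87813fb7eeeffeb6fdc7ffffd5ff45ffbee5fe5f6bd0911d68c340f300fff83f0778e7f3fffffffffffffffffffffffffffbeffffffffffff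

-- part: H83/RowE6B
section
prune_inst 0x10006144010000000000000242001c62d6000190006800005020014005865f020002a92048a009120002b2040034004811100140020000000a000000011801a0902846001300a10ce60007801086000000000000000000000000000000041000000000000
set_option linter.all false
open scoped Cfsg.Agent.FastGrp

-- part: H83/NumE6
section
/-!
# Numbers for `²E₆(q)` (helper83)
-/

set_option autoImplicit false

namespace Cfsg.Agent.H83.NumE6

theorem exists_l {r f : ℕ} (hr : r.Prime) (hf : 1 ≤ f) :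
    ∃ l : ℕ, l.Prime ∧ orderOf (r : ZMod l) = 18 * f ∧ l ∣ (r ^ f) ^ 6 - (r ^ f) ^ 3 + 1 ∧ 18 * f < l := by
  obtain ⟨l, hl, hd, hl1, hlr⟩ := Lib.Zsigmondy.exists_primitive hr.two_le (n := 18 * f) (by omega) (by omega) (by omega)
  have hlf : Fact l.Prime := ⟨hl⟩
  have hl2 := hl.two_le
  have hpos : ∀ m, 1 ≤ r ^ m := fun m => Nat.one_le_pow _ _ hr.pos
  have hord : orderOf (r : ZMod l) = 18 * f := by
    have key : ∀ m, (r : ZMod l) ^ m = 1 ↔ 18 * f ∣ m := by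
      intro m
      rw [← hd m, ← ZMod.natCast_eq_zero_iff, Nat.cast_sub (hpos m)]
      push_cast
      rw [sub_eq_zero]
    apply Nat.dvd_antisymm
    · rw [orderOf_dvd_iff_pow_eq_one, key]
    · rw [← key, pow_orderOf_eq_one]
  refine ⟨l, hl, hord, ?_, ?_⟩
  · set q := r ^ f with hq
    have hq1 : 1 ≤ q := hpos f
    have h18 : l ∣ q ^ 18 - 1 := by rw [hq, ← pow_mul, hd]; exact ⟨1, by ring⟩
    have h9 : ¬ l ∣ q ^ 9 - 1 := by
      rw [hq, ← pow_mul, hd]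
      intro h
      have := Nat.le_of_dvd (by omega) h
      omega
    have h6 : ¬ l ∣ q ^ 6 - 1 := by
      rw [hq, ← pow_mul, hd]
      intro h
      have := Nat.le_of_dvd (by omega) h
      omega
    have h0 : q ^ 3 ≤ q ^ 6 := Nat.pow_le_pow_right hq1 (by norm_num)
    have h01 : 1 ≤ q ^ 18 := Nat.one_le_pow _ _ hq1
    have h02 : 1 ≤ q ^ 9 := Nat.one_le_pow _ _ hq1
    have h03 : 1 ≤ q ^ 6 := Nat.one_le_pow _ _ hq1
    have h04 : 1 ≤ q ^ 3 := Nat.one_le_pow _ _ hq1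
    have e1 : q ^ 18 - 1 = (q ^ 9 - 1) * ((q ^ 3 + 1) * (q ^ 6 - q ^ 3 + 1)) := by
      zify [h0, h01, h02]
      ring
    have e2 : q ^ 6 - 1 = (q ^ 3 - 1) * (q ^ 3 + 1) := by
      zify [h03, h04]
      ring
    rw [e1] at h18
    rcases hl.dvd_mul.1 h18 with h | h
    · exact absurd h h9
    rcases hl.dvd_mul.1 h with h | h
    · exact absurd (by rw [e2]; exact h.mul_left _) h6
    · exact h
  · have := Nat.le_of_dvd (by omega) hl1
    omega

def M1 (q : ℕ) : ℕ := q ^ 36 * (q ^ 2 - 1) * (q ^ 5 + 1) * (q ^ 6 - 1) * (q ^ 8 - 1) * (q ^ 3 + 1) * (q ^ 12 - 1)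

def M2 (q : ℕ) : ℕ :=
  q ^ 36 * (q ^ 2 - 1) * (q ^ 5 + 1) * (q ^ 8 - 1) * (q ^ 9 + 1) * (q ^ 6 - 1) * (q ^ 2 + 1) * (q ^ 3 - 1) * (q + 1)

section

variable {q : ℕ} (hq : 1 ≤ q)

include hq

theorem le1 : q ^ 3 ≤ q ^ 6 := Nat.pow_le_pow_right hq (by norm_num)
theorem le2 : q ^ 2 ≤ q ^ 4 := Nat.pow_le_pow_right hq (by norm_num)
theorem le3 : q ≤ q ^ 2 := Nat.le_self_pow (by norm_num) q
theorem onele (m : ℕ) : 1 ≤ q ^ m := Nat.one_le_pow _ _ hq

theorem eq1 : q ^ 36 * (q ^ 2 - 1) * (q ^ 5 + 1) * (q ^ 6 - 1) * (q ^ 8 - 1) * (q ^ 9 + 1) * (q ^ 12 - 1) =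
    (q ^ 6 - q ^ 3 + 1) * M1 q := by
  have e : q ^ 9 + 1 = (q ^ 6 - q ^ 3 + 1) * (q ^ 3 + 1) := by
    zify [le1 hq]; ring
  unfold M1
  rw [e]
  ring

theorem eq2 : q ^ 36 * (q ^ 2 - 1) * (q ^ 5 + 1) * (q ^ 6 - 1) * (q ^ 8 - 1) * (q ^ 9 + 1) * (q ^ 12 - 1) =
    ((q ^ 4 - q ^ 2 + 1) * (q ^ 2 - q + 1)) * M2 q := by
  have e : q ^ 12 - 1 = (q ^ 6 - 1) * (q ^ 2 + 1) * (q ^ 4 - q ^ 2 + 1) := by
    zify [le2 hq, onele hq 12, onele hq 6]; ring
  have e' : q ^ 6 - 1 = (q ^ 3 - 1) * (q + 1) * (q ^ 2 - q + 1) := by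
    zify [le3 hq, onele hq 3, onele hq 6]; ring
  unfold M2
  rw [e]
  calc q ^ 36 * (q ^ 2 - 1) * (q ^ 5 + 1) * (q ^ 6 - 1) * (q ^ 8 - 1) * (q ^ 9 + 1) *
        ((q ^ 6 - 1) * (q ^ 2 + 1) * (q ^ 4 - q ^ 2 + 1))
      = q ^ 36 * (q ^ 2 - 1) * (q ^ 5 + 1) * (q ^ 8 - 1) * (q ^ 9 + 1) * (q ^ 6 - 1) * (q ^ 2 + 1) * (q ^ 6 - 1) *
        (q ^ 4 - q ^ 2 + 1) := by ring
    _ = q ^ 36 * (q ^ 2 - 1) * (q ^ 5 + 1) * (q ^ 8 - 1) * (q ^ 9 + 1) * (q ^ 6 - 1) * (q ^ 2 + 1) *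
        ((q ^ 3 - 1) * (q + 1) * (q ^ 2 - q + 1)) * (q ^ 4 - q ^ 2 + 1) := by rw [← e']
    _ = _ := by ring

theorem mod1 {m : ℕ} (hm : m ∣ q ^ 6 - q ^ 3 + 1) : M1 q ≡ 9 [MOD m] := by
  rw [← ZMod.natCast_eq_natCast_iff, M1]
  have h3 : (q : ZMod m) ^ 6 - (q : ZMod m) ^ 3 + 1 = 0 := by
    have h4 := (ZMod.natCast_eq_zero_iff (q ^ 6 - q ^ 3 + 1) m).2 hm
    push_cast [Nat.cast_sub (le1 hq)] at h4
    exact h4
  push_cast [Nat.cast_sub (onele hq 2), Nat.cast_sub (onele hq 6), Nat.cast_sub (onele hq 8), Nat.cast_sub (onele hq 12)]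
  generalize (q : ZMod m) = y at h3
  have h6 : y ^ 6 = y ^ 3 - 1 := by linear_combination h3
  have h9 : y ^ 9 = -1 := by linear_combination (y ^ 3 + 1) * h3
  have h36 : y ^ 36 = 1 := by
    calc y ^ 36 = (y ^ 9) ^ 4 := by ring
      _ = 1 := by rw [h9]; ring
  have h12 : y ^ 12 = -y ^ 3 := by
    calc y ^ 12 = y ^ 9 * y ^ 3 := by ring
      _ = _ := by rw [h9]; ring
  have h8 : y ^ 8 = y ^ 5 - y ^ 2 := by
    calc y ^ 8 = y ^ 6 * y ^ 2 := by ring
      _ = _ := by rw [h6]; ring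
  rw [h36, h12, h8, h6]
  linear_combination (-7 - 4 * y ^ 3 - 2 * y ^ 4 + 3 * y ^ 6 - 3 * y ^ 7 + 4 * y ^ 9 + y ^ 13 - y ^ 15) * h3

theorem mod2 {m : ℕ} (hm : m ∣ q ^ 4 - q ^ 2 + 1) : M2 q ≡ 12 [MOD m] := by
  rw [← ZMod.natCast_eq_natCast_iff, M2]
  have h3 : (q : ZMod m) ^ 4 - (q : ZMod m) ^ 2 + 1 = 0 := by
    have h4 := (ZMod.natCast_eq_zero_iff (q ^ 4 - q ^ 2 + 1) m).2 hm
    push_cast [Nat.cast_sub (le2 hq)] at h4
    exact h4
  push_cast [Nat.cast_sub (onele hq 2), Nat.cast_sub (onele hq 6), Nat.cast_sub (onele hq 8), Nat.cast_sub (onele hq 3)]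
  generalize (q : ZMod m) = y at h3
  have h4 : y ^ 4 = y ^ 2 - 1 := by linear_combination h3
  have h6 : y ^ 6 = -1 := by linear_combination (y ^ 2 + 1) * h3
  have h36 : y ^ 36 = 1 := by
    calc y ^ 36 = (y ^ 6) ^ 6 := by ring
      _ = 1 := by rw [h6]; ring
  have h9 : y ^ 9 = -y ^ 3 := by
    calc y ^ 9 = y ^ 6 * y ^ 3 := by ring
      _ = _ := by rw [h6]; ring
  have h8 : y ^ 8 = -y ^ 2 := by
    calc y ^ 8 = y ^ 6 * y ^ 2 := by ring
      _ = _ := by rw [h6]; ring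
  have h5 : y ^ 5 = y ^ 3 - y := by
    calc y ^ 5 = y ^ 4 * y := by ring
      _ = _ := by rw [h4]; ring
  rw [h36, h9, h8, h6, h5]
  linear_combination (-10 - 10 * y ^ 2 - 2 * y ^ 3 - 2 * y ^ 4 + 8 * y ^ 6 + 4 * y ^ 7 + 6 * y ^ 8 - 2 * y ^ 10 - 2 * y ^ 11 - 2 * y ^ 12) * h3

end

end Cfsg.Agent.H83.NumE6
end

-- part: H83/TwEA
section
/-!
# Data of the torus of order `q⁶ - q³ + 1` of `²E₆(q)` (helper83)
-/

set_option autoImplicit false

namespace Cfsg.Agent.H83.TwEA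

open Cfsg.Agent.H129.TorusTw Cfsg.Agent.H129.WData Cfsg.Agent.ChevalleyStructure.CoxeterGeomTypes
  Cfsg.Agent.ChevalleyStructure.RootVec Cfsg.Agent.Nodes.RGDChev
open Cfsg.Lie Cfsg.Lie.ChevalleyDatum

/-- the Cartan matrix -/
def Am : Mat 6 := ![![2, 0, -1, 0, 0, 0],
    ![0, 2, 0, -1, 0, 0],
    ![-1, 0, 2, -1, 0, 0],
    ![0, -1, -1, 2, -1, 0],
    ![0, 0, 0, -1, 2, -1],
    ![0, 0, 0, 0, -1, 2]]

/-- the partial products -/
def chain : List (Fin 6 × Mat 6) := [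
    (3, ![![-1, 0, -1, -1, 0, 0],
      ![0, -1, 0, -1, 0, 0],
      ![1, 0, 0, 0, 0, 0],
      ![0, 1, 1, 1, 0, 0],
      ![0, 0, 0, 1, 1, 0],
      ![0, 0, 0, 0, 0, 1]]),
    (2, ![![-1, 0, -1, 0, 0, 0],
      ![0, -1, 0, 0, 0, 0],
      ![1, 0, 0, 0, 0, 0],
      ![0, 1, 1, 1, 0, 0],
      ![0, 0, 0, 0, 1, 0],
      ![0, 0, 0, 0, 0, 1]]),
    (1, ![![-1, 0, 0, 0, 0, 0],
      ![0, -1, 0, 0, 0, 0],
      ![1, 0, 1, 0, 0, 0],
      ![0, 1, 0, 1, 0, 0],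
      ![0, 0, 0, 0, 1, 0],
      ![0, 0, 0, 0, 0, 1]]),
    (0, ![![-1, 0, 0, 0, 0, 0],
      ![0, 1, 0, 0, 0, 0],
      ![1, 0, 1, 0, 0, 0],
      ![0, 0, 0, 1, 0, 0],
      ![0, 0, 0, 0, 1, 0],
      ![0, 0, 0, 0, 0, 1]])]

/-- the permutation of the simple roots -/
def pi : Fin 6 → Fin 6 := ![5, 1, 4, 3, 2, 0]

/-- the matrix of `θ` -/
def Th : Mat 6 := ![![0, 0, 0, 0, 0, 1],
    ![0, -1, 0, -1, 0, 0],
    ![0, 0, 0, 1, 1, 0],
    ![0, 1, 1, 1, 0, 0],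
    ![1, 0, 0, 0, 0, 0],
    ![-1, 0, -1, -1, 0, 0]]

/-- the basis -/
def V : Mat 6 := ![![-1, -2, -2, -3, -2, -1],
    ![-1, -1, -2, -2, -2, -1],
    ![-1, -1, -1, -2, -2, -1],
    ![-1, -1, -1, -1, -1, -1],
    ![0, 0, 0, 0, -1, -1],
    ![0, 0, 1, 1, 0, 0]]

/-- the coordinates -/
def B : Mat 6 := ![![1, 0, -1, -1, 1, 0],
    ![-1, 0, 1, 0, 0, -1],
    ![0, -1, 1, 0, 0, 0],
    ![0, 1, -1, 0, 0, 1],
    ![0, -1, 0, 1, 0, -1],
    ![0, 1, 0, -1, -1, 1]]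

/-- the polynomial -/
def c : Fin 6 → ℤ := ![1, 0, 0, -1, 0, 0]

/-- the representatives of the orbits of `θ` on the roots -/
def R : Fin 4 → Fin 6 → ℤ := ![![-1, -2, -2, -3, -2, -1],
    ![-1, -1, -2, -2, -1, -1],
    ![-1, -1, -1, -2, -1, -1],
    ![-1, -1, -1, -1, 0, 0]]

/-- the values of the functional on the representatives -/
def G : Fin 4 → Fin 6 → ℤ := ![![1, 0, 0, 0, 0, 0],
    ![0, 0, 0, 1, 0, -1],
    ![0, -1, 1, 1, 0, -1],
    ![0, 0, 0, 1, -1, 0]]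

/-- predecessor -/
def prv (r : ℕ) : ℕ := Nat.mod (Nat.shiftRight 0x4643474035453b2c4237283e33233025443a2b4136273c2d19293d32212f392a163f34380f1308311d0e1826150a1e2e1a0b2011061c0d0322172414090010051b00021200000400 (8 * r)) 256

/-- depth -/
def dep (r : ℕ) : ℕ := Nat.mod (Nat.shiftRight 0x9080a09070b09080c0b090c08050c0c0a06060a07060d0b060e0a0705070d08050d0b0d0402040e1104100e1001050f02040f10010f0f0103030e11030002031100021000011100 (8 * r)) 256

theorem hA : ∀ i j, Am i j = cartanOf chevE6 6 i j :=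
  H129.RootF.cE6

theorem chainOK : ChainOK Am chain :=
  H129.ChainF.ok H129.ChainF.i6 H129.ChainF.m6 (H129.ChainF.c6 <| H129.ChainF.c6 <| H129.ChainF.c6 <| H129.ChainF.c6 <| H129.ChainF.nil) (by decide +kernel)

theorem hd_pi : ∀ j, hd chain (pi j) = Th j := by decide +kernel

theorem cycOK : CycOK 6 Th V B c :=
  H129.RootF.cyc H129.ChainF.i6 H129.RootF.t6 H129.ChainF.m6 H129.RootF.t6 H129.ChainF.m6 H129.RootF.t6 H129.RootF.r6 (by decide +kernel)

theorem rootOK : RootOK chevE6 6 Th R prv dep :=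
  H129.RootF.ok H129.RootF.t6 (H129.RootF.mc H129.RootF.r6 <| H129.RootF.mc H129.RootF.r6 <| H129.RootF.mc H129.RootF.r6 <| H129.RootF.mc H129.RootF.r6 <| H129.RootF.m0) (by decide +kernel)

theorem coefOK : ∀ s i, ∑ j, R s j * B j i = G s i := by decide +kernel

/-- the number of roots killed by the elements of order 3 -/
theorem card_three : (Finset.univ.filter fun r : Fin 72 => (3 : ℤ) ∣ Gq B (-1) (vec chevE6 6 r)).card = 18 := by
  decide +kernel

theorem fN_eq (x : ℤ) : fN c x = 1 - x ^ 3 + x ^ 6 := by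
  unfold fN c
  simp only [Fin.sum_univ_succ, _root_.Int.reduceNeg, _root_.Fin.isValue, _root_.Matrix.cons_val_zero, _root_.Fin.coe_ofNat_eq_mod, _root_.Nat.zero_mod, _root_.pow_zero, _root_.mul_one, _root_.Matrix.cons_val_succ, _root_.Fin.val_succ, _root_.zero_add, _root_.pow_one, _root_.MulZeroClass.zero_mul, _root_.Nat.reduceAdd, _root_.neg_mul, _root_.one_mul, _root_.Finset.univ_unique, _root_.Fin.default_eq_zero, _root_.Matrix.cons_val_fin_one, _root_.Fin.val_eq_zero, _root_.Finset.sum_const_zero, _root_.add_zero]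
  ring

theorem G_0 (x : ℤ) : Gq B x (R 0) = 1 := by
  rw [Gq_coef B x (R 0) (G 0) (coefOK 0)]
  unfold G
  simp only [Fin.sum_univ_succ, _root_.Int.reduceNeg, _root_.Fin.isValue, _root_.Matrix.cons_val', _root_.Matrix.cons_val_fin_one, _root_.Matrix.cons_val_zero, _root_.Fin.coe_ofNat_eq_mod, _root_.Nat.zero_mod, _root_.pow_zero, _root_.mul_one, _root_.Matrix.cons_val_succ, _root_.Fin.val_succ, _root_.zero_add, _root_.pow_one, _root_.MulZeroClass.zero_mul, _root_.Nat.reduceAdd, _root_.Finset.univ_unique, _root_.Fin.default_eq_zero, _root_.Fin.val_eq_zero, _root_.Finset.sum_const_zero, _root_.add_zero]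
  try ring

theorem bez_0 (x : ℤ) : (0) * (1 - x ^ 3 + x ^ 6) + (3) * (1) = 3 := by
  ring

theorem G_1 (x : ℤ) : Gq B x (R 1) = x ^ 3 - x ^ 5 := by
  rw [Gq_coef B x (R 1) (G 1) (coefOK 1)]
  unfold G
  simp only [Fin.sum_univ_succ, _root_.Int.reduceNeg, _root_.Fin.isValue, _root_.Matrix.cons_val', _root_.Matrix.cons_val_fin_one, _root_.Matrix.cons_val_one, _root_.Matrix.cons_val_zero, _root_.Fin.coe_ofNat_eq_mod, _root_.Nat.zero_mod, _root_.pow_zero, _root_.mul_one, _root_.Matrix.cons_val_succ, _root_.Fin.val_succ, _root_.zero_add, _root_.pow_one, _root_.MulZeroClass.zero_mul, _root_.Nat.reduceAdd, _root_.one_mul, _root_.Finset.univ_unique, _root_.Fin.default_eq_zero, _root_.Fin.val_eq_zero, _root_.neg_mul, _root_.Finset.sum_neg_distrib, _root_.Finset.sum_const, _root_.Finset.card_singleton, _root_.Int.nsmul_eq_mul, _root_.Nat.cast_one]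
  try ring

theorem bez_1 (x : ℤ) : (3 + x ^ 3 - x ^ 4) * (1 - x ^ 3 + x ^ 6) + (2 + x + 2 * x ^ 2 - x ^ 3 + x ^ 4 - x ^ 5) * (x ^ 3 - x ^ 5) = 3 := by
  ring

theorem G_2 (x : ℤ) : Gq B x (R 2) = -x + x ^ 2 + x ^ 3 - x ^ 5 := by
  rw [Gq_coef B x (R 2) (G 2) (coefOK 2)]
  unfold G
  simp only [Fin.sum_univ_succ, _root_.Int.reduceNeg, _root_.Fin.isValue, _root_.Matrix.cons_val', _root_.Matrix.cons_val_fin_one, _root_.Matrix.cons_val, _root_.Matrix.cons_val_one, _root_.Matrix.cons_val_zero, _root_.Fin.coe_ofNat_eq_mod, _root_.Nat.zero_mod, _root_.pow_zero, _root_.mul_one, _root_.Matrix.cons_val_succ, _root_.Fin.val_succ, _root_.zero_add, _root_.pow_one, _root_.neg_mul, _root_.one_mul, _root_.Nat.reduceAdd, _root_.MulZeroClass.zero_mul, _root_.Finset.univ_unique, _root_.Fin.default_eq_zero, _root_.Fin.val_eq_zero, _root_.Finset.sum_neg_distrib, _root_.Finset.sum_const, _root_.Finset.card_singleton, _root_.Int.nsmul_eq_mul,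 _root_.Nat.cast_one]
  try ring

theorem bez_2 (x : ℤ) : (3 + 3 * x - 3 * x ^ 3) * (1 - x ^ 3 + x ^ 6) + (3 + 3 * x - 3 * x ^ 4) * (-x + x ^ 2 + x ^ 3 - x ^ 5) = 3 := by
  ring

theorem G_3 (x : ℤ) : Gq B x (R 3) = x ^ 3 - x ^ 4 := by
  rw [Gq_coef B x (R 3) (G 3) (coefOK 3)]
  unfold G
  simp only [Fin.sum_univ_succ, _root_.Int.reduceNeg, _root_.Fin.isValue, _root_.Matrix.cons_val', _root_.Matrix.cons_val_fin_one, _root_.Matrix.cons_val, _root_.Matrix.cons_val_one, _root_.Matrix.cons_val_zero, _root_.Fin.coe_ofNat_eq_mod, _root_.Nat.zero_mod, _root_.pow_zero, _root_.mul_one, _root_.Matrix.cons_val_succ, _root_.Fin.val_succ, _root_.zero_add, _root_.pow_one, _root_.MulZeroClass.zero_mul, _root_.Nat.reduceAdd, _root_.one_mul, _root_.neg_mul, _root_.Finset.univ_unique, _root_.Fin.default_eq_zero, _root_.Fin.val_eq_zero, _root_.Finset.sum_const_zero, _root_.add_zero]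
  try ring

theorem bez_3 (x : ℤ) : (3) * (1 - x ^ 3 + x ^ 6) + (3 + 3 * x + 3 * x ^ 2) * (x ^ 3 - x ^ 4) = 3 := by
  ring

/-- Common divisors of `f(x)` and the value of `Gq` on a representative. -/
theorem dvd_of_G {x r : ℤ} (h : r ∣ 1 - x ^ 3 + x ^ 6) (s : Fin 4) (hs : r ∣ Gq B x (R s)) :
    r ∣ 3 := by
  have key : ∀ {a b g y : ℤ}, a * (1 - x ^ 3 + x ^ 6) + b * g = y → r ∣ g → r ∣ y := fun e hg => by
    rw [← e]
    exact dvd_add (h.mul_left _) (hg.mul_left _)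
  fin_cases s
  · exact key (bez_0 x) (by rw [← G_0]; exact hs)
  · exact key (bez_1 x) (by rw [← G_1]; exact hs)
  · exact key (bez_2 x) (by rw [← G_2]; exact hs)
  · exact key (bez_3 x) (by rw [← G_3]; exact hs)

end Cfsg.Agent.H83.TwEA
end

-- part: H83/TwEB
section
/-!
# Data of the torus of order `(q⁴ - q² + 1)(q² - q + 1)` of `²E₆(q)` (helper83)
-/

set_option autoImplicit false

namespace Cfsg.Agent.H83.TwEB

open Cfsg.Agent.H129.TorusTw Cfsg.Agent.H129.WData Cfsg.Agent.ChevalleyStructure.CoxeterGeomTypes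
  Cfsg.Agent.ChevalleyStructure.RootVec Cfsg.Agent.Nodes.RGDChev
open Cfsg.Lie Cfsg.Lie.ChevalleyDatum

/-- the Cartan matrix -/
def Am : Mat 6 := ![![2, 0, -1, 0, 0, 0],
    ![0, 2, 0, -1, 0, 0],
    ![-1, 0, 2, -1, 0, 0],
    ![0, -1, -1, 2, -1, 0],
    ![0, 0, 0, -1, 2, -1],
    ![0, 0, 0, 0, -1, 2]]

/-- the partial products -/
def chain : List (Fin 6 × Mat 6) := [
    (2, ![![0, 0, 0, -1, 0, 0],
      ![0, -1, -1, -1, 0, 0],
      ![-1, 0, -1, 0, 0, 0],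
      ![1, 1, 1, 1, 0, 0],
      ![0, 0, 1, 1, 1, 0],
      ![0, 0, 0, 0, 0, 1]]),
    (3, ![![0, 0, -1, -1, 0, 0],
      ![0, -1, 0, -1, 0, 0],
      ![-1, 0, 0, 0, 0, 0],
      ![1, 1, 1, 1, 0, 0],
      ![0, 0, 0, 1, 1, 0],
      ![0, 0, 0, 0, 0, 1]]),
    (0, ![![0, 0, -1, 0, 0, 0],
      ![0, -1, 0, 0, 0, 0],
      ![-1, 0, 0, 0, 0, 0],
      ![1, 1, 1, 1, 0, 0],
      ![0, 0, 0, 0, 1, 0],
      ![0, 0, 0, 0, 0, 1]]),
    (2, ![![-1, 0, -1, 0, 0, 0],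
      ![0, -1, 0, 0, 0, 0],
      ![1, 0, 0, 0, 0, 0],
      ![0, 1, 1, 1, 0, 0],
      ![0, 0, 0, 0, 1, 0],
      ![0, 0, 0, 0, 0, 1]]),
    (1, ![![-1, 0, 0, 0, 0, 0],
      ![0, -1, 0, 0, 0, 0],
      ![1, 0, 1, 0, 0, 0],
      ![0, 1, 0, 1, 0, 0],
      ![0, 0, 0, 0, 1, 0],
      ![0, 0, 0, 0, 0, 1]]),
    (0, ![![-1, 0, 0, 0, 0, 0],
      ![0, 1, 0, 0, 0, 0],
      ![1, 0, 1, 0, 0, 0],
      ![0, 0, 0, 1, 0, 0],
      ![0, 0, 0, 0, 1, 0],
      ![0, 0, 0, 0, 0, 1]])]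

/-- the permutation of the simple roots -/
def pi : Fin 6 → Fin 6 := ![5, 1, 4, 3, 2, 0]

/-- the matrix of `θ` -/
def Th : Mat 6 := ![![0, 0, 0, 0, 0, 1],
    ![0, -1, -1, -1, 0, 0],
    ![0, 0, 1, 1, 1, 0],
    ![1, 1, 1, 1, 0, 0],
    ![-1, 0, -1, 0, 0, 0],
    ![0, 0, 0, -1, 0, 0]]

/-- the basis -/
def V : Mat 6 := ![![-1, -1, -2, -2, -2, -1],
    ![0, -1, -1, -2, -2, -1],
    ![0, -1, 0, -1, -1, 0],
    ![0, 0, 1, 0, 0, 0],
    ![0, 0, 1, 1, 1, 0],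
    ![0, 1, 1, 2, 1, 0]]

/-- the coordinates -/
def B : Mat 6 := ![![-1, 1, 0, -1, 0, 0],
    ![0, 0, -1, 1, -1, 0],
    ![0, 0, 0, 1, 0, 0],
    ![0, 0, 1, -1, 0, 1],
    ![0, 0, -1, 0, 1, -1],
    ![0, -1, 1, 0, -1, 0]]

/-- the polynomial -/
def c : Fin 6 → ℤ := ![1, -1, 0, 1, 0, -1]

/-- the representatives of the orbits of `θ` on the roots -/
def R : Fin 6 → Fin 6 → ℤ := ![![-1, -2, -2, -3, -2, -1],
    ![-1, -1, -2, -2, -2, -1],
    ![-1, -1, -1, -2, -1, -1],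
    ![-1, -1, -1, -1, -1, 0],
    ![-1, -1, -1, -1, 0, 0],
    ![-1, 0, -1, 0, 0, 0]]

/-- the values of the functional on the representatives -/
def G : Fin 6 → Fin 6 → ℤ := ![![1, 0, 0, 0, 1, -1],
    ![1, 0, 0, 0, 0, 0],
    ![1, 0, -1, 1, 1, -1],
    ![1, -1, 1, 0, 0, 0],
    ![1, -1, 0, 0, 1, -1],
    ![1, -1, 0, 0, 0, 0]]

/-- predecessor -/
def prv (r : ℕ) : ℕ := Nat.mod (Nat.shiftRight 0x4643443a2b4740354136273d3221222f453b2c3c2d1942372829392a16173e33233f34380f130824140930311d0e1e1f10052e1a0b1b0c02180026150a0000061200001c0d000400 (8 * r)) 256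

/-- depth -/
def dep (r : ℕ) : ℕ := Nat.mod (Nat.shiftRight 0x60505040407070608060809040304090605050a06030807080805040303070707090b0a0603020b030108090901020402020902020a0b0105000a0a010000010b00010a0b000b00 (8 * r)) 256

theorem hA : ∀ i j, Am i j = cartanOf chevE6 6 i j :=
  H129.RootF.cE6

theorem chainOK : ChainOK Am chain :=
  H129.ChainF.ok H129.ChainF.i6 H129.ChainF.m6 (H129.ChainF.c6 <| H129.ChainF.c6 <| H129.ChainF.c6 <| H129.ChainF.c6 <| H129.ChainF.c6 <| H129.ChainF.c6 <| H129.ChainF.nil) (by decide +kernel)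

theorem hd_pi : ∀ j, hd chain (pi j) = Th j := by decide +kernel

theorem cycOK : CycOK 6 Th V B c :=
  H129.RootF.cyc H129.ChainF.i6 H129.RootF.t6 H129.ChainF.m6 H129.RootF.t6 H129.ChainF.m6 H129.RootF.t6 H129.RootF.r6 (by decide +kernel)

theorem rootOK : RootOK chevE6 6 Th R prv dep :=
  H129.RootF.ok H129.RootF.t6 (H129.RootF.mc H129.RootF.r6 <| H129.RootF.mc H129.RootF.r6 <| H129.RootF.mc H129.RootF.r6 <| H129.RootF.mc H129.RootF.r6 <| H129.RootF.mc H129.RootF.r6 <| H129.RootF.mc H129.RootF.r6 <| H129.RootF.m0) (by decide +kernel)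

theorem coefOK : ∀ s i, ∑ j, R s j * B j i = G s i := by decide +kernel

/-- the number of roots killed by the elements of order 3 -/
theorem card_three : (Finset.univ.filter fun r : Fin 72 => (3 : ℤ) ∣ Gq B (-1) (vec chevE6 6 r)).card = 24 := by
  decide +kernel

theorem fN_eq (x : ℤ) : fN c x = 1 - x + x ^ 3 - x ^ 5 + x ^ 6 := by
  unfold fN c
  simp only [Fin.sum_univ_succ, _root_.Int.reduceNeg, _root_.Fin.isValue, _root_.Matrix.cons_val_zero, _root_.Fin.coe_ofNat_eq_mod, _root_.Nat.zero_mod, _root_.pow_zero, _root_.mul_one, _root_.Matrix.cons_val_succ, _root_.Fin.val_succ, _root_.zero_add, _root_.pow_one, _root_.neg_mul, _root_.one_mul, _root_.Nat.reduceAdd, _root_.MulZeroClass.zero_mul, _root_.Finset.univ_unique, _root_.Fin.default_eq_zero, _root_.Matrix.cons_val_fin_one, _root_.Fin.val_eq_zero, _root_.Finset.sum_neg_distrib, _root_.Finset.sum_const, _root_.Finset.card_singleton, _root_.Int.nsmul_eq_mul,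 _root_.Nat.cast_one]
  ring

theorem G_0 (x : ℤ) : Gq B x (R 0) = 1 + x ^ 4 - x ^ 5 := by
  rw [Gq_coef B x (R 0) (G 0) (coefOK 0)]
  unfold G
  simp only [Fin.sum_univ_succ, _root_.Int.reduceNeg, _root_.Fin.isValue, _root_.Matrix.cons_val', _root_.Matrix.cons_val_fin_one, _root_.Matrix.cons_val_zero, _root_.Fin.coe_ofNat_eq_mod, _root_.Nat.zero_mod, _root_.pow_zero, _root_.mul_one, _root_.Matrix.cons_val_succ, _root_.Fin.val_succ, _root_.zero_add, _root_.pow_one, _root_.MulZeroClass.zero_mul, _root_.Nat.reduceAdd, _root_.one_mul, _root_.Finset.univ_unique, _root_.Fin.default_eq_zero, _root_.Fin.val_eq_zero, _root_.neg_mul, _root_.Finset.sum_neg_distrib, _root_.Finset.sum_const, _root_.Finset.card_singleton, _root_.Int.nsmul_eq_mul, _root_.Nat.cast_one]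
  try ring

theorem bez_0 (x : ℤ) : (1 - x + 2 * x ^ 2 - x ^ 3) * (1 - x ^ 2 + x ^ 4) + (1 + x - x ^ 2) * (1 + x ^ 4 - x ^ 5) = 2 := by
  ring

theorem G_1 (x : ℤ) : Gq B x (R 1) = 1 := by
  rw [Gq_coef B x (R 1) (G 1) (coefOK 1)]
  unfold G
  simp only [Fin.sum_univ_succ, _root_.Int.reduceNeg, _root_.Fin.isValue, _root_.Matrix.cons_val', _root_.Matrix.cons_val_fin_one, _root_.Matrix.cons_val_one, _root_.Matrix.cons_val_zero, _root_.Fin.coe_ofNat_eq_mod, _root_.Nat.zero_mod, _root_.pow_zero, _root_.mul_one, _root_.Matrix.cons_val_succ, _root_.Fin.val_succ, _root_.zero_add, _root_.pow_one, _root_.MulZeroClass.zero_mul, _root_.Nat.reduceAdd, _root_.Finset.univ_unique, _root_.Fin.default_eq_zero, _root_.Fin.val_eq_zero, _root_.Finset.sum_const_zero, _root_.add_zero]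
  try ring

theorem bez_1 (x : ℤ) : (0) * (1 - x ^ 2 + x ^ 4) + (2) * (1) = 2 := by
  ring

theorem G_2 (x : ℤ) : Gq B x (R 2) = 1 - x ^ 2 + x ^ 3 + x ^ 4 - x ^ 5 := by
  rw [Gq_coef B x (R 2) (G 2) (coefOK 2)]
  unfold G
  simp only [Fin.sum_univ_succ, _root_.Int.reduceNeg, _root_.Fin.isValue, _root_.Matrix.cons_val', _root_.Matrix.cons_val_fin_one, _root_.Matrix.cons_val, _root_.Matrix.cons_val_one, _root_.Matrix.cons_val_zero, _root_.Fin.coe_ofNat_eq_mod, _root_.Nat.zero_mod, _root_.pow_zero, _root_.mul_one, _root_.Matrix.cons_val_succ, _root_.Fin.val_succ, _root_.zero_add, _root_.pow_one, _root_.MulZeroClass.zero_mul, _root_.Nat.reduceAdd, _root_.neg_mul, _root_.one_mul, _root_.Finset.univ_unique, _root_.Fin.default_eq_zero, _root_.Fin.val_eq_zero, _root_.Finset.sum_neg_distrib, _root_.Finset.sum_const, _root_.Finset.card_singleton, _root_.Int.nsmul_eq_mul, _root_.Nat.cast_one]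
  try ring

theorem bez_2 (x : ℤ) : (2 - 2 * x + 2 * x ^ 2 + 2 * x ^ 3 - 2 * x ^ 4) * (1 - x ^ 2 + x ^ 4) + (2 * x - 2 * x ^ 3) * (1 - x ^ 2 + x ^ 3 + x ^ 4 - x ^ 5) = 2 := by
  ring

theorem G_3 (x : ℤ) : Gq B x (R 3) = 1 - x + x ^ 2 := by
  rw [Gq_coef B x (R 3) (G 3) (coefOK 3)]
  unfold G
  simp only [Fin.sum_univ_succ, _root_.Int.reduceNeg, _root_.Fin.isValue, _root_.Matrix.cons_val', _root_.Matrix.cons_val_fin_one, _root_.Matrix.cons_val, _root_.Matrix.cons_val_one, _root_.Matrix.cons_val_zero, _root_.Fin.coe_ofNat_eq_mod, _root_.Nat.zero_mod, _root_.pow_zero, _root_.mul_one, _root_.Matrix.cons_val_succ, _root_.Fin.val_succ, _root_.zero_add, _root_.pow_one, _root_.neg_mul, _root_.one_mul, _root_.Nat.reduceAdd, _root_.MulZeroClass.zero_mul, _root_.Finset.univ_unique, _root_.Fin.default_eq_zero, _root_.Fin.val_eq_zero, _root_.Finset.sum_const_zero, _root_.add_zero]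
  try ring

theorem bez_3 (x : ℤ) : (x) * (1 - x ^ 2 + x ^ 4) + (2 + x - x ^ 2 - x ^ 3) * (1 - x + x ^ 2) = 2 := by
  ring

theorem G_4 (x : ℤ) : Gq B x (R 4) = 1 - x + x ^ 4 - x ^ 5 := by
  rw [Gq_coef B x (R 4) (G 4) (coefOK 4)]
  unfold G
  simp only [Fin.sum_univ_succ, _root_.Int.reduceNeg, _root_.Fin.isValue, _root_.Matrix.cons_val', _root_.Matrix.cons_val_fin_one, _root_.Matrix.cons_val, _root_.Matrix.cons_val_one, _root_.Matrix.cons_val_zero, _root_.Fin.coe_ofNat_eq_mod, _root_.Nat.zero_mod, _root_.pow_zero, _root_.mul_one, _root_.Matrix.cons_val_succ, _root_.Fin.val_succ, _root_.zero_add, _root_.pow_one, _root_.neg_mul, _root_.one_mul, _root_.Nat.reduceAdd, _root_.MulZeroClass.zero_mul, _root_.Finset.univ_unique, _root_.Fin.default_eq_zero, _root_.Fin.val_eq_zero, _root_.Finset.sum_neg_distrib, _root_.Finset.sum_const, _root_.Finset.card_singleton, _root_.Int.nsmul_eq_mul, _root_.Nat.cast_one]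
  try ring

theorem bez_4 (x : ℤ) : (2 * x ^ 2) * (1 - x ^ 2 + x ^ 4) + (2 + 2 * x) * (1 - x + x ^ 4 - x ^ 5) = 2 := by
  ring

theorem G_5 (x : ℤ) : Gq B x (R 5) = 1 - x := by
  rw [Gq_coef B x (R 5) (G 5) (coefOK 5)]
  unfold G
  simp only [Fin.sum_univ_succ, _root_.Int.reduceNeg, _root_.Fin.isValue, _root_.Matrix.cons_val', _root_.Matrix.cons_val_fin_one, _root_.Matrix.cons_val, _root_.Matrix.cons_val_one, _root_.Matrix.cons_val_zero, _root_.Fin.coe_ofNat_eq_mod, _root_.Nat.zero_mod, _root_.pow_zero, _root_.mul_one, _root_.Matrix.cons_val_succ, _root_.Fin.val_succ, _root_.zero_add, _root_.pow_one, _root_.neg_mul, _root_.one_mul, _root_.Nat.reduceAdd, _root_.MulZeroClass.zero_mul, _root_.Finset.univ_unique, _root_.Fin.default_eq_zero, _root_.Fin.val_eq_zero, _root_.Finset.sum_const_zero, _root_.add_zero]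
  try ring

theorem bez_5 (x : ℤ) : (2) * (1 - x ^ 2 + x ^ 4) + (2 * x ^ 2 + 2 * x ^ 3) * (1 - x) = 2 := by
  ring

/-- Common divisors of `f(x)` and the value of `Gq` on a representative. -/
theorem dvd_of_G {x r : ℤ} (h : r ∣ 1 - x ^ 2 + x ^ 4) (s : Fin 6) (hs : r ∣ Gq B x (R s)) :
    r ∣ 2 := by
  have key : ∀ {a b g y : ℤ}, a * (1 - x ^ 2 + x ^ 4) + b * g = y → r ∣ g → r ∣ y := fun e hg => by
    rw [← e]
    exact dvd_add (h.mul_left _) (hg.mul_left _)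
  fin_cases s
  · exact key (bez_0 x) (by rw [← G_0]; exact hs)
  · exact key (bez_1 x) (by rw [← G_1]; exact hs)
  · exact key (bez_2 x) (by rw [← G_2]; exact hs)
  · exact key (bez_3 x) (by rw [← G_3]; exact hs)
  · exact key (bez_4 x) (by rw [← G_4]; exact hs)
  · exact key (bez_5 x) (by rw [← G_5]; exact hs)

end Cfsg.Agent.H83.TwEB
end

-- part: H83/RowE6A
section
/-!
# The three tori of `²E₆(q)` (helper83)
-/

set_option autoImplicit false
set_option linter.unusedSectionVars false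

namespace Cfsg.Agent.H83.RowE6A

open CoxeterSystem Cfsg Cfsg.Lie Cfsg.Lie.ChevalleyDatum
open Cfsg.Agent.ChevalleyStructure Cfsg.Agent.ChevalleyStructure.Elts Cfsg.Agent.ChevalleyStructure.CoxeterGeom
  Cfsg.Agent.ChevalleyStructure.CoxeterGeomTypes Cfsg.Agent.ChevalleyStructure.NPerm
open Cfsg.Agent.Tits.Roots Cfsg.Agent.Tits.Core Cfsg.Agent.Nodes Cfsg.Agent.Nodes.Reps Cfsg.Agent.Nodes.BNOf
  Cfsg.Agent.Nodes.RGDChev Cfsg.Agent.Nodes.Bruhat Cfsg.Agent.Nodes.SubComb Cfsg.Agent.Nodes.Coroot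
open Cfsg.Agent.KFacts.RgdField Cfsg.Agent.KFacts.RgdChevCoord Cfsg.Agent.BpExc.TorCent Cfsg.Agent.BpExc.TorChev
open Cfsg.Agent.GpExc.Field Cfsg.Agent.BpExc.Tow Cfsg.Agent.BpExc.TowChev Cfsg.Agent.BpExc.Fr
  Cfsg.Agent.BpExc.LangFr Cfsg.Agent.LangThm Cfsg.Agent.BpExc Cfsg.Agent.H129.TorusChar Cfsg.Agent.H129.TorusCent
  Cfsg.Agent.H129.TorusTw Cfsg.Agent.H129.TorusMain Cfsg.Agent.H129.TorusUntw Cfsg.Agent.ChevStructure.FieldMap
  Cfsg.Agent.BpExc.EmbSplit Cfsg.Agent.BpExc.EmbInst Cfsg.Agent.H83.TorAut Cfsg.Agent.H129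
  Cfsg.Agent.H129.TwE6Fr Cfsg.Agent.H83.RootCount Cfsg.Agent.H83.TorE6 Cfsg.Agent.H83.AutCount Cfsg.Agent.H83.NumE6
  Cfsg.Agent.H568

universe u

abbrev WE := CoxeterMatrix.E₆.Group

abbrev cE : CoxeterSystem CoxeterMatrix.E₆ WE := CoxeterMatrix.E₆.toCoxeterSystem

theorem card_W : Nat.card WE = 51840 :=
  ChevalleyStructure.WeylData.certE6.card_group.trans ChevalleyStructure.WeylData.size_E6

instance finite_W : Finite WE := Nat.finite_of_card_ne_zero (by rw [card_W]; norm_num)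

theorem not_dvd_W {r : ℕ} (hr : r.Prime) (hr2 : r ≠ 2) (hr3 : r ≠ 3) (hr5 : r ≠ 5) : ¬ r ∣ Nat.card WE := by
  rw [card_W]
  intro h
  have h2 : (51840 : ℕ) = 2 ^ 7 * 3 ^ 4 * 5 := by norm_num
  rw [h2] at h
  rcases (Nat.Prime.dvd_mul hr).1 h with h | h
  · rcases (Nat.Prime.dvd_mul hr).1 h with h | h
    · exact hr2 ((Nat.prime_dvd_prime_iff_eq hr Nat.prime_two).1 (hr.dvd_of_dvd_pow h))
    · exact hr3 ((Nat.prime_dvd_prime_iff_eq hr Nat.prime_three).1 (hr.dvd_of_dvd_pow h))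
  · exact hr5 ((Nat.prime_dvd_prime_iff_eq hr Nat.prime_five).1 h)

section

variable {k : Type u} [Field k] [IsAlgClosed k] {p e : ℕ} [Fact p.Prime] [CharP k p]
  {F : Type u} [Field F] [Fintype F] (f : F →+* k) {q : ℕ} (hq : IsPrimePow q) (hF : Fintype.card F = q ^ 2)

variable {f hq hF}

theorem tau_T {W : Type*} [Group W] {cs : CoxeterSystem CoxeterMatrix.E₆ W} {B : Fin 6 → Fin 6 → ℤ}
    {N d : ℕ} {z t : ↥(chevE6.group k)} {u : k} {x0 : ↥(twistedE6 F q)}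
    (T1 : Tor6 f hq hF cs p e B N d z t u x0) (i : ℤ) : tau k p e (z * t ^ i * z⁻¹) = z * t ^ i * z⁻¹ :=
  (T1.hfix _ (zpow_mem T1.ht i)).2 (Subgroup.zpow_mem_zpowers t i)

/-- **Elements of the first torus commuting with an element of the second torus.** -/
theorem eq_one_of_comm {W : Type*} [Group W] {cs : CoxeterSystem CoxeterMatrix.E₆ W}
    (hqe : q = p ^ e) {B B2 : Fin 6 → Fin 6 → ℤ} {N N2 d d2 : ℕ} {z t z2 t2 : ↥(chevE6.group k)}
    {u u2 : k} {x0 x02 : ↥(twistedE6 F q)} (T1 : Tor6 f hq hF cs p e B N d z t u x0)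
    (T2 : Tor6 f hq hF cs p e B2 N2 d2 z2 t2 u2 x02) {l2 : ℕ} (hl2 : l2.Prime)
    (hW : ¬ l2 ∣ Nat.card W) (hreg : ∀ a, IsRoot cs RGDTwE6.hp.isCartan a → ¬ (l2 : ℤ) ∣ Gq B2 (q : ℤ) a)
    (hidx : ¬ l2 ∣ (Subgroup.zpowers x02).index) (hgcd : Nat.gcd N N2 ∣ 3)
    (hne : Nat.card {r : Fin chevE6.nroots // ¬ (3 : ℤ) ∣ Gq B q (vec chevE6 6 r)} ≠
      Nat.card {r : Fin chevE6.nroots // ¬ (3 : ℤ) ∣ Gq B2 q (vec chevE6 6 r)})
    {x2 : ↥(twistedE6 F q)} (hx2 : x2 ∈ Subgroup.zpowers x02) (hl2x : l2 ∣ orderOf x2)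
    {y' : ↥(twistedE6 F q)} (hy' : orderOf y' = orderOf x2) {i : ℤ}
    (h : (z * t ^ i * z⁻¹) * embT f hq hF y' = embT f hq hF y' * (z * t ^ i * z⁻¹)) : t ^ i = 1 := by
  classical
  have hlf : Fact l2.Prime := ⟨hl2⟩
  obtain ⟨m, hm⟩ := hl2x
  have ho : 0 < orderOf x2 := orderOf_pos x2
  have hm0 : m ≠ 0 := by rintro rfl; omega
  have hxo : orderOf (x2 ^ m) = l2 := by
    rw [orderOf_pow_of_dvd hm0 (by rw [hm]; exact Dvd.intro_left _ rfl), hm,
      Nat.mul_div_cancel _ (Nat.pos_of_ne_zero hm0)]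
  have hyo : orderOf (y' ^ m) = l2 := by
    rw [orderOf_pow_of_dvd hm0 (by rw [hy', hm]; exact Dvd.intro_left _ rfl), hy', hm,
      Nat.mul_div_cancel _ (Nat.pos_of_ne_zero hm0)]
  obtain ⟨P, hP⟩ := exists_cyclic_sylow (G := ↥(twistedE6 F q)) (p := l2) (T := Subgroup.zpowers x02)
    inferInstance hidx
  obtain ⟨s, -, j, hj⟩ := conj_of_cyclic P hP hxo (y' ^ m) hyo
  have hj' : (y' ^ m) ^ j = s * x2 ^ m * s⁻¹ := hj
  set g := z * t ^ i * z⁻¹ with hg
  set e0 := embT f hq hF with he0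
  -- `g` commutes with `e0 (s x2^m s⁻¹)`
  have h1 : g * e0 (s * x2 ^ m * s⁻¹) = e0 (s * x2 ^ m * s⁻¹) * g := by
    rw [← hj', map_zpow, map_pow]
    exact (((show Commute g (e0 y') from h).pow_right m).zpow_right j).eq
  have h2 : ((e0 s)⁻¹ * g * e0 s) * e0 (x2 ^ m) = e0 (x2 ^ m) * ((e0 s)⁻¹ * g * e0 s) := by
    rw [map_mul, map_mul, map_inv] at h1
    calc ((e0 s)⁻¹ * g * e0 s) * e0 (x2 ^ m) = (e0 s)⁻¹ * (g * (e0 s * e0 (x2 ^ m) * (e0 s)⁻¹)) * e0 s := by group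
      _ = (e0 s)⁻¹ * (e0 s * e0 (x2 ^ m) * (e0 s)⁻¹ * g) * e0 s := by rw [h1]
      _ = _ := by group
  have h3 := (T2.hcent (x2 ^ m) (pow_mem hx2 m) l2 hl2 (by rw [hxo]) hW hreg).2 _ h2
  set c := z2⁻¹ * ((e0 s)⁻¹ * g * e0 s) * z2 with hc
  have h4 : z2 * c * z2⁻¹ = (e0 s)⁻¹ * g * e0 s := by rw [hc]; group
  have h5 : c ∈ Subgroup.zpowers t2 := by
    rw [← T2.hfix c h3, h4, map_mul, map_mul, map_inv, he0, tau_embT f hqe hq hF, hg, tau_T T1]
  obtain ⟨j', hj'⟩ := h5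
  have hj'' : t2 ^ j' = c := hj'
  refine eq_one_of_conj (y := z⁻¹ * e0 s * z2) RGDTwE6.hp T1.ht T2.ht T1.hu T2.hu T1.hcX T2.hcX T1.htN T2.htN hgcd hne
    (i := i) (j := j') ?_
  rw [hj'', hc, hg]
  group

end

/-! ### the first torus -/

section

variable {k : Type u} [Field k] [IsAlgClosed k] {p e : ℕ} [Fact p.Prime] [CharP k p]
  {F : Type u} [Field F] [Fintype F] (f : F →+* k) {q : ℕ} (hq : IsPrimePow q) (hF : Fintype.card F = q ^ 2)

theorem castN1 (hq1 : 1 ≤ q) : ((q ^ 6 - q ^ 3 + 1 : ℕ) : ℤ) = 1 - (q : ℤ) ^ 3 + (q : ℤ) ^ 6 := by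
  push_cast [Nat.cast_sub (le1 hq1)]; ring

theorem castP (hq1 : 1 ≤ q) : ((q ^ 4 - q ^ 2 + 1 : ℕ) : ℤ) = 1 - (q : ℤ) ^ 2 + (q : ℤ) ^ 4 := by
  push_cast [Nat.cast_sub (le2 hq1)]; ring

theorem castN2 (hq1 : 1 ≤ q) : (((q ^ 4 - q ^ 2 + 1) * (q ^ 2 - q + 1) : ℕ) : ℤ) =
    1 - (q : ℤ) + (q : ℤ) ^ 3 - (q : ℤ) ^ 5 + (q : ℤ) ^ 6 := by
  push_cast [Nat.cast_sub (le2 hq1), Nat.cast_sub (le3 hq1)]; ring

theorem torA (hk : LocFin k) (hqe : q = p ^ e) : ∃ (d' : ℕ) (z t : ↥(chevE6.group k)) (u : k) (x0 : ↥(twistedE6 F q)),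
    Tor6 f hq hF cE p e TwEA.B (q ^ 6 - q ^ 3 + 1) d' z t u x0 := by
  have hq1 := hq.one_lt.le
  have hlin := lin_flip cE TwEA.hA TwEA.chainOK TwEA.hd_pi
  refine exists_tor6 f hq hF cE hk hqe (TwEA.chain.map Prod.fst) (WData.cyc_of hlin TwEA.cycOK)
    (by rw [TwEA.fN_eq, castN1 hq1]) ?_ (by omega)
  exact UntwData.coprime_of_eq (a := -(q : ℤ) ^ 2 + (q : ℤ) ^ 5) (by rw [castN1 hq1]; ring)

theorem torB (hk : LocFin k) (hqe : q = p ^ e) : ∃ (d' : ℕ) (z t : ↥(chevE6.group k)) (u : k) (x0 : ↥(twistedE6 F q)),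
    Tor6 f hq hF cE p e TwEB.B ((q ^ 4 - q ^ 2 + 1) * (q ^ 2 - q + 1)) d' z t u x0 := by
  have hq1 := hq.one_lt.le
  have hlin := lin_flip cE TwEB.hA TwEB.chainOK TwEB.hd_pi
  refine exists_tor6 f hq hF cE hk hqe (TwEB.chain.map Prod.fst) (WData.cyc_of hlin TwEB.cycOK)
    (by rw [TwEB.fN_eq, castN2 hq1]) ?_ ?_
  · exact UntwData.coprime_of_eq (a := -1 + (q : ℤ) ^ 2 - (q : ℤ) ^ 4 + (q : ℤ) ^ 5) (by rw [castN2 hq1]; ring)
  · exact Nat.mul_ne_zero (by omega) (by omega)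

theorem torC (hk : LocFin k) (hqe : q = p ^ e) (hq2 : q = 2) :
    ∃ (d' : ℕ) (z t : ↥(chevE6.group k)) (u : k) (x0 : ↥(twistedE6 F q)),
    Tor6 f hq hF cE p e TwEC.B 51 d' z t u x0 := by
  have hlin := lin_flip cE TwEC.hA TwEC.chainOK TwEC.hd_pi
  refine exists_tor6 f hq hF cE hk hqe (TwEC.chain.map Prod.fst) (WData.cyc_of hlin TwEC.cycOK)
    (by rw [TwEC.fN_eq, hq2]; norm_num) (by rw [hq2]; decide) (by norm_num)

end

end Cfsg.Agent.H83.RowE6A
end

-- part: H83/RowE6B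
section
/-!
# The orders of the tori of `²E₆(q)` (helper83)
-/

set_option autoImplicit false
set_option linter.unusedSectionVars false

namespace Cfsg.Agent.H83.RowE6B

open CoxeterSystem Cfsg Cfsg.Lie Cfsg.Lie.ChevalleyDatum
open Cfsg.Agent.ChevalleyStructure Cfsg.Agent.ChevalleyStructure.Elts Cfsg.Agent.ChevalleyStructure.CoxeterGeom
  Cfsg.Agent.ChevalleyStructure.CoxeterGeomTypes Cfsg.Agent.ChevalleyStructure.NPerm
open Cfsg.Agent.Tits.Roots Cfsg.Agent.Tits.Core Cfsg.Agent.Nodes Cfsg.Agent.Nodes.Reps Cfsg.Agent.Nodes.BNOf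
  Cfsg.Agent.Nodes.RGDChev Cfsg.Agent.Nodes.Bruhat Cfsg.Agent.Nodes.SubComb Cfsg.Agent.Nodes.Coroot
open Cfsg.Agent.KFacts.RgdField Cfsg.Agent.KFacts.RgdChevCoord Cfsg.Agent.BpExc.TorCent Cfsg.Agent.BpExc.TorChev
open Cfsg.Agent.GpExc.Field Cfsg.Agent.BpExc.Tow Cfsg.Agent.BpExc.TowChev Cfsg.Agent.BpExc.Fr
  Cfsg.Agent.BpExc.LangFr Cfsg.Agent.LangThm Cfsg.Agent.BpExc Cfsg.Agent.H129.TorusChar Cfsg.Agent.H129.TorusCent
  Cfsg.Agent.H129.TorusTw Cfsg.Agent.H129.TorusMain Cfsg.Agent.H129.TorusUntw Cfsg.Agent.ChevStructure.FieldMap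
  Cfsg.Agent.BpExc.EmbSplit Cfsg.Agent.BpExc.EmbInst Cfsg.Agent.H83.TorAut Cfsg.Agent.H129
  Cfsg.Agent.H129.TwE6Fr Cfsg.Agent.H83.RootCount Cfsg.Agent.H83.TorE6 Cfsg.Agent.H83.AutCount Cfsg.Agent.H83.NumE6
  Cfsg.Agent.H568 Cfsg.Agent.H83.RowE6A

universe u

/-! ### regular primes -/

theorem regA {q : ℕ} (hq1 : 1 ≤ q) {r : ℕ} (hr : r.Prime) (hrN : r ∣ q ^ 6 - q ^ 3 + 1) (hr3 : r ≠ 3) :
    (¬ r ∣ Nat.card WE) ∧ ∀ a, IsRoot cE RGDTwE6.hp.isCartan a → ¬ (r : ℤ) ∣ Gq TwEA.B (q : ℤ) a := by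
  have key : ∀ m : ℕ, m ∣ q ^ 6 - q ^ 3 + 1 → ((q : ZMod m) ^ 6 - (q : ZMod m) ^ 3 + 1 = 0) := by
    intro m hm
    have h1 := (ZMod.natCast_eq_zero_iff (q ^ 6 - q ^ 3 + 1) m).2 hm
    push_cast [Nat.cast_sub (le1 hq1)] at h1
    exact h1
  refine ⟨not_dvd_W hr ?_ hr3 ?_, fun a ha => ?_⟩
  · rintro rfl
    have h1 := key 2 hrN
    revert h1
    generalize (q : ZMod 2) = x
    revert x
    decide
  · rintro rfl
    have h1 := key 5 hrN
    revert h1
    generalize (q : ZMod 5) = x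
    revert x
    decide
  · have hlin := lin_flip cE TwEA.hA TwEA.chainOK TwEA.hd_pi
    refine WData.not_dvd_G RGDTwE6.hp cE hlin (WData.cyc_of hlin TwEA.cycOK) TwEA.rootOK (q := q)
      (N := q ^ 6 - q ^ 3 + 1) (by rw [TwEA.fN_eq, castN1 hq1]) hr hrN
      (UntwData.coprime_of_eq (a := -(q : ℤ) ^ 2 + (q : ℤ) ^ 5) (by rw [castN1 hq1]; ring)) (fun s hs => ?_) ha
    have hrq : (r : ℤ) ∣ 1 - (q : ℤ) ^ 3 + (q : ℤ) ^ 6 := by
      rw [← castN1 hq1]; exact Int.natCast_dvd_natCast.2 hrN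
    have h2 := TwEA.dvd_of_G hrq s hs
    exact hr3 ((Nat.prime_dvd_prime_iff_eq hr Nat.prime_three).1 (by exact_mod_cast h2))

theorem primeB {q : ℕ} (hq1 : 1 ≤ q) {r : ℕ} (hr : r.Prime) (hrN : r ∣ q ^ 4 - q ^ 2 + 1) : r ≠ 2 ∧ r ≠ 3 ∧ r ≠ 5 := by
  have key : ∀ m : ℕ, m ∣ q ^ 4 - q ^ 2 + 1 → ((q : ZMod m) ^ 4 - (q : ZMod m) ^ 2 + 1 = 0) := by
    intro m hm
    have h1 := (ZMod.natCast_eq_zero_iff (q ^ 4 - q ^ 2 + 1) m).2 hm
    push_cast [Nat.cast_sub (le2 hq1)] at h1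
    exact h1
  refine ⟨?_, ?_, ?_⟩
  · rintro rfl
    have h1 := key 2 hrN
    revert h1
    generalize (q : ZMod 2) = x
    revert x
    decide
  · rintro rfl
    have h1 := key 3 hrN
    revert h1
    generalize (q : ZMod 3) = x
    revert x
    decide
  · rintro rfl
    have h1 := key 5 hrN
    revert h1
    generalize (q : ZMod 5) = x
    revert x
    decide

theorem regB {q : ℕ} (hq1 : 1 ≤ q) {r : ℕ} (hr : r.Prime) (hrN : r ∣ q ^ 4 - q ^ 2 + 1) :
    (¬ r ∣ Nat.card WE) ∧ ∀ a, IsRoot cE RGDTwE6.hp.isCartan a → ¬ (r : ℤ) ∣ Gq TwEB.B (q : ℤ) a := by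
  obtain ⟨h2, h3, h5⟩ := primeB hq1 hr hrN
  refine ⟨not_dvd_W hr h2 h3 h5, fun a ha => ?_⟩
  have hlin := lin_flip cE TwEB.hA TwEB.chainOK TwEB.hd_pi
  refine WData.not_dvd_G RGDTwE6.hp cE hlin (WData.cyc_of hlin TwEB.cycOK) TwEB.rootOK (q := q)
    (N := (q ^ 4 - q ^ 2 + 1) * (q ^ 2 - q + 1)) (by rw [TwEB.fN_eq, castN2 hq1]) hr (hrN.mul_right _)
    (UntwData.coprime_of_eq (a := -1 + (q : ℤ) ^ 2 - (q : ℤ) ^ 4 + (q : ℤ) ^ 5) (by rw [castN2 hq1]; ring))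
    (fun s hs => ?_) ha
  have hrq : (r : ℤ) ∣ 1 - (q : ℤ) ^ 2 + (q : ℤ) ^ 4 := by
    rw [← castP hq1]; exact Int.natCast_dvd_natCast.2 hrN
  have h6 := TwEB.dvd_of_G hrq s hs
  exact h2 ((Nat.prime_dvd_prime_iff_eq hr Nat.prime_two).1 (by exact_mod_cast h6))

theorem regC : (¬ 17 ∣ Nat.card WE) ∧ ∀ a, IsRoot cE RGDTwE6.hp.isCartan a →
    ¬ ((17 : ℕ) : ℤ) ∣ Gq TwEC.B ((2 : ℕ) : ℤ) a := by
  refine ⟨not_dvd_W (by norm_num) (by norm_num) (by norm_num) (by norm_num), fun a ha => ?_⟩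
  have hlin := lin_flip cE TwEC.hA TwEC.chainOK TwEC.hd_pi
  refine WData.not_dvd_G RGDTwE6.hp cE hlin (WData.cyc_of hlin TwEC.cycOK) TwEC.rootOK (q := 2)
    (N := 51) (by rw [TwEC.fN_eq]; norm_num) (by norm_num) (by norm_num) (by decide)
    (fun s hs => ?_) ha
  have h6 := TwEC.dvd_of_G (x := ((2 : ℕ) : ℤ)) (by norm_num) s hs
  norm_num at h6

/-! ### the orders -/

section

variable {k : Type u} [Field k] [IsAlgClosed k] {p e : ℕ} [Fact p.Prime] [CharP k p]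
  {F : Type u} [Field F] [Fintype F] {f : F →+* k} {q : ℕ} {hq : IsPrimePow q} {hF : Fintype.card F = q ^ 2}
  {W : Type*} [Group W] {cs : CoxeterSystem CoxeterMatrix.E₆ W} {B : Fin 6 → Fin 6 → ℤ}
    {N d : ℕ} {z t : ↥(chevE6.group k)} {u : k} {x0 : ↥(twistedE6 F q)}

theorem card_T (T1 : Tor6 f hq hF cs p e B N d z t u x0) : Nat.card ↥(Subgroup.zpowers x0) = N / d := by
  rw [Nat.card_zpowers, T1.hord]

theorem index_eq (T1 : Tor6 f hq hF cs p e B N d z t u x0) (hN0 : N ≠ 0) {M : ℕ}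
    (hM : q ^ 36 * (q ^ 2 - 1) * (q ^ 5 + 1) * (q ^ 6 - 1) * (q ^ 8 - 1) * (q ^ 9 + 1) * (q ^ 12 - 1) = N * M) :
    Nat.gcd 3 (q + 1) * (Subgroup.zpowers x0).index = d * M := by
  have h1 := (Subgroup.zpowers x0).card_mul_index
  rw [card_T T1] at h1
  have h2 := S1066.result hq hF
  rw [hM, ← h1] at h2
  obtain ⟨m, hm⟩ := T1.hdN
  have hd0 : d ≠ 0 := by rintro rfl; rw [zero_mul] at hm; exact hN0 hm
  have hm0 : m ≠ 0 := by rintro rfl; rw [mul_zero] at hm; exact hN0 hm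
  have h3 : N / d = m := by rw [hm, Nat.mul_div_cancel_left _ (Nat.pos_of_ne_zero hd0)]
  rw [h3] at h2
  apply Nat.eq_of_mul_eq_mul_left (Nat.pos_of_ne_zero hm0)
  calc m * (Nat.gcd 3 (q + 1) * (Subgroup.zpowers x0).index)
      = Nat.gcd 3 (q + 1) * (m * (Subgroup.zpowers x0).index) := by ring
    _ = N * M := h2
    _ = m * (d * M) := by rw [hm]; ring

/-- `d = gcd(3, q + 1)`. -/
theorem exact (T1 : Tor6 f hq hF cs p e B N d z t u x0) (hN0 : N ≠ 0) {M : ℕ}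
    (hM : q ^ 36 * (q ^ 2 - 1) * (q ^ 5 + 1) * (q ^ 6 - 1) * (q ^ 8 - 1) * (q ^ 9 + 1) * (q ^ 12 - 1) = N * M)
    {l : ℕ} (hl : l.Prime) (hl3 : l ≠ 3) (hlN : l ∣ N) (hW : ¬ l ∣ Nat.card W)
    (hreg : ∀ a, IsRoot cs RGDTwE6.hp.isCartan a → ¬ (l : ℤ) ∣ Gq B (q : ℤ) a) {c m : ℕ} (hc : 0 < c) (hcl : c < l)
    (hmod : M ≡ 3 * c [MOD l]) (hm : orderOf ((q ^ 2 : ℕ) : ZMod l) = m) (hmc : ¬ m ∣ c) :
    d = Nat.gcd 3 (q + 1) := by
  have hidx := index_eq T1 hN0 hM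
  have hd := T1.hd
  rcases (Nat.dvd_prime Nat.prime_three).1 (Nat.gcd_dvd_left 3 (q + 1)) with hg | hg
  · rw [hg] at hd ⊢
    exact Nat.dvd_one.1 hd
  · rw [hg] at hd hidx ⊢
    rcases (Nat.dvd_prime Nat.prime_three).1 hd with h1 | h1
    · exfalso
      rw [h1, one_mul] at hidx
      obtain ⟨j, hj⟩ := hlN
      have hj0 : j ≠ 0 := by rintro rfl; rw [mul_zero] at hj; exact hN0 hj
      have hord : orderOf x0 = N := by rw [T1.hord, h1, Nat.div_one]
      have hx1 : orderOf (x0 ^ j) = l := by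
        rw [orderOf_pow_of_dvd hj0 (by rw [hord, hj]; exact Dvd.intro_left _ rfl), hord, hj,
          Nat.mul_div_cancel _ (Nat.pos_of_ne_zero hj0)]
      have hT := (T1.hcent (x0 ^ j) (Subgroup.npow_mem_zpowers x0 j) l hl (by rw [hx1]) hW hreg).1
      obtain ⟨v, hv⟩ := T1.hv
      have hv' : v * x0 ^ j * v⁻¹ = (x0 ^ j) ^ q ^ 2 := by
        rw [← conj_pow, hv, ← pow_mul, ← pow_mul, mul_comm]
      refine hmc (dvd_of_mod hl hx1 hT inferInstance hc hcl ?_ hv' hm)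
      rw [← hidx] at hmod
      have hco : Nat.gcd l 3 = 1 := by
        rw [← Nat.Coprime, Nat.coprime_primes hl Nat.prime_three]
        exact hl3
      exact Nat.ModEq.cancel_left_of_coprime hco hmod
    · exact h1

end

end Cfsg.Agent.H83.RowE6B
end

private theorem dce_d7b469543e62 : _root_.True := by
  try have : _root_.True := by simp only [_root_.Cfsg.Agent.H83.NumE6.M2.eq_1]
  try have : _root_.True := by simp only [_root_.Cfsg.Agent.H83.NumE6.M1.eq_1]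
  exact _root_.True.intro
end

-- part: H83/Frob
section
set_option linter.all false
open scoped Cfsg.Agent.FastGrp

/-!
# Frobenius groups in linear groups (helper83)

`noNorm_of_frob` : `x` in a finite group `S` with a faithful representation of degree less than the order of `x` over a
field of characteristic `≠ p`; if no `1 ≠ s ∈ ⟨x⟩` commutes with an element of order `p`, then `x` normalises no
nontrivial `p`-subgroup.
-/

set_option autoImplicit false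

namespace Cfsg.Agent.H83.Frob

open Subgroup Module Cfsg.Agent.H568

/-- A multiplicative function on a finite abelian group `A`, invariant under a fixed point free automorphism, is
trivial. -/
theorem char_trivial {S : Type*} [Group S] {A : Subgroup S} [Finite ↥A] {K : Type*} [Monoid K] (χ : ↥A → K)
    (h1 : χ 1 = 1) (hmul : ∀ a b : ↥A, χ (a * b) = χ a * χ b) (φ : ↥A → ↥A) (hφ : ∀ a b, φ (a * b) = φ a * φ b)
    (hcomm : ∀ a b : ↥A, a * b = b * a) (hfix : ∀ a, φ a = a → a = 1) (hχ : ∀ a, χ (φ a) = χ a) (a : ↥A) : χ a = 1 := by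
  have hφ1 : φ 1 = 1 := by
    have := hφ 1 1
    rw [one_mul] at this
    exact (left_eq_mul.1 this)
  have hφi : ∀ a, φ a⁻¹ = (φ a)⁻¹ := fun a => by
    rw [eq_inv_iff_mul_eq_one, ← hφ, inv_mul_cancel, hφ1]
  have hinj : Function.Injective (fun a : ↥A => a⁻¹ * φ a) := by
    intro a b h
    have h2 : a⁻¹ * φ a = b⁻¹ * φ b := h
    have h3 : φ (a * b⁻¹) = a * b⁻¹ := by
      rw [hφ, hφi]
      calc φ a * (φ b)⁻¹ = a * (a⁻¹ * φ a) * (φ b)⁻¹ := by group
        _ = a * (b⁻¹ * φ b) * (φ b)⁻¹ := by rw [h2]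
        _ = a * b⁻¹ := by group
    have := hfix _ h3
    exact mul_inv_eq_one.1 this
  obtain ⟨b, hb⟩ := Finite.surjective_of_injective hinj a
  have hb' : b⁻¹ * φ b = a := hb
  rw [← hb', hmul, hχ, ← hmul, inv_mul_cancel, h1]

theorem noNorm_of_frob {S : Type*} [Group S] [Finite S] {ι : Type*} [Fintype ι] [DecidableEq ι] {k : Type*} [Field k]
    (ρ : S →* Matrix.GeneralLinearGroup ι k) (hρ : Function.Injective ρ) {p : ℕ} (hp : p.Prime) (hpk : (p : k) ≠ 0)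
    {x : S} (hcard : Fintype.card ι < orderOf x)
    (hx : ∀ s ∈ zpowers x, s ≠ 1 → ∀ y : S, orderOf y = p → y * s ≠ s * y) : NoNorm p x := by
  classical
  have hpf : Fact p.Prime := ⟨hp⟩
  intro Q hQ hn
  by_contra hQ1
  -- the subgroup `A`
  let A : Subgroup S :=
    { carrier := {y | y ∈ Q ∧ (∀ z ∈ Q, y * z = z * y) ∧ y ^ p = 1}
      one_mem' := ⟨Q.one_mem, fun z _ => by rw [one_mul, mul_one], one_pow p⟩
      mul_mem' := by
        rintro a b ⟨ha, ha2, ha3⟩ ⟨hb, hb2, hb3⟩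
        refine ⟨Q.mul_mem ha hb, fun z hz => ?_, ?_⟩
        · rw [mul_assoc, hb2 z hz, ← mul_assoc, ha2 z hz, mul_assoc]
        · rw [(show Commute a b from ha2 b hb).mul_pow, ha3, hb3, one_mul]
      inv_mem' := by
        rintro a ⟨ha, ha2, ha3⟩
        refine ⟨Q.inv_mem ha, fun z hz => ?_, by rw [inv_pow, ha3, inv_one]⟩
        exact ((show Commute a z from ha2 z hz).inv_left).eq }
  have hcomm : ∀ a b : ↥A, a * b = b * a := fun a b => Subtype.ext (a.2.2.1 b b.2.1)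
  obtain ⟨a0, ha0⟩ : ∃ a0 : ↥A, a0 ≠ 1 := by
    have : Nontrivial ↥Q := (nontrivial_iff_ne_bot Q).2 hQ1
    have hc := hQ.center_nontrivial
    obtain ⟨c, hc1⟩ := exists_ne (1 : ↥(center ↥Q))
    obtain ⟨n, hn⟩ := (hQ.to_subgroup (center ↥Q)) c
    obtain ⟨j, -, hj⟩ := (Nat.dvd_prime_pow hp).1 (orderOf_dvd_of_pow_eq_one hn)
    have hj0 : j ≠ 0 := by
      rintro rfl
      rw [pow_zero, orderOf_eq_one_iff] at hj
      exact hc1 hj
    obtain ⟨i, rfl⟩ : ∃ i, j = i + 1 := ⟨j - 1, by omega⟩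
    have ho : orderOf (c ^ p ^ i) = p := by
      rw [orderOf_pow_of_dvd (pow_ne_zero _ hp.ne_zero) (by rw [hj, pow_succ]; exact Dvd.intro _ rfl), hj, pow_succ,
        Nat.mul_div_cancel_left _ (pow_pos hp.pos _)]
    refine ⟨⟨((c ^ p ^ i : ↥(center ↥Q)) : ↥Q), ((c ^ p ^ i : ↥(center ↥Q)) : ↥Q).2, fun z hz => ?_, ?_⟩, ?_⟩
    · have h2 := mem_center_iff.1 (c ^ p ^ i : ↥(center ↥Q)).2 ⟨z, hz⟩
      exact (congrArg Subtype.val h2).symm
    · have h2 : (c ^ p ^ i) ^ p = 1 := by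
        have h3 := pow_orderOf_eq_one (c ^ p ^ i)
        rwa [ho] at h3
      exact congrArg (fun t : ↥(center ↥Q) => ((t : ↥Q) : S)) h2
    · intro h2
      have h2' : (((c ^ p ^ i : ↥(center ↥Q)) : ↥Q) : S) = 1 := congrArg (Subtype.val : ↥A → S) h2
      have h3 : ((c ^ p ^ i : ↥(center ↥Q)) : ↥Q) = 1 := Subtype.ext h2'
      have h4 : c ^ p ^ i = 1 := Subtype.ext h3
      rw [h4, orderOf_one] at ho
      exact hp.one_lt.ne ho
  -- powers of `x` normalise `A`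
  have hxi : ∀ i : ℤ, ∀ a ∈ A, x ^ (-i) * a * x ^ i ∈ A := by
    intro i a ha
    have hni : x ^ (-i) ∈ normalizer (Q : Set S) := zpow_mem hn _
    have hci : ∀ y ∈ Q, x ^ (-i) * y * x ^ i ∈ Q := by
      intro y hy
      have h2 := (mem_normalizer_iff.1 hni y).1 hy
      rwa [zpow_neg, inv_inv, ← zpow_neg] at h2
    have hci' : ∀ y ∈ Q, x ^ i * y * x ^ (-i) ∈ Q := by
      intro y hy
      have h2 := (mem_normalizer_iff.1 (inv_mem hni) y).1 hy
      rwa [← zpow_neg, neg_neg, ← zpow_neg] at h2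
    refine ⟨hci a ha.1, fun z hz => ?_, ?_⟩
    · have h2 := ha.2.1 (x ^ i * z * x ^ (-i)) (hci' z hz)
      calc x ^ (-i) * a * x ^ i * z = x ^ (-i) * (a * (x ^ i * z * x ^ (-i))) * x ^ i := by group
        _ = x ^ (-i) * (x ^ i * z * x ^ (-i) * a) * x ^ i := by rw [h2]
        _ = z * (x ^ (-i) * a * x ^ i) := by group
    · have h2 : x ^ (-i) * a * x ^ i = MulAut.conj (x ^ (-i)) a := by
        rw [MulAut.conj_apply, zpow_neg, inv_inv]
      rw [h2, ← map_pow, ha.2.2, map_one]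
  -- operators
  let f : ↥A → End (AlgebraicClosure k) (ι → AlgebraicClosure k) := fun a => opK ρ (a : S)
  have hfcomm : ∀ i j, f i * f j = f j * f i := by
    intro i j
    show opK ρ (i : S) * opK ρ (j : S) = opK ρ (j : S) * opK ρ (i : S)
    rw [← map_mul, ← map_mul, i.2.2.1 j j.2.1]
  have hpK : (p : AlgebraicClosure k) ≠ 0 := by
    have := (map_ne_zero (algebraMap k (AlgebraicClosure k))).2 hpk
    rwa [map_natCast] at this
  have hfp : ∀ i, f i ^ p = 1 := by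
    intro i
    show opK ρ (i : S) ^ p = 1
    rw [← map_pow, i.2.2.2, map_one]
  obtain ⟨χ, v, hv, hne⟩ : ∃ (χ : ↥A → AlgebraicClosure k) (v : ι → AlgebraicClosure k), (∀ i, f i v = χ i • v) ∧
      f a0 v ≠ v := by
    by_contra hcon
    push Not at hcon
    have h1 : f a0 = LinearMap.id := LinA.eq_of_joint f hfcomm p hpK hfp fun χ v hv => hcon χ v hv
    apply ha0
    apply Subtype.ext
    apply hρ
    rw [opK_injOn (ρ := ρ) (g := (a0 : S)) h1]
    exact (map_one ρ).symm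
  have hv0 : v ≠ 0 := by
    rintro rfl
    exact hne (map_zero _)
  have hχ0 : χ a0 ≠ 1 := by
    intro h
    apply hne
    rw [hv, h, one_smul]
  have hχ1 : χ 1 = 1 := by
    have h2 : f 1 v = v := by
      show opK ρ (1 : S) v = v
      rw [map_one]; rfl
    rw [hv] at h2
    have h3 : (χ 1 - 1) • v = 0 := by rw [sub_smul, h2, one_smul, sub_self]
    exact sub_eq_zero.1 ((smul_eq_zero.1 h3).resolve_right hv0)
  have hχm : ∀ a b : ↥A, χ (a * b) = χ a * χ b := by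
    intro a b
    have h2 : f (a * b) v = f a (f b v) := by
      show opK ρ ((a : S) * b) v = opK ρ (a : S) (opK ρ (b : S) v)
      rw [map_mul]; rfl
    rw [hv, hv b, map_smul, hv a, smul_smul, mul_comm (χ b)] at h2
    have h3 : (χ (a * b) - χ a * χ b) • v = 0 := by rw [sub_smul, h2, sub_self]
    exact sub_eq_zero.1 ((smul_eq_zero.1 h3).resolve_right hv0)
  -- the eigenvectors
  let n := orderOf x
  let cj : ℤ → ↥A → ↥A := fun i a => ⟨x ^ (-i) * (a : S) * x ^ i, hxi i a a.2⟩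
  have h1 : Nat.card (Fin n) ≤ finrank (AlgebraicClosure k) (ι → AlgebraicClosure k) := by
    refine LinA.card_le_finrank_of_joint f (fun i : Fin n => opK ρ (x ^ ((i : ℕ) : ℤ)) v)
      (fun i a => χ (cj ((i : ℕ) : ℤ) a)) ?_ ?_ ?_
    · intro i h2
      apply hv0
      have h3 : opK ρ (x ^ (-((i : ℕ) : ℤ))) (opK ρ (x ^ ((i : ℕ) : ℤ)) v) = v := by
        rw [← Module.End.mul_apply, ← map_mul, ← zpow_add, neg_add_cancel, zpow_zero, map_one]; rfl
      have h2' : opK ρ (x ^ ((i : ℕ) : ℤ)) v = 0 := h2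
      rw [← h3, h2', map_zero]
    · intro a i
      show opK ρ (a : S) (opK ρ (x ^ ((i : ℕ) : ℤ)) v) = χ (cj ((i : ℕ) : ℤ) a) • opK ρ (x ^ ((i : ℕ) : ℤ)) v
      rw [← map_smul, ← hv, ← Module.End.mul_apply, ← map_mul]
      show _ = opK ρ (x ^ ((i : ℕ) : ℤ)) (opK ρ (x ^ (-((i : ℕ) : ℤ)) * (a : S) * x ^ ((i : ℕ) : ℤ)) v)
      rw [← Module.End.mul_apply (opK ρ (x ^ ((i : ℕ) : ℤ))), ← map_mul]
      congr 2
      group
    · intro i j hij
      by_contra hne2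
      wlog hlt : (i : ℕ) < (j : ℕ) generalizing i j
      · refine this hij.symm (Ne.symm hne2) ?_
        have : (i : ℕ) ≠ (j : ℕ) := fun h => hne2 (Fin.ext h)
        omega
      -- `h = x ^ (j - i)`
      set h := x ^ (((j : ℕ) : ℤ) - ((i : ℕ) : ℤ)) with hh
      have hh1 : h ≠ 1 := by
        intro h2
        rw [hh, ← Nat.cast_sub hlt.le, zpow_natCast] at h2
        have h3 := Nat.le_of_dvd (by omega) (orderOf_dvd_of_pow_eq_one h2)
        have h4 : (j : ℕ) < orderOf x := j.2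
        omega
      have hfinA : Finite ↥A := inferInstance
      have hχc : ∀ a, χ (cj (((j : ℕ) : ℤ) - ((i : ℕ) : ℤ)) a) = χ a := by
        intro a
        have h2 := congrFun hij (cj (-((i : ℕ) : ℤ)) a)
        have h3 : cj ((i : ℕ) : ℤ) (cj (-((i : ℕ) : ℤ)) a) = a := by
          apply Subtype.ext
          show x ^ (-((i : ℕ) : ℤ)) * (x ^ (- -((i : ℕ) : ℤ)) * (a : S) * x ^ (-((i : ℕ) : ℤ))) * x ^ ((i : ℕ) : ℤ) = a
          group
        have h4 : cj ((j : ℕ) : ℤ) (cj (-((i : ℕ) : ℤ)) a) = cj (((j : ℕ) : ℤ) - ((i : ℕ) : ℤ)) a := by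
          apply Subtype.ext
          show x ^ (-((j : ℕ) : ℤ)) * (x ^ (- -((i : ℕ) : ℤ)) * (a : S) * x ^ (-((i : ℕ) : ℤ))) * x ^ ((j : ℕ) : ℤ) =
            x ^ (-(((j : ℕ) : ℤ) - ((i : ℕ) : ℤ))) * (a : S) * x ^ (((j : ℕ) : ℤ) - ((i : ℕ) : ℤ))
          group
        have h2' : χ (cj ((i : ℕ) : ℤ) (cj (-((i : ℕ) : ℤ)) a)) = χ (cj ((j : ℕ) : ℤ) (cj (-((i : ℕ) : ℤ)) a)) := h2
        rw [h3, h4] at h2'
        exact h2'.symm
      apply hχ0
      refine char_trivial χ hχ1 hχm (cj (((j : ℕ) : ℤ) - ((i : ℕ) : ℤ))) ?_ hcomm ?_ hχc a0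
      · intro a b
        apply Subtype.ext
        show x ^ (-(((j : ℕ) : ℤ) - ((i : ℕ) : ℤ))) * ((a : S) * b) * x ^ (((j : ℕ) : ℤ) - ((i : ℕ) : ℤ)) =
          x ^ (-(((j : ℕ) : ℤ) - ((i : ℕ) : ℤ))) * (a : S) * x ^ (((j : ℕ) : ℤ) - ((i : ℕ) : ℤ)) *
            (x ^ (-(((j : ℕ) : ℤ) - ((i : ℕ) : ℤ))) * (b : S) * x ^ (((j : ℕ) : ℤ) - ((i : ℕ) : ℤ)))
        group
      · intro a ha
        by_contra ha1
        have h2 : x ^ (-(((j : ℕ) : ℤ) - ((i : ℕ) : ℤ))) * (a : S) * x ^ (((j : ℕ) : ℤ) - ((i : ℕ) : ℤ)) = a :=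
          congrArg Subtype.val ha
        have h3 : (a : S) * h = h * a := by
          rw [zpow_neg, ← hh] at h2
          calc (a : S) * h = h * (h⁻¹ * a * h) := by group
            _ = h * a := by rw [h2]
        refine hx h (zpow_mem_zpowers x _) hh1 (a : S) ?_ h3
        refine orderOf_eq_prime a.2.2.2 fun h4 => ha1 (Subtype.ext h4)
  have h2 : finrank (AlgebraicClosure k) (ι → AlgebraicClosure k) = Fintype.card ι := by simp
  rw [Nat.card_eq_fintype_card, Fintype.card_fin, h2] at h1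
  omega

end Cfsg.Agent.H83.Frob
end

-- part: H83/RowE6C
section
prune_inst 0x10006144650000000000001240000020740001900020000160a001460909c3028002a9000a8001020042a2801004000811100040020000000a00000000000120902a060011340c0cc60001800084000000000000000000000000000000000000000000000
set_option linter.all false
open scoped Cfsg.Agent.FastGrp

/-!
# The elements of `²E₆(q)` used in S4329 (helper83)
-/

set_option autoImplicit false
set_option linter.unusedSectionVars false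

namespace Cfsg.Agent.H83.RowE6C

open CoxeterSystem Cfsg Cfsg.Lie Cfsg.Lie.ChevalleyDatum
open Cfsg.Agent.ChevalleyStructure Cfsg.Agent.ChevalleyStructure.Elts Cfsg.Agent.ChevalleyStructure.CoxeterGeom
  Cfsg.Agent.ChevalleyStructure.CoxeterGeomTypes Cfsg.Agent.ChevalleyStructure.NPerm
open Cfsg.Agent.Tits.Roots Cfsg.Agent.Tits.Core Cfsg.Agent.Nodes Cfsg.Agent.Nodes.Reps Cfsg.Agent.Nodes.BNOf
  Cfsg.Agent.Nodes.RGDChev Cfsg.Agent.Nodes.Bruhat Cfsg.Agent.Nodes.SubComb Cfsg.Agent.Nodes.Coroot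
open Cfsg.Agent.KFacts.RgdField Cfsg.Agent.KFacts.RgdChevCoord Cfsg.Agent.BpExc.TorCent Cfsg.Agent.BpExc.TorChev
open Cfsg.Agent.GpExc.Field Cfsg.Agent.BpExc.Tow Cfsg.Agent.BpExc.TowChev Cfsg.Agent.BpExc.Fr
  Cfsg.Agent.BpExc.LangFr Cfsg.Agent.LangThm Cfsg.Agent.BpExc Cfsg.Agent.H129.TorusChar Cfsg.Agent.H129.TorusCent
  Cfsg.Agent.H129.TorusTw Cfsg.Agent.H129.TorusMain Cfsg.Agent.H129.TorusUntw Cfsg.Agent.ChevStructure.FieldMap
  Cfsg.Agent.BpExc.EmbSplit Cfsg.Agent.BpExc.EmbInst Cfsg.Agent.H83.TorAut Cfsg.Agent.H129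
  Cfsg.Agent.H129.TwE6Fr Cfsg.Agent.H83.RootCount Cfsg.Agent.H83.TorE6 Cfsg.Agent.H83.AutCount Cfsg.Agent.H83.NumE6
  Cfsg.Agent.H568 Cfsg.Agent.H83.RowE6A Cfsg.Agent.H83.RowE6B

universe u

/-! ### numbers -/

theorem card_compl {P : Fin 72 → Prop} [DecidablePred P] {n : ℕ} (h : (Finset.univ.filter P).card = n) :
    Nat.card {r : Fin 72 // ¬ P r} = 72 - n := by
  rw [Nat.card_eq_fintype_card, Fintype.card_subtype, ← h, ← Finset.compl_filter, Finset.card_compl, Fintype.card_fin]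

theorem count {B : Fin 6 → Fin 6 → ℤ} {n q : ℕ} (hq : (3 : ℤ) ∣ (q : ℤ) + 1)
    (h : (Finset.univ.filter fun r : Fin 72 => (3 : ℤ) ∣ Gq B (-1) (vec chevE6 6 r)).card = n) :
    Nat.card {r : Fin chevE6.nroots // ¬ (3 : ℤ) ∣ Gq B q (vec chevE6 6 r)} = 72 - n := by
  rw [← card_compl h]
  refine Nat.card_congr (Equiv.subtypeEquivRight fun r => not_congr (Gq_mod hq _))

theorem gcd_three {q : ℕ} (hg : Nat.gcd 3 (q + 1) = 3) : (3 : ℤ) ∣ (q : ℤ) + 1 := by
  have h1 : 3 ∣ q + 1 := by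
    have := Nat.gcd_dvd_right 3 (q + 1)
    rwa [hg] at this
  exact_mod_cast Int.natCast_dvd_natCast.2 h1

theorem gcd_AB {q : ℕ} (hq1 : 1 ≤ q) :
    Nat.gcd (q ^ 6 - q ^ 3 + 1) ((q ^ 4 - q ^ 2 + 1) * (q ^ 2 - q + 1)) ∣ 3 := by
  set g := Nat.gcd (q ^ 6 - q ^ 3 + 1) ((q ^ 4 - q ^ 2 + 1) * (q ^ 2 - q + 1)) with hg
  have h1 : (g : ℤ) ∣ 1 - (q : ℤ) ^ 3 + (q : ℤ) ^ 6 := by
    rw [← castN1 hq1]
    exact Int.natCast_dvd_natCast.2 (Nat.gcd_dvd_left _ _)
  have h2 : (g : ℤ) ∣ 1 - (q : ℤ) + (q : ℤ) ^ 3 - (q : ℤ) ^ 5 + (q : ℤ) ^ 6 := by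
    rw [← castN2 hq1]
    exact Int.natCast_dvd_natCast.2 (Nat.gcd_dvd_right _ _)
  have h3 : (g : ℤ) ∣ 3 := by
    have e : (3 : ℤ) = (2 * (q : ℤ) + (q : ℤ) ^ 3 + 2 * (q : ℤ) ^ 5) * (1 - (q : ℤ) ^ 3 + (q : ℤ) ^ 6) +
        (3 + (q : ℤ) + (q : ℤ) ^ 2 - 3 * (q : ℤ) ^ 3 - 2 * (q : ℤ) ^ 4 - 2 * (q : ℤ) ^ 5) *
          (1 - (q : ℤ) + (q : ℤ) ^ 3 - (q : ℤ) ^ 5 + (q : ℤ) ^ 6) := by ring
    rw [e]
    exact dvd_add (h1.mul_left _) (h2.mul_left _)
  exact_mod_cast h3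

/-- The order of `q²` modulo a divisor of `q⁴ - q² + 1`. -/
theorem ord_B {q l : ℕ} (hq1 : 1 ≤ q) (hl : l.Prime) (hlN : l ∣ q ^ 4 - q ^ 2 + 1) :
    orderOf ((q ^ 2 : ℕ) : ZMod l) = 6 := by
  have hlf : Fact l.Prime := ⟨hl⟩
  obtain ⟨hl2, hl3, -⟩ := primeB hq1 hl hlN
  have h1 : (q : ZMod l) ^ 4 - (q : ZMod l) ^ 2 + 1 = 0 := by
    have h1 := (ZMod.natCast_eq_zero_iff (q ^ 4 - q ^ 2 + 1) l).2 hlN
    push_cast [Nat.cast_sub (le2 hq1)] at h1
    exact h1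
  push_cast
  have hcast : ∀ n : ℕ, n.Prime → n ≠ l → ((n : ℕ) : ZMod l) ≠ 0 := by
    intro n hn hne h
    rw [ZMod.natCast_eq_zero_iff] at h
    exact hne ((Nat.prime_dvd_prime_iff_eq hl hn).1 h).symm
  have h2 : ((2 : ℕ) : ZMod l) ≠ 0 := hcast 2 Nat.prime_two (Ne.symm hl2)
  have h3 : ((3 : ℕ) : ZMod l) ≠ 0 := hcast 3 Nat.prime_three (Ne.symm hl3)
  push_cast at h2 h3
  generalize (q : ZMod l) = y at h1
  apply orderOf_eq_of_pow_and_pow_div_prime (by norm_num)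
  · calc (y ^ 2) ^ 6 = ((y ^ 2 + 1) * (y ^ 4 - y ^ 2 + 1) - 1) ^ 2 := by ring
      _ = 1 := by rw [h1]; ring
  · intro p hp hpd
    have hp' : p = 2 ∨ p = 3 := by
      have h6 : p ∣ 2 * 3 := hpd
      rcases (Nat.Prime.dvd_mul hp).1 h6 with h | h
      · left; exact (Nat.prime_dvd_prime_iff_eq hp Nat.prime_two).1 h
      · right; exact (Nat.prime_dvd_prime_iff_eq hp Nat.prime_three).1 h
    rcases hp' with rfl | rfl
    · intro h
      apply h2
      have e : (y ^ 2) ^ (6 / 2) = (y ^ 2 + 1) * (y ^ 4 - y ^ 2 + 1) - 1 := by norm_num; ring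
      rw [e, h1] at h
      linear_combination -h
    · intro h
      apply h3
      have e : (y ^ 2) ^ (6 / 3) = (y ^ 4 - y ^ 2 + 1) + y ^ 2 - 1 := by norm_num; ring
      rw [e, h1] at h
      -- `y ^ 2 = 2`
      have h4 : y ^ 2 = 2 := by linear_combination h
      have h5 : y ^ 4 = 4 := by
        calc y ^ 4 = (y ^ 2) ^ 2 := by ring
          _ = 4 := by rw [h4]; norm_num
      rw [h5, h4] at h1
      linear_combination h1

theorem ord_A {r f l : ℕ} (hf : 1 ≤ f) (hord : orderOf (r : ZMod l) = 18 * f) :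
    orderOf (((r ^ f) ^ 2 : ℕ) : ZMod l) = 9 := by
  push_cast
  rw [← pow_mul, orderOf_pow' _ (by omega), hord]
  have h1 : Nat.gcd (18 * f) (f * 2) = 2 * f := by
    rw [show 18 * f = 9 * (2 * f) by ring, mul_comm f 2]
    exact Nat.gcd_eq_right (Dvd.intro_left _ rfl)
  rw [h1, show 18 * f = 9 * (2 * f) by ring, Nat.mul_div_cancel _ (by omega)]

theorem not_nine_A {q : ℕ} (hq1 : 1 ≤ q) : ¬ 9 ∣ q ^ 6 - q ^ 3 + 1 := by
  intro h
  have h1 := (ZMod.natCast_eq_zero_iff (q ^ 6 - q ^ 3 + 1) 9).2 h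
  push_cast [Nat.cast_sub (le1 hq1)] at h1
  revert h1
  generalize (q : ZMod 9) = x
  revert x
  decide

theorem not_nine_B {q : ℕ} (hq1 : 1 ≤ q) : ¬ 9 ∣ (q ^ 4 - q ^ 2 + 1) * (q ^ 2 - q + 1) := by
  intro h
  have h1 := (ZMod.natCast_eq_zero_iff ((q ^ 4 - q ^ 2 + 1) * (q ^ 2 - q + 1)) 9).2 h
  push_cast [Nat.cast_sub (le2 hq1), Nat.cast_sub (le3 hq1)] at h1
  revert h1
  generalize (q : ZMod 9) = x
  revert x
  decide

/-! ### the first torus -/

section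

variable {k : Type u} [Field k] [IsAlgClosed k] {p e : ℕ} [hpF : Fact p.Prime] [CharP k p]
  {F : Type u} [Field F] [Fintype F] (f : F →+* k) {q : ℕ} (hq : IsPrimePow q) (hF : Fintype.card F = q ^ 2)

theorem mainA (hk : LocFin k) (he : 1 ≤ e) (hqe : q = p ^ e) {l : ℕ} (hl : l.Prime)
    (hord : orderOf (p : ZMod l) = 18 * e) (hlN : l ∣ q ^ 6 - q ^ 3 + 1) (hle : 18 * e < l) :
    ∃ (z t : ↥(chevE6.group k)) (u : k) (x0 : ↥(twistedE6 F q)),
      Tor6 f hq hF cE p e TwEA.B (q ^ 6 - q ^ 3 + 1) (Nat.gcd 3 (q + 1)) z t u x0 := by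
  have hq1 := hq.one_lt.le
  obtain ⟨d', z, t, u, x0, T1⟩ := torA f hq hF hk hqe
  have hl3 : l ≠ 3 := by omega
  obtain ⟨hW, hreg⟩ := regA hq1 hl hlN hl3
  have hd := exact T1 (by omega) (eq1 hq1) hl hl3 hlN hW hreg (c := 3) (m := 9) (by norm_num) (by omega)
    (mod1 hq1 hlN) (by rw [hqe]; exact ord_A he hord) (by norm_num)
  subst hd
  exact ⟨z, t, u, x0, T1⟩

end

section

variable {k : Type u} [Field k] [IsAlgClosed k] {p e : ℕ} [hpF : Fact p.Prime] [CharP k p]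
  {F : Type u} [Field F] [Fintype F] {f : F →+* k} {q : ℕ} {hq : IsPrimePow q} {hF : Fintype.card F = q ^ 2}
  {z t : ↥(chevE6.group k)} {u : k} {x0 : ↥(twistedE6 F q)}

/-- **The second element**, `q > 2`. -/
theorem mainB (hk : LocFin k) (hqe : q = p ^ e) (hq5 : 5 ≤ q) (hg : Nat.gcd 3 (q + 1) = 3) (hp3 : p ≠ 3)
    (T1 : Tor6 f hq hF cE p e TwEA.B (q ^ 6 - q ^ 3 + 1) (Nat.gcd 3 (q + 1)) z t u x0) :
    ∃ x2 : ↥(twistedE6 F q), ¬ 3 ∣ orderOf x2 ∧ NoNorm 3 x2 ∧ ∀ y' : ↥(twistedE6 F q), orderOf y' = orderOf x2 →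
      ∀ i : ℤ, (z * t ^ i * z⁻¹) * embT f hq hF y' = embT f hq hF y' * (z * t ^ i * z⁻¹) → t ^ i = 1 := by
  classical
  have hq1 := hq.one_lt.le
  obtain ⟨d2, z2, t2, u2, x02, T2⟩ := torB f hq hF hk hqe
  set P := q ^ 4 - q ^ 2 + 1 with hP
  set P6 := q ^ 2 - q + 1 with hP6
  have hP1 : 78 < P := by
    have h2 : 25 ≤ q ^ 2 := by nlinarith only [hq5]
    have h1 : q ^ 2 * 25 ≤ q ^ 2 * q ^ 2 := Nat.mul_le_mul_left _ h2
    have h3 : q ^ 2 * q ^ 2 = q ^ 4 := by ring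
    omega
  obtain ⟨l, hl, hlP⟩ := Nat.exists_prime_and_dvd (n := P) (by omega)
  obtain ⟨hl2, hl3, hl5⟩ := primeB hq1 hl hlP
  obtain ⟨hW, hreg⟩ := regB hq1 hl hlP
  have hl7 : l ≠ 7 := by
    rintro rfl
    have h8 := (ZMod.natCast_eq_zero_iff (q ^ 4 - q ^ 2 + 1) 7).2 hlP
    push_cast [Nat.cast_sub (le2 hq1)] at h8
    revert h8
    generalize (q : ZMod 7) = x
    revert x
    decide
  have hl13 : 13 ≤ l := by
    by_contra hcon
    -- `6 ∣ l - 1`
    have hlf : Fact l.Prime := ⟨hl⟩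
    have h1 := ord_B hq1 hl hlP
    have hne : ((q ^ 2 : ℕ) : ZMod l) ≠ 0 := by
      intro h0
      rw [h0, orderOf_zero] at h1
      norm_num at h1
    have h2 : orderOf ((q ^ 2 : ℕ) : ZMod l) ∣ l - 1 := ZMod.orderOf_dvd_card_sub_one hne
    rw [h1] at h2
    have := hl.two_le
    omega
  have hN0 : P * P6 ≠ 0 := Nat.mul_ne_zero (by omega) (by omega)
  have hd := exact T2 hN0 (eq2 hq1) hl hl3 (hlP.mul_right _) hW hreg (c := 4) (m := 6) (by norm_num) (by omega)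
    (mod2 hq1 hlP) (ord_B hq1 hl hlP) (by norm_num)
  rw [hg] at hd
  subst hd
  have hidx := index_eq T2 hN0 (eq2 hq1)
  rw [hg] at hidx
  have hidx' : (Subgroup.zpowers x02).index = M2 q := Nat.eq_of_mul_eq_mul_left (by norm_num) hidx
  -- `3 ∣ P6`
  have h36 : 3 ∣ P6 := by
    rcases (Nat.Prime.dvd_mul Nat.prime_three).1 T2.hdN with h | h
    · exact absurd rfl ((primeB hq1 Nat.prime_three h).2.1)
    · exact h
  obtain ⟨m6, hm6⟩ := h36
  have hm60 : m6 ≠ 0 := by rintro rfl; omega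
  have hordx : orderOf x02 = m6 * P := by
    rw [T2.hord, hm6, show P * (3 * m6) = 3 * (m6 * P) by ring, Nat.mul_div_cancel_left _ (by norm_num)]
  -- the element
  set x2 := x02 ^ m6 with hx2
  have hx2o : orderOf x2 = P := by
    rw [hx2, orderOf_pow_of_dvd hm60 (by rw [hordx]; exact Dvd.intro _ rfl), hordx,
      Nat.mul_div_cancel_left _ (Nat.pos_of_ne_zero hm60)]
  have hx2m : x2 ∈ Subgroup.zpowers x02 := Subgroup.npow_mem_zpowers x02 m6
  have hp3' : (3 : F) ≠ 0 := by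
    intro h
    have hcF : CharP F p := RingHom.charP f f.injective p
    have h1 : ((3 : ℕ) : F) = 0 := by exact_mod_cast h
    rw [CharP.cast_eq_zero_iff F p] at h1
    exact hp3 ((Nat.prime_dvd_prime_iff_eq hpF.1 Nat.prime_three).1 h1)
  refine ⟨x2, ?_, ?_, ?_⟩
  · rw [hx2o]
    intro h
    exact absurd rfl ((primeB hq1 Nat.prime_three h).2.1)
  · refine Frob.noNorm_of_frob (ι := chevE6.Idx) (k := F) (twistedE6 F q).subtype (Subgroup.subtype_injective _)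
      Nat.prime_three (by exact_mod_cast hp3') ?_ ?_
    · rw [hx2o]
      have : Fintype.card chevE6.Idx = 78 := by decide
      omega
    · intro s hs hs1 y hy hys
      -- a prime divisor of the order of `s`
      have hso : orderOf s ∣ P := by
        rw [← hx2o]
        exact orderOf_dvd_of_mem_zpowers hs
      have hs0 : orderOf s ≠ 1 := by rwa [Ne, orderOf_eq_one_iff]
      obtain ⟨r, hr, hrs⟩ := Nat.exists_prime_and_dvd hs0
      obtain ⟨hW', hreg'⟩ := regB hq1 hr (hrs.trans hso)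
      have hsm : s ∈ Subgroup.zpowers x02 := (Subgroup.zpowers_le.2 hx2m) hs
      have hT := (T2.hcent s hsm r hr hrs hW' hreg').1
      have hyT : y ∈ Subgroup.zpowers x02 := by
        rw [← hT, Subgroup.mem_centralizer_singleton_iff]
        exact hys
      have h3 : 3 ∣ m6 * P := by
        rw [← hordx, ← hy]
        exact orderOf_dvd_of_mem_zpowers hyT
      apply not_nine_B hq1
      rw [← hP, ← hP6, hm6]
      obtain ⟨a, ha⟩ := h3
      exact ⟨a, by rw [show P * (3 * m6) = 3 * (m6 * P) by ring, ha]; ring⟩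
  · intro y' hy' i hcomm
    refine eq_one_of_comm hqe T1 T2 hl hW hreg ?_ (gcd_AB hq1) ?_ hx2m (by rw [hx2o]; exact hlP) hy' hcomm
    · rw [hidx']
      intro h
      have h1 := mod2 hq1 hlP
      have h2 : l ∣ 12 := (Nat.modEq_zero_iff_dvd).1 (h1.symm.trans (Nat.modEq_zero_iff_dvd.2 h))
      have := Nat.le_of_dvd (by norm_num) h2
      omega
    · have h3 := gcd_three hg
      rw [count h3 TwEA.card_three, count h3 TwEB.card_three]
      norm_num

/-- **The second element**, `q = 2`. -/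
theorem mainC (hk : LocFin k) (hqe : q = p ^ e) (hq2 : q = 2)
    (T1 : Tor6 f hq hF cE p e TwEA.B (q ^ 6 - q ^ 3 + 1) (Nat.gcd 3 (q + 1)) z t u x0) :
    ∃ x2 : ↥(twistedE6 F q), ¬ 3 ∣ orderOf x2 ∧ NoNorm 3 x2 ∧ ∀ y' : ↥(twistedE6 F q), orderOf y' = orderOf x2 →
      ∀ i : ℤ, (z * t ^ i * z⁻¹) * embT f hq hF y' = embT f hq hF y' * (z * t ^ i * z⁻¹) → t ^ i = 1 := by
  classical
  subst hq2
  obtain ⟨d2, z2, t2, u2, x02, T2⟩ := torC f hq hF hk hqe rfl
  obtain ⟨hW, hreg⟩ := regC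
  have h17 : Nat.Prime 17 := by norm_num
  have hM : 2 ^ 36 * (2 ^ 2 - 1) * (2 ^ 5 + 1) * (2 ^ 6 - 1) * (2 ^ 8 - 1) * (2 ^ 9 + 1) * (2 ^ 12 - 1) =
      51 * (2 ^ 36 * 3 * 33 * 63 * 5 * 513 * 4095) := by norm_num
  have hd := exact T2 (by norm_num) hM h17 (by norm_num) (by norm_num) hW hreg (c := 14) (m := 4) (by norm_num)
    (by norm_num) (by decide) (by
      have h4 : (((2 : ℕ) ^ 2 : ℕ) : ZMod 17) = 4 := by decide
      rw [h4]
      apply orderOf_eq_of_pow_and_pow_div_prime (by norm_num) (by decide)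
      intro p hp hpd
      have : p = 2 := by
        have h5 : p ∣ 2 ^ 2 := hpd
        exact (Nat.prime_dvd_prime_iff_eq hp Nat.prime_two).1 (hp.dvd_of_dvd_pow h5)
      subst this
      decide) (by norm_num)
  have hd' : d2 = 3 := by rw [hd]; rfl
  subst hd'
  have hidx := index_eq T2 (by norm_num) hM
  have hidx' : (Subgroup.zpowers x02).index = 2 ^ 36 * 3 * 33 * 63 * 5 * 513 * 4095 :=
    Nat.eq_of_mul_eq_mul_left (by norm_num) hidx
  have hord : orderOf x02 = 17 := by rw [T2.hord]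
  have hT := (T2.hcent x02 (Subgroup.mem_zpowers _) 17 h17 (by rw [hord]) hW hreg).1
  refine ⟨x02, by rw [hord]; norm_num, ?_, ?_⟩
  · intro Q hQ hn
    by_contra hQ1
    have h3f : Fact (Nat.Prime 3) := ⟨Nat.prime_three⟩
    have hC : ∀ v ∈ Q, v * x02 = x02 * v → v = 1 := by
      intro v hv hvx
      by_contra hv1
      obtain ⟨m, hm⟩ := hQ ⟨v, hv⟩
      have hm' : v ^ 3 ^ m = 1 := congrArg Subtype.val hm
      obtain ⟨j, -, hj⟩ := (Nat.dvd_prime_pow Nat.prime_three).1 (orderOf_dvd_of_pow_eq_one hm')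
      have hvT : v ∈ Subgroup.zpowers x02 := by
        rw [← hT, Subgroup.mem_centralizer_singleton_iff]
        exact hvx
      have h1 : orderOf v ∣ 17 := by rw [← hord]; exact orderOf_dvd_of_mem_zpowers hvT
      have hj0 : j ≠ 0 := by
        rintro rfl
        rw [pow_zero, orderOf_eq_one_iff] at hj
        exact hv1 hj
      rw [hj] at h1
      have h2 : 3 ∣ 17 := (dvd_pow_self 3 hj0).trans h1
      norm_num at h2
    have h1 := OwnChar.card_modEq_one h17 hord hn hC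
    obtain ⟨n, hn'⟩ := IsPGroup.iff_card.1 hQ
    rw [hn'] at h1
    have h2 : 16 ∣ n := by
      have h3 : ((3 : ℕ) : ZMod 17) ^ n = 1 := by
        have h4 := (ZMod.natCast_eq_natCast_iff (3 ^ n) 1 17).2 h1
        push_cast at h4 ⊢
        exact h4
      have h5 : orderOf ((3 : ℕ) : ZMod 17) = 16 := by
        apply orderOf_eq_of_pow_and_pow_div_prime (by norm_num) (by decide)
        intro p hp hpd
        have : p = 2 := by
          have h5 : p ∣ 2 ^ 4 := hpd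
          exact (Nat.prime_dvd_prime_iff_eq hp Nat.prime_two).1 (hp.dvd_of_dvd_pow h5)
        subst this
        decide
      rw [← h5]
      exact orderOf_dvd_of_pow_eq_one h3
    have hn0 : n ≠ 0 := by
      rintro rfl
      rw [pow_zero] at hn'
      exact hQ1 (Subgroup.card_eq_one.1 hn')
    have h3 : 3 ^ 16 ∣ Nat.card ↥(twistedE6 F 2) := by
      obtain ⟨a, rfl⟩ := h2
      have ha : 1 ≤ a := by
        rcases Nat.eq_zero_or_pos a with rfl | h
        · simp at hn0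
        · exact h
      refine dvd_trans (pow_dvd_pow 3 (by omega : 16 ≤ 16 * a)) ?_
      rw [← hn']
      exact Subgroup.card_subgroup_dvd_card Q
    have h4 := S1066.result hq hF
    have h5 : 3 ^ 16 ∣ 2 ^ 36 * (2 ^ 2 - 1) * (2 ^ 5 + 1) * (2 ^ 6 - 1) * (2 ^ 8 - 1) * (2 ^ 9 + 1) * (2 ^ 12 - 1) := by
      rw [← h4]
      exact h3.mul_left _
    revert h5
    norm_num
  · intro y' hy' i hcomm
    refine eq_one_of_comm hqe T1 T2 h17 hW hreg ?_ (by norm_num) ?_ (Subgroup.mem_zpowers _) (by rw [hord]) hy' hcomm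
    · rw [hidx']
      norm_num
    · have h3 : (3 : ℤ) ∣ ((2 : ℕ) : ℤ) + 1 := by norm_num
      rw [count h3 TwEA.card_three, count h3 TwEC.card_three]
      norm_num

end

end Cfsg.Agent.H83.RowE6C
end

-- part: H719/RowCases
section
prune_inst 0x10006144010000000000000242001e62d6000190002b0001406001440c80cd020002af2088800100000222840034000811100040020000000a000000011801a0902902029118ac00d60001000084000000000000000000000000000000000000000000000
set_option linter.all false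
open scoped Cfsg.Agent.FastGrp

-- part: H719/RowGen
section
/-!
# The rows of the exceptional Chevalley groups: general assembly (helper719)
-/

set_option autoImplicit false
set_option linter.unusedSectionVars false

namespace Cfsg.Agent.H719

open Subgroup CoxeterSystem Cfsg Cfsg.Lie Cfsg.Lie.ChevalleyDatum
open Cfsg.Agent.ChevalleyStructure Cfsg.Agent.ChevalleyStructure.Elts Cfsg.Agent.ChevalleyStructure.CoxeterGeom
  Cfsg.Agent.ChevalleyStructure.CoxeterGeomTypes Cfsg.Agent.ChevalleyStructure.NPerm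
open Cfsg.Agent.Tits.Roots Cfsg.Agent.Tits.Core Cfsg.Agent.Nodes Cfsg.Agent.Nodes.Reps Cfsg.Agent.Nodes.BNOf
  Cfsg.Agent.Nodes.RGDChev
open Cfsg.Agent.KFacts.RgdChevCoord Cfsg.Agent.GpExc.Field Cfsg.Agent.BpExc.Fr Cfsg.Agent.BpExc.LangFr
  Cfsg.Agent.BpExc.TowChev Cfsg.Agent.BpExc
open Cfsg.Agent.H129.TorusChar Cfsg.Agent.H129.TorusMain Cfsg.Agent.H129.TorusUntw
open Cfsg.Agent.H70.ChevFix Cfsg.Agent.H70.ChevField Cfsg.Agent.H70.OutCount
open Cfsg.Agent.H719.AutForm Cfsg.Agent.H568 Cfsg.Agent.H568.FldExc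

universe u

section Gen

variable {D : ChevalleyDatum} {l : ℕ} {M : CoxeterMatrix (Fin l)} (hp : IsType D l M) {k : Type u} [Field k]
  {W : Type*} [Group W] (cs : CoxeterSystem M W) {r e : ℕ} [Fact r.Prime] [CharP k r]
  {F : Type u} [Field F] [Fintype F] (f : F →+* k)

include hp cs in
/-- **Linear automorphisms of order `p` prime to `d'` are inner.** -/
theorem inner_of_lin [IsAlgClosed k] (hq : Fintype.card F = r ^ e) {d' : ℕ}
    {B' : Fin l → Fin l → ℤ} (hB : InvC D l d' B') (hd' : d' ≠ 0) {a : MulAut ↥(D.group F)} {p : ℕ} (ha : a ^ p = 1)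
    (hc : p.Coprime d' ∨ ∀ a : F, ∃ b : F, b ^ d' = a)
    {Mt : ↥(D.group k)} (hMt : phi D k r e Mt = Mt)
    (hform : ∀ y : ↥(D.group F), emb hp.inList f (a y) = Mt * emb hp.inList f y * Mt⁻¹) :
    ∃ s : ↥(D.group F), a = MulAut.conj s := by
  rcases hc with hc | hc
  · have hpw : ∀ (m : ℕ) (y : ↥(D.group F)), emb hp.inList f ((a ^ m) y) = Mt ^ m * emb hp.inList f y * (Mt ^ m)⁻¹ := by
      intro m
      induction m with
      | zero => intro y; simp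
      | succ m ih =>
        intro y
        rw [pow_succ, MulAut.mul_apply, ih, hform, pow_succ]
        group
    obtain ⟨s, hs⟩ := Cfsg.Agent.H129.UntwTwo.fix_pow_range hp cs f hq hB hd' hMt
    have h1 : a ^ d' = MulAut.conj s := by
      ext y
      have h2 := hpw d' y
      rw [← hs, ← map_inv, ← map_mul, ← map_mul] at h2
      have h3 := emb_injective hp.inList f h2
      rw [h3, MulAut.conj_apply]
    have h4 : IsOfFinOrder a := by
      have : Finite (MulAut ↥(D.group F)) := by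
        have : Finite ↥(D.group F) := by
          have : Finite (Matrix.GeneralLinearGroup D.Idx F) := inferInstance
          infer_instance
        exact Finite.of_injective (fun g : MulAut ↥(D.group F) => (g : ↥(D.group F) → ↥(D.group F)))
          (fun g h hgh => MulEquiv.ext (congrFun hgh))
      exact isOfFinOrder_of_finite a
    have h5 : (orderOf a).Coprime d' := Nat.Coprime.coprime_dvd_left (orderOf_dvd_of_pow_eq_one ha) hc
    obtain ⟨m, hm⟩ := exists_pow_eq_self_of_coprime h5.symm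
    refine ⟨s ^ m, ?_⟩
    rw [map_pow, ← h1, hm]
  · obtain ⟨s, hs⟩ := fix_range hp cs f hq hB hd' hc hMt
    refine ⟨s, ?_⟩
    ext y
    have h2 := hform y
    rw [← hs, ← map_inv, ← map_mul, ← map_mul] at h2
    rw [emb_injective hp.inList f h2, MulAut.conj_apply]

end Gen

/-- a prime `n` such that the elements of order `n` are not fixed by a field automorphism -/
def PrimL (r e d' : ℕ) (degs : List ℕ) (n : ℕ) : Prop :=
  n.Prime ∧ n ≠ r ∧ n.Coprime d' ∧ ∃ h, (∀ m, n ∣ r ^ m - 1 → e * h ∣ m) ∧ ∀ m ∈ degs, 0 < m ∧ m < 3 * h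

section Main

variable {D : ChevalleyDatum} {l : ℕ} {M : CoxeterMatrix (Fin l)} (hp : IsType D l M) {F : Type u} [Field F] [Fintype F]
  {r e : ℕ} [Fact r.Prime] [CharP F r]

include hp in
/-- **The dichotomy for an automorphism of odd prime order.** -/
theorem dich (hq : Fintype.card F = r ^ e) (he : 0 < e) {d' : ℕ}
    {B' : Fin l → Fin l → ℤ} (hB : InvC D l d' B') (hd' : d' ≠ 0) (hR : ∀ π ∈ realised hp.inList F, π * π = 1)
    {degs : List ℕ} (hO : OrdF.{u} D degs) {p : ℕ} (hpp : p.Prime) (hp2 : p ≠ 2)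
    (hc : p.Coprime d' ∨ ∀ a : F, ∃ b : F, b ^ d' = a) {a : MulAut ↥(D.group F)} (ha : a ^ p = 1) :
    (∃ s : ↥(D.group F), a = MulAut.conj s) ∨
      (p ∣ e ∧ ∀ y : ↥(D.group F), PrimL r e d' degs (orderOf y) → a y ≠ y) := by
  have hk : CharP (AlgebraicClosure F) r := charP_of_injective_algebraMap (algebraMap F _).injective r
  by_cases hin : ∃ s : ↥(D.group F), a = MulAut.conj s
  · exact Or.inl hin
  · right
    refine ⟨?_, ?_⟩
    · rcases lin_or_fld (k := AlgebraicClosure F) hp (algebraMap F (AlgebraicClosure F)) hq he hB hd' hR hpp hp2 ha with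
        ⟨Mt, hMt, hform⟩ | ⟨h1, -⟩
      · exact absurd (inner_of_lin hp M.toCoxeterSystem _ hq hB hd' ha hc hMt hform) hin
      · exact h1
    · rintro y ⟨hn, hnr, hnd, h, hord, hh⟩ hay
      obtain ⟨Mt, hMt, hform⟩ := lin_of_fix (k := AlgebraicClosure F) hp (algebraMap F (AlgebraicClosure F)) hq he hB
        hd' hR hO hpp hp2 ha hn hnr hnd rfl hay hord hh
      exact hin (inner_of_lin hp M.toCoxeterSystem _ hq hB hd' ha hc hMt hform)

include hp in
/-- **Assembly of the row.** -/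
theorem row_gen [IsSimpleGroup ↥(D.group F)] (hna : ¬ IsMulCommutative ↥(D.group F))
    (hq : Fintype.card F = r ^ e) (he : 0 < e) {d' : ℕ}
    {B' : Fin l → Fin l → ℤ} (hB : InvC D l d' B') (hd' : d' ≠ 0) (hR : ∀ π ∈ realised hp.inList F, π * π = 1)
    {degs : List ℕ} (hO : OrdF.{u} D degs) {p : ℕ} [hpf : Fact p.Prime] (hp2 : p ≠ 2)
    (hc : p.Coprime d' ∨ ∀ a : F, ∃ b : F, b ^ d' = a)
    (h1 : ¬ p ∣ e → p ∣ Nat.card ↥(D.group F) → (∃ P : Sylow p ↥(D.group F), IsCyclic ↥(P : Subgroup ↥(D.group F))) ∨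
      ∃ x : ↥(D.group F), NoNorm p x)
    (h2 : p ∣ e → ∃ x : ↥(D.group F), NoNorm p x ∧ ∃ y ∈ zpowers x, PrimL r e d' degs (orderOf y)) :
    Row p ↥(D.group F) := by
  have hfin : Finite ↥(D.group F) := by
    have : Finite (Matrix.GeneralLinearGroup D.Idx F) := inferInstance
    infer_instance
  refine row_of hna fun a ha => ?_
  have ha1 : a ^ p = 1 := by rw [← ha, pow_orderOf_eq_one]
  by_cases hpe : p ∣ e
  · obtain ⟨x, hx, y, hy, hyl⟩ := h2 hpe
    by_cases hin : ∃ s : ↥(D.group F), a = MulAut.conj s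
    · exact Or.inr (Or.inl ⟨hin, x, hx⟩)
    · refine Or.inr (Or.inr ⟨x, hx.not_dvd, hx.pcent, fun g hg => ?_⟩)
      have hg1 : (g * a * g⁻¹) ^ p = 1 := by rw [conj_pow, ha1, mul_one, mul_inv_cancel]
      rcases dich hp hq he hB hd' hR hO hpf.1 hp2 hc hg1 with ⟨s, hs⟩ | ⟨-, h3⟩
      · apply hin
        refine ⟨g⁻¹ s, ?_⟩
        have h4 : a = g⁻¹ * (g * a * g⁻¹) * g := by group
        rw [h4, hs]
        ext z
        simp only [MulAut.mul_apply, MulAut.conj_apply, _root_.MulAut.inv_apply, _root_.map_mul, _root_.MulEquiv.symm_apply_apply, _root_.map_inv, _root_.Subgroup.coe_mul, _root_.InvMemClass.coe_inv, _root_.Units.val_mul, _root_.Matrix.coe_units_inv]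
      · refine h3 y hyl ?_
        obtain ⟨i, rfl⟩ := hy
        show (g * a * g⁻¹) (x ^ i) = x ^ i
        rw [map_zpow, hg]
  · rcases dich hp hq he hB hd' hR hO hpf.1 hp2 hc ha1 with ⟨s, hs⟩ | ⟨h3, -⟩
    · have hdvd : p ∣ Nat.card ↥(D.group F) := by
        have h3 : orderOf s = p := by
          rw [← ha, hs]
          refine (orderOf_injective (MulAut.conj : ↥(D.group F) →* MulAut ↥(D.group F)) ?_ s).symm
          rw [← MonoidHom.ker_eq_bot_iff, ← center_eq_bot hna]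
          ext x
          rw [MonoidHom.mem_ker, mem_center_iff]
          constructor
          · intro h y
            have h1 : MulAut.conj x y = y := by rw [h]; rfl
            rw [MulAut.conj_apply, mul_inv_eq_iff_eq_mul] at h1
            exact h1.symm
          · intro h
            ext y
            rw [MulAut.conj_apply, ← h y, mul_inv_cancel_right]
            rfl
        rw [← h3]
        exact _root_.orderOf_dvd_natCard s
      rcases h1 hpe hdvd with h4 | h4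
      · exact Or.inl ⟨⟨s, hs⟩, h4⟩
      · exact Or.inr (Or.inl ⟨⟨s, hs⟩, h4⟩)
    · exact absurd h3 hpe

/-- `NoNorm` from a torus, `p` not the characteristic. -/
theorem noNorm_of_hasT {D : ChevalleyDatum} {F : Type u} [Field F] [Fintype F] {N N0 : ℕ} (h : HasT ↥(D.group F) N N0)
    {p : ℕ} (hpp : p.Prime) (hpF : (p : F) ≠ 0) (hpN : ¬ p ∣ N) (hN0 : D.rank + D.nroots < N0) :
    ∃ x : ↥(D.group F), NoNorm p x ∧ orderOf x = N0 := by
  classical
  have hfin : Finite ↥(D.group F) := by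
    have : Finite (Matrix.GeneralLinearGroup D.Idx F) := inferInstance
    infer_instance
  obtain ⟨x, hx, hc⟩ := h
  refine ⟨x, Cfsg.Agent.H83.Frob.noNorm_of_frob (ι := D.Idx) (k := F) (D.group F).subtype
    (Subgroup.subtype_injective _) hpp hpF ?_ ?_, hx⟩
  · rw [hx]
    exact lt_of_le_of_lt (le_of_eq (by simp only [_root_.Fintype.card_sum, _root_.Fintype.card_fin, _root_.Nat.add_left_cancel_iff])) hN0
  · intro s hs hs1 y hy
    exact not_comm_of_not_dvd hpN ((hc s hs hs1).2 y) hy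

end Main

end Cfsg.Agent.H719
end

-- part: H719/Num
section
/-!
# Orders modulo primes dividing values of cyclotomic polynomials (helper719)

`ord_h` : a root of `Φ_h` in `ZMod l` has order `h` (`l ∤ h`); `phi_of_ord_h` : the converse.  Generated by a script.
-/

set_option autoImplicit false

namespace Cfsg.Agent.H719.Num

theorem ord_3 {l : ℕ} [Fact l.Prime] {x : ZMod l} (hx : 1 + x + x ^ 2 = 0) (hl : ¬ l ∣ 3) : orderOf x = 3 := by
  refine orderOf_eq_of_pow_and_pow_div_prime (by norm_num) ?_ ?_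
  · have h1 : x ^ 3 - 1 = (1 + x + x ^ 2) * (-1 + x) := by ring
    rw [hx, zero_mul] at h1
    exact sub_eq_zero.1 h1
  · intro p hp hph h2
    have hp1 : p ∈ Nat.primeFactors 3 := by rw [Nat.mem_primeFactors]; exact ⟨hp, hph, by norm_num⟩
    have hp2 : p ≤ 3 := Nat.le_of_dvd (by norm_num) hph
    have hp3 : p = 3 := by
      clear h2 hp1
      interval_cases p <;> first | omega | (exfalso; revert hp; norm_num)
    apply hl
    rcases hp3 with rfl
    · have h3 : ((3 : ℕ) : ZMod l) = 0 := by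
        have h4 : (1) * (1 + x + x ^ 2) + (-2 - x) * (x ^ 1 - 1) = 3 := by ring
        have h5 : x ^ 1 - 1 = 0 := by rw [sub_eq_zero]; exact h2
        rw [hx, h5, mul_zero, mul_zero, add_zero] at h4
        exact_mod_cast h4.symm
      rw [ZMod.natCast_eq_zero_iff] at h3
      exact h3.trans (by norm_num)

theorem phi_of_ord_3 {l : ℕ} [Fact l.Prime] {x : ZMod l} (hx : orderOf x = 3) : 1 + x + x ^ 2 = 0 := by
  have h1 : x ^ 3 - 1 = 0 := by rw [sub_eq_zero, ← hx]; exact pow_orderOf_eq_one x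
  have h2 : (1 + x + x ^ 2) * (x ^ 1 - 1) = (x ^ 3 - 1) * (1) := by ring
  rw [h1, zero_mul] at h2
  have h3 : ∀ k : ℕ, 0 < k → k < 3 → x ^ k - 1 ≠ 0 := by
    intro k hk hk2 h4
    have h5 : x ^ k = 1 := sub_eq_zero.1 h4
    have h6 := orderOf_le_of_pow_eq_one hk h5
    omega
  replace h2 := (mul_eq_zero.1 h2).resolve_right (h3 1 (by norm_num) (by norm_num))
  exact h2

theorem phi_of_ord_6 {l : ℕ} [Fact l.Prime] {x : ZMod l} (hx : orderOf x = 6) : 1 - x + x ^ 2 = 0 := by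
  have h1 : x ^ 6 - 1 = 0 := by rw [sub_eq_zero, ← hx]; exact pow_orderOf_eq_one x
  have h2 : (1 - x + x ^ 2) * (x ^ 3 - 1) * (x ^ 2 - 1) = (x ^ 6 - 1) * (-1 + x) := by ring
  rw [h1, zero_mul] at h2
  have h3 : ∀ k : ℕ, 0 < k → k < 6 → x ^ k - 1 ≠ 0 := by
    intro k hk hk2 h4
    have h5 : x ^ k = 1 := sub_eq_zero.1 h4
    have h6 := orderOf_le_of_pow_eq_one hk h5
    omega
  replace h2 := (mul_eq_zero.1 h2).resolve_right (h3 2 (by norm_num) (by norm_num))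
  replace h2 := (mul_eq_zero.1 h2).resolve_right (h3 3 (by norm_num) (by norm_num))
  exact h2

theorem phi_of_ord_7 {l : ℕ} [Fact l.Prime] {x : ZMod l} (hx : orderOf x = 7) : 1 + x + x ^ 2 + x ^ 3 + x ^ 4 + x ^ 5 + x ^ 6 = 0 := by
  have h1 : x ^ 7 - 1 = 0 := by rw [sub_eq_zero, ← hx]; exact pow_orderOf_eq_one x
  have h2 : (1 + x + x ^ 2 + x ^ 3 + x ^ 4 + x ^ 5 + x ^ 6) * (x ^ 1 - 1) = (x ^ 7 - 1) * (1) := by ring
  rw [h1, zero_mul] at h2
  have h3 : ∀ k : ℕ, 0 < k → k < 7 → x ^ k - 1 ≠ 0 := by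
    intro k hk hk2 h4
    have h5 : x ^ k = 1 := sub_eq_zero.1 h4
    have h6 := orderOf_le_of_pow_eq_one hk h5
    omega
  replace h2 := (mul_eq_zero.1 h2).resolve_right (h3 1 (by norm_num) (by norm_num))
  exact h2

theorem phi_of_ord_8 {l : ℕ} [Fact l.Prime] {x : ZMod l} (hx : orderOf x = 8) : 1 + x ^ 4 = 0 := by
  have h1 : x ^ 8 - 1 = 0 := by rw [sub_eq_zero, ← hx]; exact pow_orderOf_eq_one x
  have h2 : (1 + x ^ 4) * (x ^ 4 - 1) = (x ^ 8 - 1) * (1) := by ring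
  rw [h1, zero_mul] at h2
  have h3 : ∀ k : ℕ, 0 < k → k < 8 → x ^ k - 1 ≠ 0 := by
    intro k hk hk2 h4
    have h5 : x ^ k = 1 := sub_eq_zero.1 h4
    have h6 := orderOf_le_of_pow_eq_one hk h5
    omega
  replace h2 := (mul_eq_zero.1 h2).resolve_right (h3 4 (by norm_num) (by norm_num))
  exact h2

theorem ord_9 {l : ℕ} [Fact l.Prime] {x : ZMod l} (hx : 1 + x ^ 3 + x ^ 6 = 0) (hl : ¬ l ∣ 9) : orderOf x = 9 := by
  refine orderOf_eq_of_pow_and_pow_div_prime (by norm_num) ?_ ?_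
  · have h1 : x ^ 9 - 1 = (1 + x ^ 3 + x ^ 6) * (-1 + x ^ 3) := by ring
    rw [hx, zero_mul] at h1
    exact sub_eq_zero.1 h1
  · intro p hp hph h2
    have hp1 : p ∈ Nat.primeFactors 9 := by rw [Nat.mem_primeFactors]; exact ⟨hp, hph, by norm_num⟩
    have hp2 : p ≤ 9 := Nat.le_of_dvd (by norm_num) hph
    have hp3 : p = 3 := by
      clear h2 hp1
      interval_cases p <;> first | omega | (exfalso; revert hp; norm_num)
    apply hl
    rcases hp3 with rfl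
    · have h3 : ((3 : ℕ) : ZMod l) = 0 := by
        have h4 : (1) * (1 + x ^ 3 + x ^ 6) + (-2 - x ^ 3) * (x ^ 3 - 1) = 3 := by ring
        have h5 : x ^ 3 - 1 = 0 := by rw [sub_eq_zero]; exact h2
        rw [hx, h5, mul_zero, mul_zero, add_zero] at h4
        exact_mod_cast h4.symm
      rw [ZMod.natCast_eq_zero_iff] at h3
      exact h3.trans (by norm_num)

theorem phi_of_ord_9 {l : ℕ} [Fact l.Prime] {x : ZMod l} (hx : orderOf x = 9) : 1 + x ^ 3 + x ^ 6 = 0 := by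
  have h1 : x ^ 9 - 1 = 0 := by rw [sub_eq_zero, ← hx]; exact pow_orderOf_eq_one x
  have h2 : (1 + x ^ 3 + x ^ 6) * (x ^ 3 - 1) = (x ^ 9 - 1) * (1) := by ring
  rw [h1, zero_mul] at h2
  have h3 : ∀ k : ℕ, 0 < k → k < 9 → x ^ k - 1 ≠ 0 := by
    intro k hk hk2 h4
    have h5 : x ^ k = 1 := sub_eq_zero.1 h4
    have h6 := orderOf_le_of_pow_eq_one hk h5
    omega
  replace h2 := (mul_eq_zero.1 h2).resolve_right (h3 3 (by norm_num) (by norm_num))
  exact h2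

theorem ord_12 {l : ℕ} [Fact l.Prime] {x : ZMod l} (hx : 1 - x ^ 2 + x ^ 4 = 0) (hl : ¬ l ∣ 12) : orderOf x = 12 := by
  refine orderOf_eq_of_pow_and_pow_div_prime (by norm_num) ?_ ?_
  · have h1 : x ^ 12 - 1 = (1 - x ^ 2 + x ^ 4) * (-1 - x ^ 2 + x ^ 6 + x ^ 8) := by ring
    rw [hx, zero_mul] at h1
    exact sub_eq_zero.1 h1
  · intro p hp hph h2
    have hp1 : p ∈ Nat.primeFactors 12 := by rw [Nat.mem_primeFactors]; exact ⟨hp, hph, by norm_num⟩
    have hp2 : p ≤ 12 := Nat.le_of_dvd (by norm_num) hph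
    have hp3 : p = 2 ∨ p = 3 := by
      clear h2 hp1
      interval_cases p <;> first | omega | (exfalso; revert hp; norm_num)
    apply hl
    rcases hp3 with rfl | rfl
    · have h3 : ((2 : ℕ) : ZMod l) = 0 := by
        have h4 : (1 + x ^ 2) * (1 - x ^ 2 + x ^ 4) + (-1) * (x ^ 6 - 1) = 2 := by ring
        have h5 : x ^ 6 - 1 = 0 := by rw [sub_eq_zero]; exact h2
        rw [hx, h5, mul_zero, mul_zero, add_zero] at h4
        exact_mod_cast h4.symm
      rw [ZMod.natCast_eq_zero_iff] at h3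
      exact h3.trans (by norm_num)
    · have h3 : ((3 : ℕ) : ZMod l) = 0 := by
        have h4 : (2 + x ^ 2) * (1 - x ^ 2 + x ^ 4) + (-1 - x ^ 2) * (x ^ 4 - 1) = 3 := by ring
        have h5 : x ^ 4 - 1 = 0 := by rw [sub_eq_zero]; exact h2
        rw [hx, h5, mul_zero, mul_zero, add_zero] at h4
        exact_mod_cast h4.symm
      rw [ZMod.natCast_eq_zero_iff] at h3
      exact h3.trans (by norm_num)

theorem phi_of_ord_12 {l : ℕ} [Fact l.Prime] {x : ZMod l} (hx : orderOf x = 12) : 1 - x ^ 2 + x ^ 4 = 0 := by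
  have h1 : x ^ 12 - 1 = 0 := by rw [sub_eq_zero, ← hx]; exact pow_orderOf_eq_one x
  have h2 : (1 - x ^ 2 + x ^ 4) * (x ^ 6 - 1) * (x ^ 4 - 1) = (x ^ 12 - 1) * (-1 + x ^ 2) := by ring
  rw [h1, zero_mul] at h2
  have h3 : ∀ k : ℕ, 0 < k → k < 12 → x ^ k - 1 ≠ 0 := by
    intro k hk hk2 h4
    have h5 : x ^ k = 1 := sub_eq_zero.1 h4
    have h6 := orderOf_le_of_pow_eq_one hk h5
    omega
  replace h2 := (mul_eq_zero.1 h2).resolve_right (h3 4 (by norm_num) (by norm_num))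
  replace h2 := (mul_eq_zero.1 h2).resolve_right (h3 6 (by norm_num) (by norm_num))
  exact h2

theorem ord_14 {l : ℕ} [Fact l.Prime] {x : ZMod l} (hx : 1 - x + x ^ 2 - x ^ 3 + x ^ 4 - x ^ 5 + x ^ 6 = 0) (hl : ¬ l ∣ 14) : orderOf x = 14 := by
  refine orderOf_eq_of_pow_and_pow_div_prime (by norm_num) ?_ ?_
  · have h1 : x ^ 14 - 1 = (1 - x + x ^ 2 - x ^ 3 + x ^ 4 - x ^ 5 + x ^ 6) * (-1 - x + x ^ 7 + x ^ 8) := by ring
    rw [hx, zero_mul] at h1
    exact sub_eq_zero.1 h1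
  · intro p hp hph h2
    have hp1 : p ∈ Nat.primeFactors 14 := by rw [Nat.mem_primeFactors]; exact ⟨hp, hph, by norm_num⟩
    have hp2 : p ≤ 14 := Nat.le_of_dvd (by norm_num) hph
    have hp3 : p = 2 ∨ p = 7 := by
      clear h2 hp1
      interval_cases p <;> first | omega | (exfalso; revert hp; norm_num)
    apply hl
    rcases hp3 with rfl | rfl
    · have h3 : ((2 : ℕ) : ZMod l) = 0 := by
        have h4 : (1 + x) * (1 - x + x ^ 2 - x ^ 3 + x ^ 4 - x ^ 5 + x ^ 6) + (-1) * (x ^ 7 - 1) = 2 := by ring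
        have h5 : x ^ 7 - 1 = 0 := by rw [sub_eq_zero]; exact h2
        rw [hx, h5, mul_zero, mul_zero, add_zero] at h4
        exact_mod_cast h4.symm
      rw [ZMod.natCast_eq_zero_iff] at h3
      exact h3.trans (by norm_num)
    · have h3 : ((7 : ℕ) : ZMod l) = 0 := by
        have h4 : (4 + 3 * x) * (1 - x + x ^ 2 - x ^ 3 + x ^ 4 - x ^ 5 + x ^ 6) + (-3 - x - 2 * x ^ 2 - 2 * x ^ 3 - x ^ 4 - 3 * x ^ 5) * (x ^ 2 - 1) = 7 := by ring
        have h5 : x ^ 2 - 1 = 0 := by rw [sub_eq_zero]; exact h2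
        rw [hx, h5, mul_zero, mul_zero, add_zero] at h4
        exact_mod_cast h4.symm
      rw [ZMod.natCast_eq_zero_iff] at h3
      exact h3.trans (by norm_num)

theorem phi_of_ord_14 {l : ℕ} [Fact l.Prime] {x : ZMod l} (hx : orderOf x = 14) : 1 - x + x ^ 2 - x ^ 3 + x ^ 4 - x ^ 5 + x ^ 6 = 0 := by
  have h1 : x ^ 14 - 1 = 0 := by rw [sub_eq_zero, ← hx]; exact pow_orderOf_eq_one x
  have h2 : (1 - x + x ^ 2 - x ^ 3 + x ^ 4 - x ^ 5 + x ^ 6) * (x ^ 7 - 1) * (x ^ 2 - 1) = (x ^ 14 - 1) * (-1 + x) := by ring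
  rw [h1, zero_mul] at h2
  have h3 : ∀ k : ℕ, 0 < k → k < 14 → x ^ k - 1 ≠ 0 := by
    intro k hk hk2 h4
    have h5 : x ^ k = 1 := sub_eq_zero.1 h4
    have h6 := orderOf_le_of_pow_eq_one hk h5
    omega
  replace h2 := (mul_eq_zero.1 h2).resolve_right (h3 2 (by norm_num) (by norm_num))
  replace h2 := (mul_eq_zero.1 h2).resolve_right (h3 7 (by norm_num) (by norm_num))
  exact h2

theorem phi_of_ord_24 {l : ℕ} [Fact l.Prime] {x : ZMod l} (hx : orderOf x = 24) : 1 - x ^ 4 + x ^ 8 = 0 := by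
  have h1 : x ^ 24 - 1 = 0 := by rw [sub_eq_zero, ← hx]; exact pow_orderOf_eq_one x
  have h2 : (1 - x ^ 4 + x ^ 8) * (x ^ 12 - 1) * (x ^ 8 - 1) = (x ^ 24 - 1) * (-1 + x ^ 4) := by ring
  rw [h1, zero_mul] at h2
  have h3 : ∀ k : ℕ, 0 < k → k < 24 → x ^ k - 1 ≠ 0 := by
    intro k hk hk2 h4
    have h5 : x ^ k = 1 := sub_eq_zero.1 h4
    have h6 := orderOf_le_of_pow_eq_one hk h5
    omega
  replace h2 := (mul_eq_zero.1 h2).resolve_right (h3 8 (by norm_num) (by norm_num))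
  replace h2 := (mul_eq_zero.1 h2).resolve_right (h3 12 (by norm_num) (by norm_num))
  exact h2

theorem ord_30 {l : ℕ} [Fact l.Prime] {x : ZMod l} (hx : 1 + x - x ^ 3 - x ^ 4 - x ^ 5 + x ^ 7 + x ^ 8 = 0) (hl : ¬ l ∣ 30) : orderOf x = 30 := by
  refine orderOf_eq_of_pow_and_pow_div_prime (by norm_num) ?_ ?_
  · have h1 : x ^ 30 - 1 = (1 + x - x ^ 3 - x ^ 4 - x ^ 5 + x ^ 7 + x ^ 8) * (-1 + x - x ^ 2 - x ^ 5 + x ^ 6 - x ^ 7 + x ^ 15 - x ^ 16 + x ^ 17 + x ^ 20 - x ^ 21 + x ^ 22) := by ring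
    rw [hx, zero_mul] at h1
    exact sub_eq_zero.1 h1
  · intro p hp hph h2
    have hp1 : p ∈ Nat.primeFactors 30 := by rw [Nat.mem_primeFactors]; exact ⟨hp, hph, by norm_num⟩
    have hp2 : p ≤ 30 := Nat.le_of_dvd (by norm_num) hph
    have hp3 : p = 2 ∨ p = 3 ∨ p = 5 := by
      clear h2 hp1
      interval_cases p <;> first | (clear * - hph; omega) | (exfalso; revert hp; norm_num)
    apply hl
    rcases hp3 with rfl | rfl | rfl
    · have h3 : ((2 : ℕ) : ZMod l) = 0 := by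
        have h4 : (1 - x + x ^ 2 + x ^ 5 - x ^ 6 + x ^ 7) * (1 + x - x ^ 3 - x ^ 4 - x ^ 5 + x ^ 7 + x ^ 8) + (-1) * (x ^ 15 - 1) = 2 := by ring
        have h5 : x ^ 15 - 1 = 0 := by rw [sub_eq_zero]; exact h2
        rw [hx, h5, mul_zero, mul_zero, add_zero] at h4
        exact_mod_cast h4.symm
      rw [ZMod.natCast_eq_zero_iff] at h3
      exact h3.trans (by norm_num)
    · have h3 : ((3 : ℕ) : ZMod l) = 0 := by
        have h4 : (2 - 2 * x + 2 * x ^ 2 + x ^ 5 - x ^ 6 + x ^ 7) * (1 + x - x ^ 3 - x ^ 4 - x ^ 5 + x ^ 7 + x ^ 8) + (-1 - x ^ 5) * (x ^ 10 - 1) = 3 := by ring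
        have h5 : x ^ 10 - 1 = 0 := by rw [sub_eq_zero]; exact h2
        rw [hx, h5, mul_zero, mul_zero, add_zero] at h4
        exact_mod_cast h4.symm
      rw [ZMod.natCast_eq_zero_iff] at h3
      exact h3.trans (by norm_num)
    · have h3 : ((5 : ℕ) : ZMod l) = 0 := by
        have h4 : (1 - x + 3 * x ^ 2 - x ^ 3 + x ^ 4 + 2 * x ^ 5) * (1 + x - x ^ 3 - x ^ 4 - x ^ 5 + x ^ 7 + x ^ 8) + (-4 + 2 * x ^ 2 + x ^ 3 - 3 * x ^ 6 - 2 * x ^ 7) * (x ^ 6 - 1) = 5 := by ring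
        have h5 : x ^ 6 - 1 = 0 := by rw [sub_eq_zero]; exact h2
        rw [hx, h5, mul_zero, mul_zero, add_zero] at h4
        exact_mod_cast h4.symm
      rw [ZMod.natCast_eq_zero_iff] at h3
      exact h3.trans (by norm_num)

theorem phi_of_ord_30 {l : ℕ} [Fact l.Prime] {x : ZMod l} (hx : orderOf x = 30) : 1 + x - x ^ 3 - x ^ 4 - x ^ 5 + x ^ 7 + x ^ 8 = 0 := by
  have h1 : x ^ 30 - 1 = 0 := by rw [sub_eq_zero, ← hx]; exact pow_orderOf_eq_one x
  have h2 : (1 + x - x ^ 3 - x ^ 4 - x ^ 5 + x ^ 7 + x ^ 8) * (x ^ 15 - 1) * (x ^ 10 - 1) * (x ^ 6 - 1) = (x ^ 30 - 1) * (1 + x - x ^ 3 - x ^ 4 - x ^ 5 - x ^ 6 + x ^ 8 + x ^ 9) := by ring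
  rw [h1, zero_mul] at h2
  have h3 : ∀ k : ℕ, 0 < k → k < 30 → x ^ k - 1 ≠ 0 := by
    intro k hk hk2 h4
    have h5 : x ^ k = 1 := sub_eq_zero.1 h4
    have h6 := orderOf_le_of_pow_eq_one hk h5
    omega
  replace h2 := (mul_eq_zero.1 h2).resolve_right (h3 6 (by norm_num) (by norm_num))
  replace h2 := (mul_eq_zero.1 h2).resolve_right (h3 10 (by norm_num) (by norm_num))
  replace h2 := (mul_eq_zero.1 h2).resolve_right (h3 15 (by norm_num) (by norm_num))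
  exact h2

end Cfsg.Agent.H719.Num
end

-- part: H719/RowCases
section
/-!
# The rows of the exceptional Chevalley groups: general case distinctions (helper719)
-/

set_option autoImplicit false
set_option linter.unusedSectionVars false

namespace Cfsg.Agent.H719

open Subgroup Cfsg Cfsg.Lie Cfsg.Lie.ChevalleyDatum
open Cfsg.Agent.H568

universe u

/-- A primitive prime divisor of `r ^ (e * h) - 1`. -/
theorem exists_prim {r e h : ℕ} (hr : r.Prime) (he : 3 ≤ e) (hh : 3 ≤ h) :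
    ∃ l : ℕ, l.Prime ∧ (∀ m, l ∣ r ^ m - 1 ↔ e * h ∣ m) ∧ 10 ≤ l ∧ l ≠ r ∧ orderOf ((r ^ e : ℕ) : ZMod l) = h := by
  have hn : 9 ≤ e * h := Nat.mul_le_mul he hh
  obtain ⟨l, hl, h1, h2, h3⟩ := Cfsg.Agent.Lib.Zsigmondy.exists_primitive (a := r) (n := e * h) hr.two_le (by omega)
    (by omega) (by omega)
  have hl1 : 9 ≤ l - 1 := hn.trans (Nat.le_of_dvd (by have := hl.two_le; omega) h2)
  refine ⟨l, hl, h1, by omega, fun h => h3 (h ▸ dvd_rfl), ?_⟩
  have hr1 : 1 ≤ r ^ e := Nat.one_le_pow _ _ hr.pos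
  have key : ∀ m, orderOf ((r ^ e : ℕ) : ZMod l) ∣ m ↔ h ∣ m := by
    intro m
    rw [← Cfsg.Agent.Lib.Zsigmondy.dvd_pow_sub_one_iff hr1, ← pow_mul, h1]
    exact Nat.mul_dvd_mul_iff_left (by omega)
  exact Nat.dvd_antisymm ((key h).2 dvd_rfl) ((key _).1 dvd_rfl)

/-- primes dividing the order -/
theorem ord_of_facs {n l : ℕ} (L : List (ℕ × ℕ)) (E : List ℕ) (hn : n = (L.map fun x => x.1 ^ x.2).prod)
    (h1 : ∀ x ∈ L, x.1.Prime) (h2 : ∀ x ∈ L, ¬ x.1 ^ (x.2 + 1) ∣ n)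
    (h3 : ∀ x ∈ L, x.1 ∈ E ∨ ∀ k ∈ List.range (x.2 + 1), k = 0 ∨ ¬ l ∣ x.1 ^ k - 1)
    {p : ℕ} (hp : p.Prime) (hpE : p ∉ E) (k : ℕ) (hk : k ≠ 0) (hpk : p ^ k ∣ n) : ¬ l ∣ p ^ k - 1 := by
  have h4 : p ∣ n := (dvd_pow_self p hk).trans hpk
  rw [hn, Prime.dvd_prod_iff hp.prime] at h4
  obtain ⟨_, hx, hpx⟩ := h4
  rw [List.mem_map] at hx
  obtain ⟨x, hx, rfl⟩ := hx
  have hpx' : p = x.1 := (Nat.prime_dvd_prime_iff_eq hp (h1 x hx)).1 (hp.dvd_of_dvd_pow hpx)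
  rcases h3 x hx with h5 | h5
  · exact absurd (hpx' ▸ h5) hpE
  · have hk2 : k < x.2 + 1 := by
      by_contra hcon
      apply h2 x hx
      rw [← hpx']
      exact (pow_dvd_pow p (not_lt.1 hcon)).trans hpk
    rcases h5 k (List.mem_range.2 hk2) with h6 | h6
    · exact absurd h6 hk
    · rw [← hpx'] at h6
      exact h6

theorem small_e {r e p q : ℕ} (hr : r.Prime) (hq : q = r ^ e) (hq5 : q ≤ 5) (he : 0 < e) (hp : p.Prime) (hp2 : p ≠ 2)
    (hpe : p ∣ e) : False := by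
  have h1 := Nat.le_of_dvd he hpe
  have h2 := hp.two_le
  have h3 : 3 ≤ e := by omega
  have h4 : 2 ^ 3 ≤ r ^ e := (Nat.pow_le_pow_right (by norm_num) h3).trans (Nat.pow_le_pow_left hr.two_le e)
  omega

theorem finite_group (D : ChevalleyDatum) (F : Type u) [Field F] [Finite F] : Finite ↥(D.group F) := by
  have : Finite (Matrix.GeneralLinearGroup D.Idx F) := inferInstance
  infer_instance

theorem ne_one {F : Type u} [Field F] [Fintype F] (h : 3 ≤ Fintype.card F) : ∃ a : F, a ≠ 0 ∧ a ≠ 1 := by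
  classical
  by_contra hc
  push Not at hc
  have h1 : (Finset.univ : Finset F) ⊆ {0, 1} := by
    intro a _
    by_cases ha : a = 0
    · simp only [ha, _root_.Finset.mem_insert, _root_.Finset.mem_singleton, _root_.zero_ne_one, _root_.or_false]
    · simp only [hc a ha, _root_.Finset.mem_insert, _root_.one_ne_zero, _root_.Finset.mem_singleton, _root_.or_true]
  have h2 := Finset.card_le_card h1
  have h3 : ({0, 1} : Finset F).card ≤ 2 := Finset.card_le_two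
  rw [Finset.card_univ] at h2
  omega

theorem cube_root {F : Type u} [Field F] [Finite F] (h : ¬ 3 ∣ Nat.card F - 1) (a : F) : ∃ b : F, b ^ 3 = a := by
  by_cases ha : a = 0
  · exact ⟨0, by rw [ha, zero_pow (by norm_num)]⟩
  · have hc : (Nat.card Fˣ).Coprime 3 := by
      rw [Nat.card_units]
      exact (Nat.coprime_comm.1 ((Nat.Prime.coprime_iff_not_dvd Nat.prime_three).2 h))
    obtain ⟨b, hb⟩ := (powCoprime hc).surjective (Units.mk0 a ha)
    refine ⟨(b : F), ?_⟩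
    have h1 := congrArg (fun u : Fˣ => (u : F)) hb
    simpa using h1

section

variable {D : ChevalleyDatum} {F : Type u} [Field F] [Fintype F] {r e : ℕ} [Fact r.Prime] [CharP F r]

theorem cast_ne_zero {p : ℕ} (hp : p.Prime) (hpr : p ≠ r) : (p : F) ≠ 0 := by
  intro h
  rw [CharP.cast_eq_zero_iff F r] at h
  exact hpr ((Nat.prime_dvd_prime_iff_eq Fact.out hp).1 h).symm

/-- The own characteristic. -/
theorem own_char {N N0 : ℕ} (hT : HasT ↥(D.group F) N N0) (hrN : ¬ r ∣ N) {l : ℕ} (hl : l.Prime) (hlN : l ∣ N0) {h : ℕ}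
    (hord : ∀ k, l ∣ Nat.card F ^ k - 1 → h ∣ k)
    (hown : ∀ {l : ℕ}, l.Prime → ∀ {x : ↥(D.group F)}, orderOf x = l →
      (∀ y : ↥(D.group F), orderOf y = r → x * y ≠ y * x) → (∀ k, l ∣ Nat.card F ^ k - 1 → h ∣ k) → NoNorm r x) :
    ∃ x : ↥(D.group F), NoNorm r x ∧ orderOf x = l := by
  have hfin := finite_group D F
  obtain ⟨x, hx, hc⟩ := hT
  obtain ⟨y, hy, hyo⟩ := exists_orderOf_dvd (x := x) (hx.symm ▸ hlN)
  have hy1 : y ≠ 1 := by
    rintro rfl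
    rw [orderOf_one] at hyo
    exact hl.one_lt.ne hyo
  refine ⟨y, hown hl hyo (fun z hz => ?_) hord, hyo⟩
  exact (not_comm_of_not_dvd hrN ((hc y hy hy1).2 z) hz).symm

/-- The field automorphisms. -/
theorem field_case {N1 N01 N2 N02 : ℕ} (hT1 : HasT ↥(D.group F) N1 N01) (hT2 : HasT ↥(D.group F) N2 N02)
    (hrN : ¬ r ∣ N1) {p : ℕ} [hp : Fact p.Prime] (hco : p ∣ N1 → p ∣ N2 → False)
    (hd1 : D.rank + D.nroots < N01) (hd2 : D.rank + D.nroots < N02) {d' : ℕ} {degs : List ℕ} {l1 l2 h : ℕ}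
    (hl1 : PrimL r e d' degs l1) (hlN1 : l1 ∣ N01) (hl2 : PrimL r e d' degs l2) (hlN2 : l2 ∣ N02)
    (hord : ∀ k, l1 ∣ Nat.card F ^ k - 1 → h ∣ k)
    (hown : ∀ {l : ℕ}, l.Prime → ∀ {x : ↥(D.group F)}, orderOf x = l →
      (∀ y : ↥(D.group F), orderOf y = r → x * y ≠ y * x) → (∀ k, l ∣ Nat.card F ^ k - 1 → h ∣ k) → NoNorm r x) :
    ∃ x : ↥(D.group F), NoNorm p x ∧ ∃ y ∈ zpowers x, PrimL r e d' degs (orderOf y) := by
  have hfin := finite_group D F
  by_cases hpr : p = r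
  · subst hpr
    obtain ⟨x, hx, hxl⟩ := own_char hT1 hrN hl1.1 hlN1 hord hown
    exact ⟨x, hx, x, mem_zpowers x, hxl.symm ▸ hl1⟩
  · by_cases hpN : p ∣ N1
    · obtain ⟨x, hx, hxl⟩ := noNorm_of_hasT hT2 hp.1 (cast_ne_zero (r := r) hp.1 hpr) (fun h => hco hpN h) hd2
      obtain ⟨y, hy, hyo⟩ := exists_orderOf_dvd (x := x) (hxl.symm ▸ hlN2)
      exact ⟨x, hx, y, hy, hyo.symm ▸ hl2⟩
    · obtain ⟨x, hx, hxl⟩ := noNorm_of_hasT hT1 hp.1 (cast_ne_zero (r := r) hp.1 hpr) hpN hd1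
      obtain ⟨y, hy, hyo⟩ := exists_orderOf_dvd (x := x) (hxl.symm ▸ hlN1)
      exact ⟨x, hx, y, hy, hyo.symm ▸ hl1⟩

/-- The inner automorphisms, if both tori are large. -/
theorem inner_case {N1 N01 N2 N02 : ℕ} (hT1 : HasT ↥(D.group F) N1 N01) (hT2 : HasT ↥(D.group F) N2 N02)
    (hrN : ¬ r ∣ N1) {p : ℕ} [hp : Fact p.Prime] (hco : p ∣ N1 → p ∣ N2 → False)
    (hd1 : D.rank + D.nroots < N01) (hd2 : D.rank + D.nroots < N02) {h l1 : ℕ} (hl1 : l1.Prime) (hlN1 : l1 ∣ N01)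
    (hord : ∀ k, l1 ∣ Nat.card F ^ k - 1 → h ∣ k)
    (hown : ∀ {l : ℕ}, l.Prime → ∀ {x : ↥(D.group F)}, orderOf x = l →
      (∀ y : ↥(D.group F), orderOf y = r → x * y ≠ y * x) → (∀ k, l ∣ Nat.card F ^ k - 1 → h ∣ k) → NoNorm r x) :
    ∃ x : ↥(D.group F), NoNorm p x := by
  by_cases hpr : p = r
  · subst hpr
    obtain ⟨x, hx, -⟩ := own_char hT1 hrN hl1 hlN1 hord hown
    exact ⟨x, hx⟩
  · by_cases hpN : p ∣ N1
    · obtain ⟨x, hx, -⟩ := noNorm_of_hasT hT2 hp.1 (cast_ne_zero (r := r) hp.1 hpr) (fun h => hco hpN h) hd2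
      exact ⟨x, hx⟩
    · obtain ⟨x, hx, -⟩ := noNorm_of_hasT hT1 hp.1 (cast_ne_zero (r := r) hp.1 hpr) hpN hd1
      exact ⟨x, hx⟩

/-- The inner automorphisms, if the second torus is small. -/
theorem inner_case' {N1 N01 : ℕ} (hT1 : HasT ↥(D.group F) N1 N01)
    (hrN : ¬ r ∣ N1) {p : ℕ} [hp : Fact p.Prime] (hco : p ∣ N1 → p ∣ N01)
    (hd1 : D.rank + D.nroots < N01) {h l1 : ℕ} (hl1 : l1.Prime) (hlN1 : l1 ∣ N01)
    (hord : ∀ k, l1 ∣ Nat.card F ^ k - 1 → h ∣ k)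
    (hown : ∀ {l : ℕ}, l.Prime → ∀ {x : ↥(D.group F)}, orderOf x = l →
      (∀ y : ↥(D.group F), orderOf y = r → x * y ≠ y * x) → (∀ k, l ∣ Nat.card F ^ k - 1 → h ∣ k) → NoNorm r x) :
    (∃ P : Sylow p ↥(D.group F), IsCyclic ↥(P : Subgroup ↥(D.group F))) ∨ ∃ x : ↥(D.group F), NoNorm p x := by
  have hfin := finite_group D F
  by_cases hpr : p = r
  · subst hpr
    obtain ⟨x, hx, -⟩ := own_char hT1 hrN hl1 hlN1 hord hown
    exact Or.inr ⟨x, hx⟩
  · by_cases hpN : p ∣ N1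
    · exact Or.inl (hT1.cyclic_sylow (hco hpN))
    · obtain ⟨x, hx, -⟩ := noNorm_of_hasT hT1 hp.1 (cast_ne_zero (r := r) hp.1 hpr) hpN hd1
      exact Or.inr ⟨x, hx⟩

/-- The inner automorphisms, small field, `p` not the characteristic. -/
theorem small_case {N l : ℕ} (hT : HasT ↥(D.group F) N l) {p : ℕ} [hp : Fact p.Prime] (hl : l.Prime)
    (hpN : p ∣ N → p = l) {n : ℕ} (hcard : Nat.card ↥(D.group F) = n)
    (hord : p ≠ l → ∀ k : ℕ, k ≠ 0 → p ^ k ∣ n → ¬ l ∣ p ^ k - 1) :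
    (∃ P : Sylow p ↥(D.group F), IsCyclic ↥(P : Subgroup ↥(D.group F))) ∨ ∃ x : ↥(D.group F), NoNorm p x := by
  have hfin := finite_group D F
  by_cases hpl : p = l
  · exact Or.inl (hT.cyclic_sylow (hpl ▸ dvd_rfl))
  · obtain ⟨x, -, hx⟩ := hT.order (p := p) (fun h => hpl (hpN h)) hl dvd_rfl (by rw [hcard]; exact hord hpl)
    exact Or.inr ⟨x, hx⟩

end

end Cfsg.Agent.H719
end

private theorem dce_53a9c11de7e2 : _root_.True := by
  try have : _root_.True := by simp only [_root_.powCoprime.congr_simp]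
  exact _root_.True.intro
end

-- part: H83/RowE6
section
prune_inst 0x60440100000000000002400000200400009000200001402000440000c1020002a100080001020002220000040000000000400000000000000000000001209028020011000004460001800004000000000000000000000000000000000000000000000
set_option linter.all false
open scoped Cfsg.Agent.FastGrp

-- part: H83/OwnE6
section
/-!
# Elements of order `l`, `ord_l(r) = 18 f`, of `²E₆(r^f)` normalise no `r`-subgroup (helper83)
-/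

set_option autoImplicit false
set_option linter.unusedSectionVars false

namespace Cfsg.Agent.H83.OwnE6

open Subgroup Cfsg.Agent.H568
open CoxeterSystem Cfsg.Agent.ChevalleyStructure.CoxeterGeom Cfsg.Agent.Tits.Roots Cfsg.Agent.Tits.Core
  Cfsg.Agent.Tits.RootComb Cfsg.Agent.Nodes.Reps Cfsg.Agent.Nodes.BNOf
  Cfsg.Agent.Nodes.RGDTwE6 Cfsg.Agent.Nodes.RGDFold
open Cfsg.Lie Cfsg.Agent.ChevalleyStructure
open Cfsg.Agent.KFacts.RgdDiag Cfsg.Agent.KFacts.TwESix Cfsg.Agent.KFacts.TwESix.Comb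
open Cfsg.Agent.ChevalleyStructure.SL2Hom (up lo)
open Cfsg.Agent.Nodes.RGDFoldSL Cfsg.Agent.Nodes.BNOf.RGD

universe u

variable {K : Type u} [Field K] [Fintype K] {q : ℕ} {φ : K →+* K}
variable {W : Type*} [Group W] (cs : CoxeterSystem CoxeterMatrix.F₄ W)

/-- the exponents of the orders of the root groups -/
def wt (x : Fin 4 → ℤ) : ℕ := if bf x x = 4 then 1 else 2

theorem card_X (r : ℕ) [Fact r.Prime] [CharP K r] (hφ : ∀ x, φ x = x ^ q) (hqq : ∀ t : K, (t ^ q) ^ q = t)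
    (hK : Fintype.card K = q ^ 2) (hq1 : 1 < q) {x : Fin 4 → ℤ} (hx : IsRoot cs isCartan x) :
    Nat.card ↥(X φ q x) = q ^ wt x := by
  have : Finite W := finiteW cs
  have R := _root_.Cfsg.Agent.Nodes.RGDTwE6.rgd cs hφ hqq r
  rcases _root_.Cfsg.Agent.KFacts.TwESix.Comb.norm cs hx with hl | hl
  · obtain ⟨w, rfl⟩ := exists_rep_long cs hx hl
    rw [Nodes.CardSup.card_X_rep R w (isRoot_sr cs isCartan 0), OutTwo.card_of_coord (Out.coordE hφ hqq 0), wt, if_pos hl,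
      pow_one]
    have h1 := ChevalleyStructure.FixedCard.card_fixed hq1 hK
    rw [← h1]
    refine Nat.card_congr (Equiv.subtypeEquivRight fun x => ?_)
    show x ∈ Fx φ 1 ↔ _
    rw [mem_Fx, Function.iterate_one, hφ]
  · obtain ⟨w, rfl⟩ := exists_rep_short cs hx hl
    rw [Nodes.CardSup.card_X_rep R w (isRoot_sr cs isCartan 3), OutTwo.card_of_coord (Out.coordE hφ hqq 3), wt,
      if_neg (by rw [hl]; norm_num)]
    have h1 : (Fx φ 2 : Subfield K) = ⊤ := Out.F2_eq_top hφ hqq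
    show Nat.card ↥(Fx φ 2) = _
    rw [h1, Nat.card_congr Subfield.topEquiv.toEquiv, Nat.card_eq_fintype_card, hK]

/-- the positive roots with positive `j`-th coefficient -/
def SS (j : Fin 4) : Finset (Fin 4 → ℤ) := (rts.filter fun x => (∀ i, 0 ≤ x i) ∧ 0 < x j).toFinset

theorem mem_SS (j : Fin 4) (x : Fin 4 → ℤ) : x ∈ SS j ↔ IsRoot cs isCartan x ∧ 0 ≤ x ∧ 0 < x j := by
  unfold SS
  rw [List.mem_toFinset, List.mem_filter, mem_rts cs, decide_eq_true_iff]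
  rfl

theorem sum_SS : ∀ j : Fin 4, 21 ≤ ∑ x ∈ SS j, wt x := by decide +kernel

theorem closed_SS (j : Fin 4) : Nodes.Unique.Closed cs isCartan (SS j : Set (Fin 4 → ℤ)) := by
  intro x hx y hy z hz
  rw [Finset.mem_coe, mem_SS cs] at hx hy ⊢
  refine ⟨hz.1, nonneg_of_btwn hx.2.1 hy.2.1 hz, ?_⟩
  obtain ⟨-, m, a, b, hm, ha, hb, he⟩ := hz
  have h1 := congrFun he j
  simp only [Pi.smul_apply, Pi.add_apply, smul_eq_mul] at h1
  have h2 : 0 < m * z j := by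
    rw [h1]
    have := mul_pos ha hx.2.2
    have := mul_pos hb hy.2.2
    omega
  by_contra h3
  push Not at h3
  nlinarith only [hx, hy, hm, ha, hb, h1, h3]

theorem card_VJ (r : ℕ) [Fact r.Prime] [CharP K r] (hφ : ∀ x, φ x = x ^ q) (hqq : ∀ t : K, (t ^ q) ^ q = t)
    (hK : Fintype.card K = q ^ 2) (hq1 : 1 < q) {J : Set (Fin 4)} (hJ : J ≠ Set.univ) :
    q ^ 21 ≤ Nat.card ↥(Nodes.LeviDec.VJ cs isCartan (X φ q) J) := by
  have : Finite W := finiteW cs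
  obtain ⟨j, hj⟩ : ∃ j, j ∉ J := by
    by_contra hcon
    push Not at hcon
    exact hJ (Set.eq_univ_of_forall hcon)
  have h1 : RGD.Sup (X φ q) (SS j : Set (Fin 4 → ℤ)) ≤ Nodes.LeviDec.VJ cs isCartan (X φ q) J := by
    refine RGD.Sup_mono fun x hx => ?_
    rw [Finset.mem_coe, mem_SS cs] at hx
    exact ⟨hx.1, hx.2.1, j, hj, hx.2.2⟩
  have h2 := Nodes.CardSup.card_sup (_root_.Cfsg.Agent.Nodes.RGDTwE6.rgd cs hφ hqq r) (s := SS j)
    (fun x hx => by
      rw [Finset.mem_coe, mem_SS cs] at hx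
      exact ⟨hx.1, hx.2.1⟩) (closed_SS cs j)
  have h3 : ∏ x ∈ SS j, Nat.card ↥(X φ q x) = q ^ ∑ x ∈ SS j, wt x := by
    rw [← Finset.prod_pow_eq_pow_sum]
    refine Finset.prod_congr rfl fun x hx => ?_
    exact card_X cs r hφ hqq hK hq1 ((mem_SS cs j x).1 hx).1
  rw [h3] at h2
  calc q ^ 21 ≤ q ^ ∑ x ∈ SS j, wt x := Nat.pow_le_pow_right (by omega) (sum_SS j)
    _ = _ := h2.symm
    _ ≤ _ := Nat.le_of_dvd Nat.card_pos (Subgroup.card_dvd_of_le h1)

/-- **Own characteristic.** -/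
theorem noNorm_own (hq : IsPrimePow q) (hK : Fintype.card K = q ^ 2) {r f : ℕ} [hr : Fact r.Prime] [CharP K r]
    (hqf : q = r ^ f) (hf : 1 ≤ f) {l : ℕ} (hl : l.Prime) (hord : orderOf (r : ZMod l) = 18 * f)
    {x : ↥(twistedE6 K q)} (hx : orderOf x = l) (hcent : ¬ r ∣ Nat.card ↥(centralizer {x})) : NoNorm r x := by
  have hlf : Fact l.Prime := ⟨hl⟩
  obtain ⟨φ, hφ, hqq⟩ := TwE6Basic.exists_frob hq hK
  have hq1 := hq.one_lt
  let cs : CoxeterSystem CoxeterMatrix.F₄ CoxeterMatrix.F₄.Group := CoxeterMatrix.F₄.toCoxeterSystem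
  have hfin : Finite CoxeterMatrix.F₄.Group := finiteW cs
  have hpow : ∀ m, l ∣ r ^ m - 1 ↔ 18 * f ∣ m := by
    intro m
    rw [← hord, orderOf_dvd_iff_pow_eq_one, ← ZMod.natCast_eq_zero_iff, Nat.cast_sub (Nat.one_le_pow _ _ hr.1.pos)]
    push_cast
    rw [sub_eq_zero]
  have hlr : l ≠ r := by
    rintro rfl
    have h1 : ((l : ℕ) : ZMod l) = 0 := ZMod.natCast_self l
    rw [h1, orderOf_zero] at hord
    omega
  have hrq : r ∣ q := by rw [hqf]; exact dvd_pow_self r (by omega)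
  have hcopm : ∀ m, 1 ≤ m → ¬ r ∣ q ^ m - 1 := by
    intro m hm h
    have h1 : r ∣ q ^ m := dvd_pow hrq (by omega)
    have h2 : 1 ≤ q ^ m := Nat.one_le_pow _ _ (by omega)
    have h3 : r ∣ 1 := by
      have := (Nat.dvd_sub h1 h)
      rwa [Nat.sub_sub_self h2] at this
    exact hr.1.one_lt.ne' (Nat.dvd_one.1 h3)
  have hcopp : ∀ m, 1 ≤ m → ¬ r ∣ q ^ m + 1 := by
    intro m hm h
    have h1 : r ∣ q ^ m := dvd_pow hrq (by omega)
    exact hr.1.one_lt.ne' (Nat.dvd_one.1 ((Nat.dvd_add_right h1).1 h))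
  have hcard := S1066.result hq hK
  set d := Nat.gcd 3 (q + 1) with hd
  have hd0 : 0 < d := Nat.gcd_pos_of_pos_left _ (by norm_num)
  have hdr : ¬ r ∣ d := by
    intro h
    have := hcopp 1 le_rfl
    rw [pow_one] at this
    exact this (h.trans (Nat.gcd_dvd_right _ _))
  refine OwnChar.noNorm_char_bt (cs := cs) (_root_.Cfsg.Agent.Nodes.RGDTwE6.rgd cs hφ hqq r)
    (KFacts.RgdFiltTwAll.filt_fold cs isCartan foldData (foldGrp hφ hqq) r)
    (_root_.Cfsg.Agent.Nodes.RGDTwE6.G1_eq_top cs hφ hqq) hl hlr ?_ hx hcent ?_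
  · -- the torus
    have h1 := S1102.result hq hK
    have h2 : Nat.card ↥(T K q) = Nat.card ↥(chevE6.diagonalSubgroup K ⊓ twistedE6 K q) :=
      Nat.card_congr (Subgroup.subgroupOfEquivOfLe inf_le_right).toEquiv
    intro h
    have h3 : l ∣ (q - 1) ^ 4 * (q + 1) ^ 2 := by
      rw [← h1, ← h2]
      exact h.mul_left _
    have h4 : l ∣ q ^ 2 - 1 := by
      have e1 : q ^ 2 - 1 = (q - 1) * (q + 1) := by
        have h01 : 1 ≤ q ^ 2 := Nat.one_le_pow _ _ (by omega)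
        have h02 : 1 ≤ q := by omega
        zify [h01, h02]; ring
      rw [e1]
      rcases hl.dvd_mul.1 h3 with h | h
      · exact (hl.dvd_of_dvd_pow h).mul_right _
      · exact (hl.dvd_of_dvd_pow h).mul_left _
    rw [hqf, ← pow_mul, hpow] at h4
    have := Nat.le_of_dvd (by omega) h4
    omega
  · intro J k hJ hk0 hVJ hkG hlk
    rw [hpow] at hlk
    obtain ⟨j, hj⟩ := hlk
    -- `21 f ≤ k`
    have h1 := card_VJ cs r hφ hqq hK hq1 hJ
    rw [hVJ, hqf, ← pow_mul] at h1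
    have h2 : f * 21 ≤ k := (Nat.pow_le_pow_iff_right hr.1.one_lt).1 h1
    have hj2 : 2 ≤ j := by
      by_contra hcon
      have : j ≤ 1 := by omega
      have : k ≤ 18 * f := by rw [hj]; nlinarith only [hcon]
      omega
    intro h
    have hco : Nat.Coprime (r ^ (k + 1)) ((q ^ 2 - 1) * (q ^ 5 + 1) * (q ^ 6 - 1) * (q ^ 8 - 1) * (q ^ 9 + 1) * (q ^ 12 - 1)) := by
      apply Nat.Coprime.pow_left
      rw [Nat.Prime.coprime_iff_not_dvd hr.1]
      intro h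
      rcases hr.1.dvd_mul.1 h with h | h
      · rcases hr.1.dvd_mul.1 h with h | h
        · rcases hr.1.dvd_mul.1 h with h | h
          · rcases hr.1.dvd_mul.1 h with h | h
            · rcases hr.1.dvd_mul.1 h with h | h
              · exact hcopm 2 (by norm_num) h
              · exact hcopp 5 (by norm_num) h
            · exact hcopm 6 (by norm_num) h
          · exact hcopm 8 (by norm_num) h
        · exact hcopp 9 (by norm_num) h
      · exact hcopm 12 (by norm_num) h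
    have h3 : r ^ (k + 1) ∣ q ^ 36 * ((q ^ 2 - 1) * (q ^ 5 + 1) * (q ^ 6 - 1) * (q ^ 8 - 1) * (q ^ 9 + 1) * (q ^ 12 - 1)) := by
      have e1 : q ^ 36 * ((q ^ 2 - 1) * (q ^ 5 + 1) * (q ^ 6 - 1) * (q ^ 8 - 1) * (q ^ 9 + 1) * (q ^ 12 - 1)) =
          d * Nat.card ↥(twistedE6 K q) := by rw [hcard]; ring
      rw [e1]
      exact h.mul_left _
    have h4 := hco.dvd_of_dvd_mul_right h3
    rw [hqf, ← pow_mul] at h4
    have h5 := (Nat.pow_dvd_pow_iff_le_right hr.1.one_lt).1 h4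
    rw [hj] at h5
    nlinarith only [hj2, h5]

end Cfsg.Agent.H83.OwnE6
end

-- part: H83/RowE6
section
/-!
# The row of `²E₆(q)` in S4329 (helper83)
-/

set_option autoImplicit false
set_option linter.unusedSectionVars false

namespace Cfsg.Agent.H83.RowE6

open Cfsg Cfsg.Lie Cfsg.Agent.H568 Cfsg.Agent.H129.TwE6Fr Cfsg.Agent.H83.AutCount Cfsg.Agent.H83.NumE6
  Cfsg.Agent.H83.TorE6 Cfsg.Agent.H83.RowE6A Cfsg.Agent.H83.RowE6B Cfsg.Agent.H83.RowE6C Cfsg.Agent.GpExc.Field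
  Cfsg.Agent.H129.TorusUntw Cfsg.Agent.BpExc.Tow

universe u

/-! ### numbers -/

theorem three_A {q : ℕ} (hq1 : 1 ≤ q) : ¬ 3 ∣ (q ^ 6 - q ^ 3 + 1) / Nat.gcd 3 (q + 1) := by
  rcases (Nat.dvd_prime Nat.prime_three).1 (Nat.gcd_dvd_left 3 (q + 1)) with hg | hg
  · rw [hg, Nat.div_one]
    intro h
    have h1 := (ZMod.natCast_eq_zero_iff (q ^ 6 - q ^ 3 + 1) 3).2 h
    push_cast [Nat.cast_sub (le1 hq1)] at h1
    have h2 : ((q + 1 : ℕ) : ZMod 3) = 0 := by
      push_cast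
      revert h1
      generalize (q : ZMod 3) = x
      revert x
      decide
    rw [ZMod.natCast_eq_zero_iff] at h2
    have h3 : 3 ∣ Nat.gcd 3 (q + 1) := Nat.dvd_gcd (dvd_refl 3) h2
    rw [hg] at h3
    norm_num at h3
  · rw [hg]
    intro h
    apply not_nine_A hq1
    obtain ⟨a, ha⟩ := h
    have h2 : 3 ∣ q ^ 6 - q ^ 3 + 1 := by
      have h3 : 3 ∣ q + 1 := by
        have := Nat.gcd_dvd_right 3 (q + 1)
        rwa [hg] at this
      have h4 := (ZMod.natCast_eq_zero_iff (q + 1) 3).2 h3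
      rw [← ZMod.natCast_eq_zero_iff]
      push_cast [Nat.cast_sub (le1 hq1)]
      push_cast at h4
      revert h4
      generalize (q : ZMod 3) = x
      revert x
      decide
    obtain ⟨b, hb⟩ := h2
    rw [hb, Nat.mul_div_cancel_left _ (by norm_num)] at ha
    exact ⟨a, by rw [hb, ha]; ring⟩

theorem big_A {q : ℕ} (hq3 : 3 ≤ q) (hd : Nat.gcd 3 (q + 1) ∣ q ^ 6 - q ^ 3 + 1) :
    78 < (q ^ 6 - q ^ 3 + 1) / Nat.gcd 3 (q + 1) := by
  have h27 : 27 ≤ q ^ 3 := by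
    calc 27 = 3 ^ 3 := by norm_num
      _ ≤ q ^ 3 := Nat.pow_le_pow_left hq3 3
  have e : q ^ 6 = q ^ 3 * q ^ 3 := by ring
  have h2 : q ^ 3 * 27 ≤ q ^ 3 * q ^ 3 := Nat.mul_le_mul_left _ h27
  have h3 : 3 * 79 ≤ q ^ 6 - q ^ 3 + 1 := by omega
  rw [Nat.lt_iff_add_one_le, Nat.le_div_iff_mul_le (Nat.gcd_pos_of_pos_left _ (by norm_num))]
  have h4 : Nat.gcd 3 (q + 1) ≤ 3 := Nat.gcd_le_left _ (by norm_num)
  calc (78 + 1) * Nat.gcd 3 (q + 1) ≤ 79 * 3 := Nat.mul_le_mul_left _ h4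
    _ ≤ _ := by omega

/-- `q = 2` : the orders modulo 19. -/
theorem nineteen {p n : ℕ} (hp : p.Prime) (hp2 : p ≠ 2) (hp19 : p ≠ 19) (hn : 1 ≤ n)
    (h : p ^ n ∣ 2 ^ 36 * (2 ^ 2 - 1) * (2 ^ 5 + 1) * (2 ^ 6 - 1) * (2 ^ 8 - 1) * (2 ^ 9 + 1) * (2 ^ 12 - 1))
    (hmod : p ^ n ≡ 1 [MOD 19]) : False := by
  have e : 2 ^ 36 * (2 ^ 2 - 1) * (2 ^ 5 + 1) * (2 ^ 6 - 1) * (2 ^ 8 - 1) * (2 ^ 9 + 1) * (2 ^ 12 - 1) =
      2 ^ 36 * (3 ^ 10 * (5 ^ 2 * (7 ^ 2 * (11 * (13 * (17 * 19)))))) := by norm_num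
  rw [e] at h
  have key : ∀ s a : ℕ, s.Prime → p ≠ s → ∀ b : ℕ, p ^ n ∣ s ^ a * b → p ^ n ∣ b := by
    intro s a hs hps b hb
    have hco : Nat.Coprime (p ^ n) (s ^ a) := Nat.Coprime.pow _ _ ((Nat.coprime_primes hp hs).2 hps)
    exact hco.dvd_of_dvd_mul_left hb
  have h1 := key 2 36 Nat.prime_two hp2 _ h
  have hpp : p = 3 ∨ p = 5 ∨ p = 7 ∨ p = 11 ∨ p = 13 ∨ p = 17 := by
    have h2 : p ∣ 3 ^ 10 * (5 ^ 2 * (7 ^ 2 * (11 * (13 * (17 * 19))))) := (dvd_pow_self p (by omega)).trans h1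
    rcases hp.dvd_mul.1 h2 with h | h
    · left; exact (Nat.prime_dvd_prime_iff_eq hp (by norm_num)).1 (hp.dvd_of_dvd_pow h)
    rcases hp.dvd_mul.1 h with h | h
    · right; left; exact (Nat.prime_dvd_prime_iff_eq hp (by norm_num)).1 (hp.dvd_of_dvd_pow h)
    rcases hp.dvd_mul.1 h with h | h
    · right; right; left; exact (Nat.prime_dvd_prime_iff_eq hp (by norm_num)).1 (hp.dvd_of_dvd_pow h)
    rcases hp.dvd_mul.1 h with h | h
    · right; right; right; left; exact (Nat.prime_dvd_prime_iff_eq hp (by norm_num)).1 h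
    rcases hp.dvd_mul.1 h with h | h
    · right; right; right; right; left; exact (Nat.prime_dvd_prime_iff_eq hp (by norm_num)).1 h
    rcases hp.dvd_mul.1 h with h | h
    · right; right; right; right; right; exact (Nat.prime_dvd_prime_iff_eq hp (by norm_num)).1 h
    · exact absurd ((Nat.prime_dvd_prime_iff_eq hp (by norm_num)).1 h) hp19
  have hle : ∀ m : ℕ, ¬ p ^ m ∣ 3 ^ 10 * (5 ^ 2 * (7 ^ 2 * (11 * (13 * (17 * 19))))) → n < m := by
    intro m hm
    by_contra hcon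
    exact hm ((pow_dvd_pow p (by omega)).trans h1)
  rw [Nat.ModEq] at hmod
  rcases hpp with rfl | rfl | rfl | rfl | rfl | rfl
  · have := hle 11 (by norm_num)
    interval_cases n <;> norm_num at hmod
  · have := hle 3 (by norm_num)
    interval_cases n <;> norm_num at hmod
  · have := hle 3 (by norm_num)
    interval_cases n <;> norm_num at hmod
  · have := hle 2 (by norm_num)
    interval_cases n
    norm_num at hmod
  · have := hle 2 (by norm_num)
    interval_cases n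
    norm_num at hmod
  · have := hle 2 (by norm_num)
    interval_cases n
    norm_num at hmod

theorem index_out {F : Type u} [Field F] [Fintype F] {q r e : ℕ} [Fact r.Prime] [CharP F r] (hqe : q = r ^ e)
    (he : 1 ≤ e) (hF : Fintype.card F = q ^ 2) :
    (MulAut.conj : ↥(twistedE6 F q) →* MulAut ↥(twistedE6 F q)).range.index = 2 * Nat.gcd 3 (q + 1) * e := by
  subst hqe
  rw [← H997.OutCard.card_out]
  exact S2130.result r e (by rw [hF, ← pow_mul, mul_comm]) he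

/-- The order of an outer automorphism of prime order divides the index. -/
theorem dvd_index {G : Type*} [Group G] [Finite G] {p : ℕ} (hp : p.Prime) {a : MulAut G} (ha : orderOf a = p)
    (hinn : ¬ ∃ s, a = MulAut.conj s) : p ∣ (MulAut.conj : G →* MulAut G).range.index := by
  have hKn : (MulAut.conj : G →* MulAut G).range.Normal := by
    refine ⟨?_⟩
    rintro _ ⟨g, rfl⟩ a
    refine ⟨a g, ?_⟩
    ext y
    simp only [MulAut.conj_apply, _root_.MulAut.mul_apply, _root_.MulAut.inv_apply, _root_.map_mul, _root_.MulEquiv.apply_symm_apply, _root_.map_inv]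
  set J := (MulAut.conj : G →* MulAut G).range with hJ
  have h1 : orderOf (QuotientGroup.mk a : MulAut G ⧸ J) ∣ p := by
    rw [← ha]
    exact orderOf_map_dvd (QuotientGroup.mk' J) a
  rcases (Nat.dvd_prime hp).1 h1 with h2 | h2
  · exfalso
    rw [orderOf_eq_one_iff, QuotientGroup.eq_one_iff] at h2
    obtain ⟨s, hs⟩ := h2
    exact hinn ⟨s, hs.symm⟩
  · rw [← h2]
    exact orderOf_dvd_natCard _

/-- A conjugate of an outer automorphism is outer. -/
theorem inner_of_conj {G : Type*} [Group G] {a g : MulAut G} {s : G} (h : g * a * g⁻¹ = MulAut.conj s) :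
    ∃ s, a = MulAut.conj s := by
  refine ⟨g⁻¹ s, ?_⟩
  have h1 : a = g⁻¹ * MulAut.conj s * g := by rw [← h]; group
  rw [h1]
  ext y
  simp only [MulAut.conj_apply, _root_.MulAut.mul_apply, _root_.MulAut.inv_apply, _root_.map_mul, _root_.MulEquiv.symm_apply_apply, _root_.map_inv]

/-! ### the group -/

section

variable {F : Type u} [Field F] [Fintype F] {q : ℕ} {hq : IsPrimePow q} {hF : Fintype.card F = q ^ 2}
  {k : Type u} [Field k] [IsAlgClosed k] {r e : ℕ} [hr : Fact r.Prime] [CharP k r] {f : F →+* k}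
  {z t : ↥(chevE6.group k)} {u : k} {x0 : ↥(twistedE6 F q)}

/-- The nontrivial elements of the first torus. -/
theorem cent_A (T1 : Tor6 f hq hF cE r e TwEA.B (q ^ 6 - q ^ 3 + 1) (Nat.gcd 3 (q + 1)) z t u x0)
    {s : ↥(twistedE6 F q)} (hs : s ∈ Subgroup.zpowers x0) (hs1 : s ≠ 1) :
    Subgroup.centralizer {s} = Subgroup.zpowers x0 := by
  have hq1 := hq.one_lt.le
  have hs0 : orderOf s ≠ 1 := by rwa [Ne, orderOf_eq_one_iff]
  obtain ⟨r', hr', hrs⟩ := Nat.exists_prime_and_dvd hs0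
  have h1 : r' ∣ (q ^ 6 - q ^ 3 + 1) / Nat.gcd 3 (q + 1) := by
    rw [← T1.hord]
    exact hrs.trans (orderOf_dvd_of_mem_zpowers hs)
  have h2 : r' ∣ q ^ 6 - q ^ 3 + 1 := h1.trans (Nat.div_dvd_of_dvd T1.hdN)
  have h3 : r' ≠ 3 := by rintro rfl; exact three_A hq1 h1
  obtain ⟨hW, hreg⟩ := regA hq1 hr' h2 h3
  exact (T1.hcent s hs r' hr' hrs hW hreg).1

/-- **`x0` normalises no `p`-subgroup**, `p ∤ 2 r |T|`. -/
theorem noNorm_A (T1 : Tor6 f hq hF cE r e TwEA.B (q ^ 6 - q ^ 3 + 1) (Nat.gcd 3 (q + 1)) z t u x0)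
    (hqe : q = r ^ e) {p : ℕ} (hp : p.Prime) (hp2 : p ≠ 2) (hpr : p ≠ r)
    (hpN : ¬ p ∣ (q ^ 6 - q ^ 3 + 1) / Nat.gcd 3 (q + 1)) : NoNorm p x0 := by
  classical
  have hcomm : ∀ s ∈ Subgroup.zpowers x0, s ≠ 1 → ∀ y : ↥(twistedE6 F q), orderOf y = p → y * s ≠ s * y := by
    intro s hs hs1 y hy hys
    apply hpN
    have hyT : y ∈ Subgroup.zpowers x0 := by
      rw [← cent_A T1 hs hs1, Subgroup.mem_centralizer_singleton_iff]
      exact hys
    rw [← T1.hord, ← hy]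
    exact orderOf_dvd_of_mem_zpowers hyT
  have hcF : CharP F r := RingHom.charP f f.injective r
  rcases Nat.lt_or_ge q 3 with hq2 | hq3
  · have hq2' : q = 2 := by have := hq.one_lt; omega
    subst hq2'
    have h19 : Nat.Prime 19 := by norm_num
    have hord : orderOf x0 = 19 := by rw [T1.hord]; rfl
    have hp19 : p ≠ 19 := by
      rintro rfl
      apply hpN
      norm_num
    have hx1 : x0 ≠ 1 := by
      intro h
      rw [h, orderOf_one] at hord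
      norm_num at hord
    intro Q hQ hn
    by_contra hQ1
    have hpf : Fact p.Prime := ⟨hp⟩
    have hC : ∀ v ∈ Q, v * x0 = x0 * v → v = 1 := by
      intro v hv hvx
      by_contra hv1
      obtain ⟨m, hm⟩ := hQ ⟨v, hv⟩
      have hm' : v ^ p ^ m = 1 := congrArg Subtype.val hm
      obtain ⟨j, -, hj⟩ := (Nat.dvd_prime_pow hp).1 (orderOf_dvd_of_pow_eq_one hm')
      have hj0 : j ≠ 0 := by
        rintro rfl
        rw [pow_zero, orderOf_eq_one_iff] at hj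
        exact hv1 hj
      obtain ⟨i, rfl⟩ : ∃ i, j = i + 1 := ⟨j - 1, by omega⟩
      have ho : orderOf (v ^ p ^ i) = p := by
        rw [orderOf_pow_of_dvd (pow_ne_zero _ hp.ne_zero) (by rw [hj, pow_succ]; exact Dvd.intro _ rfl), hj, pow_succ,
          Nat.mul_div_cancel_left _ (pow_pos hp.pos _)]
      exact hcomm x0 (Subgroup.mem_zpowers _) hx1 _ ho ((show Commute v x0 from hvx).pow_left (p ^ i)).eq
    have h1 := OwnChar.card_modEq_one h19 hord hn hC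
    obtain ⟨n, hn'⟩ := IsPGroup.iff_card.1 hQ
    rw [hn'] at h1
    have hn0 : n ≠ 0 := by
      rintro rfl
      rw [pow_zero] at hn'
      exact hQ1 (Subgroup.card_eq_one.1 hn')
    refine nineteen hp hp2 hp19 (by omega) ?_ h1
    rw [← S1066.result hq hF, ← hn']
    exact (Subgroup.card_subgroup_dvd_card Q).mul_left _
  · refine Frob.noNorm_of_frob (ι := chevE6.Idx) (k := F) (twistedE6 F q).subtype (Subgroup.subtype_injective _)
      hp ?_ ?_ hcomm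
    · intro h
      rw [CharP.cast_eq_zero_iff F r] at h
      exact hpr ((Nat.prime_dvd_prime_iff_eq hr.1 hp).1 h).symm
    · rw [T1.hord]
      have h1 : Fintype.card chevE6.Idx = 78 := by decide
      rw [h1]
      exact big_A hq3 T1.hdN

/-- **The automorphisms fixing `x1`**, if the torus acts faithfully. -/
theorem fix_form (T1 : Tor6 f hq hF cE r e TwEA.B (q ^ 6 - q ^ 3 + 1) (Nat.gcd 3 (q + 1)) z t u x0) (hqe : q = r ^ e)
    {x1 : ↥(twistedE6 F q)} (hx1 : x1 ∈ Subgroup.zpowers x0)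
    (hcard : Nat.card ↥(MulAction.stabilizer (MulAut ↥(twistedE6 F q)) x1) ≤ q ^ 6 - q ^ 3 + 1)
    {x2 : ↥(twistedE6 F q)}
    (hsec : ∀ i : ℤ, (z * t ^ i * z⁻¹) * embT f hq hF x2 = embT f hq hF x2 * (z * t ^ i * z⁻¹) → t ^ i = 1)
    {a : MulAut ↥(twistedE6 F q)} (ha : a x1 = x1) :
    ∃ i : ℤ, ∀ y, embT f hq hF (a y) = (z * t ^ i * z⁻¹) * embT f hq hF y * (z * t ^ i * z⁻¹)⁻¹ := by
  classical
  set N := q ^ 6 - q ^ 3 + 1 with hN
  have hA : ∀ i : ℤ, ∃ b : MulAut ↥(twistedE6 F q), ∀ y, embT f hq hF (b y) =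
      (z * t ^ i * z⁻¹) * embT f hq hF y * (z * t ^ i * z⁻¹)⁻¹ := by
    intro i
    refine TorAut.exists_aut (embT_injective f hq hF) (θ := fun y => (z * t ^ i * z⁻¹) * y * (z * t ^ i * z⁻¹)⁻¹)
      (fun a b => by group) (fun a b h => ?_) (fun y => tau_normal f hqe hq hF (tau_T T1 i) ⟨y, rfl⟩)
    exact mul_left_cancel (mul_right_cancel h)
  choose A hA using hA
  have hAx : ∀ i, A i x1 = x1 := by
    intro i
    obtain ⟨j, rfl⟩ := hx1
    apply embT_injective f hq hF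
    show embT f hq hF (A i (x0 ^ j)) = embT f hq hF (x0 ^ j)
    rw [hA, map_zpow, T1.hx0]
    have h1 : (z * t ^ i * z⁻¹) * (z * t ^ Nat.gcd 3 (q + 1) * z⁻¹) = (z * t ^ Nat.gcd 3 (q + 1) * z⁻¹) * (z * t ^ i * z⁻¹) := by
      have h2 : t ^ i * t ^ Nat.gcd 3 (q + 1) = t ^ Nat.gcd 3 (q + 1) * t ^ i :=
        ((Commute.refl t).zpow_left i).pow_right _
      calc (z * t ^ i * z⁻¹) * (z * t ^ Nat.gcd 3 (q + 1) * z⁻¹) = z * (t ^ i * t ^ Nat.gcd 3 (q + 1)) * z⁻¹ := by group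
        _ = _ := by rw [h2]; group
    have h3 := ((show Commute (z * t ^ i * z⁻¹) (z * t ^ Nat.gcd 3 (q + 1) * z⁻¹) from h1).zpow_right j).eq
    rw [h3, mul_inv_cancel_right]
  have hNpos : 0 < N := by omega
  let Φ : Fin N → ↥(MulAction.stabilizer (MulAut ↥(twistedE6 F q)) x1) := fun i =>
    ⟨A ((i : ℕ) : ℤ), by rw [MulAction.mem_stabilizer_iff]; exact hAx _⟩
  have hΦ : Function.Injective Φ := by
    intro i j h
    have h1 : A ((i : ℕ) : ℤ) = A ((j : ℕ) : ℤ) := congrArg Subtype.val h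
    have h2 : (z * t ^ ((i : ℕ) : ℤ) * z⁻¹) * embT f hq hF x2 * (z * t ^ ((i : ℕ) : ℤ) * z⁻¹)⁻¹ =
        (z * t ^ ((j : ℕ) : ℤ) * z⁻¹) * embT f hq hF x2 * (z * t ^ ((j : ℕ) : ℤ) * z⁻¹)⁻¹ := by
      rw [← hA, ← hA, h1]
    have h3 := hsec (((i : ℕ) : ℤ) - ((j : ℕ) : ℤ)) (by
      have e1 : z * t ^ (((i : ℕ) : ℤ) - ((j : ℕ) : ℤ)) * z⁻¹ =
          (z * t ^ ((j : ℕ) : ℤ) * z⁻¹)⁻¹ * (z * t ^ ((i : ℕ) : ℤ) * z⁻¹) := by
        rw [zpow_sub]
        have h5 : t ^ ((i : ℕ) : ℤ) * (t ^ ((j : ℕ) : ℤ))⁻¹ = (t ^ ((j : ℕ) : ℤ))⁻¹ * t ^ ((i : ℕ) : ℤ) :=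
          ((((Commute.refl t).zpow_left _).zpow_right _).inv_right).eq
        rw [h5]
        group
      rw [e1]
      set gi := z * t ^ ((i : ℕ) : ℤ) * z⁻¹ with hgi
      set gj := z * t ^ ((j : ℕ) : ℤ) * z⁻¹ with hgj
      set E := embT f hq hF x2 with hE
      calc gj⁻¹ * gi * E = gj⁻¹ * (gi * E * gi⁻¹) * gi := by group
        _ = gj⁻¹ * (gj * E * gj⁻¹) * gi := by rw [h2]
        _ = _ := by group)
    rw [← orderOf_dvd_iff_zpow_eq_one, T1.htN] at h3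
    have hi := i.2
    have hj := j.2
    apply Fin.ext
    have h4 : ((i : ℕ) : ℤ) - ((j : ℕ) : ℤ) = 0 := by
      apply Int.eq_zero_of_abs_lt_dvd h3
      rw [abs_lt]
      constructor <;> omega
    omega
  have hcf : Nat.card (Fin N) = N := by rw [Nat.card_eq_fintype_card, Fintype.card_fin]
  obtain ⟨i, hi⟩ := (hΦ.bijective_of_nat_card_le (hcard.trans hcf.ge)).2 ⟨a, ha⟩
  refine ⟨((i : ℕ) : ℤ), fun y => ?_⟩
  have h1 : A ((i : ℕ) : ℤ) = a := congrArg Subtype.val hi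
  rw [← hA, h1]

end

/-- **`Row p (²E₆(q))`.** -/
theorem row_tw {F : Type u} [Field F] [Fintype F] {q : ℕ} (hq : IsPrimePow q) (hF : Fintype.card F = q ^ 2)
    (p : ℕ) [hp : Fact p.Prime] (hp2 : p ≠ 2) : Row p ↥(twistedE6 F q) := by
  classical
  obtain ⟨r, e', hrF, hcF, hck, -, hre, hk⟩ := exists_closure hF
  obtain ⟨r', e, hr', he, hqe'⟩ := id hq
  have hrr : r' = r := by
    have h1 : r' ∣ r ^ e' := by
      rw [← hre, ← hqe']
      exact dvd_pow (dvd_pow_self r' he.ne') (by norm_num)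
    exact (Nat.prime_dvd_prime_iff_eq hr'.nat_prime hrF.out).1 (hr'.nat_prime.dvd_of_dvd_pow h1)
  subst hrr
  have hqe : q = r' ^ e := hqe'.symm
  have hq1 := hq.one_lt.le
  obtain ⟨hsim, hna⟩ := S1070.result hq hF
  have hZ : Subgroup.center ↥(twistedE6 F q) = ⊥ := center_eq_bot hna
  obtain ⟨l, hl, hord, hlN', hle⟩ := exists_l hrF.out (f := e) (by omega)
  have hlN : l ∣ q ^ 6 - q ^ 3 + 1 := by rw [hqe]; exact hlN'
  have hl3 : l ≠ 3 := by omega
  obtain ⟨z, t, u, x0, T1⟩ := mainA (algebraMap F (AlgebraicClosure F)) hq hF hk (by omega) hqe hl hord hlN hle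
  set N := q ^ 6 - q ^ 3 + 1 with hN
  have hNpos : 0 < N := by omega
  obtain ⟨n, hn⟩ := T1.hdN
  have hd0 : 0 < Nat.gcd 3 (q + 1) := Nat.gcd_pos_of_pos_left _ (by norm_num)
  have hNd : N / Nat.gcd 3 (q + 1) = n := by rw [hn, Nat.mul_div_cancel_left _ hd0]
  have hn0 : n ≠ 0 := by rintro rfl; omega
  have hx0o : orderOf x0 = n := by rw [T1.hord, hNd]
  have hln : l ∣ n := by
    rw [hn] at hlN
    rcases hl.dvd_mul.1 hlN with h | h
    · exfalso
      have h3 : l ∣ 3 := h.trans (Nat.gcd_dvd_left _ _)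
      exact hl3 ((Nat.prime_dvd_prime_iff_eq hl Nat.prime_three).1 h3)
    · exact h
  obtain ⟨m, hm⟩ := hln
  have hm0 : m ≠ 0 := by rintro rfl; omega
  -- the element of order `l`
  set x1 := x0 ^ m with hx1
  have hx1l : orderOf x1 = l := by
    rw [hx1, orderOf_pow_of_dvd hm0 (by rw [hx0o, hm]; exact Dvd.intro_left _ rfl), hx0o, hm,
      Nat.mul_div_cancel _ (Nat.pos_of_ne_zero hm0)]
  have hx1ne : x1 ≠ 1 := by
    intro h
    rw [h, orderOf_one] at hx1l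
    exact hl.one_lt.ne hx1l
  have hx1m : x1 ∈ Subgroup.zpowers x0 := Subgroup.npow_mem_zpowers x0 m
  have hT : Subgroup.centralizer {x1} = Subgroup.zpowers x0 := cent_A T1 hx1m hx1ne
  set T := Subgroup.zpowers x0 with hTdef
  have hTcard : Nat.card ↥T = n := by rw [hTdef, Nat.card_zpowers, hx0o]
  have hcyc : IsCyclic ↥T := by rw [hTdef]; infer_instance
  obtain ⟨b, hb⟩ := T1.hfield
  have hbx : b x1 = x1 ^ r' := by rw [hx1, map_pow, hb, ← pow_mul, ← pow_mul, mul_comm]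
  have hidx : T.index = M1 q := Nat.eq_of_mul_eq_mul_left hd0 (index_eq T1 (by omega) (eq1 hq1))
  have hout := index_out hqe (by omega) hF
  have hstab : Nat.card ↥(MulAction.stabilizer (MulAut ↥(twistedE6 F q)) x1) ≤ Nat.gcd 3 (q + 1) * Nat.card ↥T :=
    card_fix_le hl hx1l hT hcyc hZ (c := 9) (by norm_num) (by omega) (by rw [hidx]; exact mod1 hq1 hlN) hbx hord
      (d := Nat.gcd 3 (q + 1)) (by rw [hout]; linarith only []) (by omega)
  have hTx : ∀ y ∈ T, y * x1 = x1 * y := fun y hy => by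
    rw [← hT] at hy
    exact Subgroup.mem_centralizer_singleton_iff.1 hy
  have h3n : ¬ 3 ∣ n := by rw [← hNd]; exact three_A hq1
  -- own characteristic
  have hrn : ¬ r' ∣ n := by
    intro h
    have h1 : r' ∣ N := h.trans (by rw [hn]; exact Dvd.intro_left _ rfl)
    have h0 : q ^ 3 ≤ q ^ 6 := le1 hq1
    have hrq : r' ∣ q := by rw [hqe]; exact dvd_pow_self r' (by omega)
    have h2 : r' ∣ q ^ 6 - q ^ 3 := Nat.dvd_sub (dvd_pow hrq (by norm_num)) (dvd_pow hrq (by norm_num))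
    exact hrF.out.one_lt.ne' (Nat.dvd_one.1 ((Nat.dvd_add_right h2).1 h1))
  have hown : NoNorm r' x1 := OwnE6.noNorm_own hq hF hqe (by omega) hl hord hx1l (by rw [hT, hTcard]; exact hrn)
  have hnoN : p ≠ r' → ¬ p ∣ n → NoNorm p x0 := fun h1 h2 =>
    noNorm_A T1 hqe hp.1 hp2 h1 (by rw [hNd]; exact h2)
  refine row_of hna fun a ha => ?_
  by_cases hinn : ∃ s, a = MulAut.conj s
  · by_cases hpn : p ∣ n
    · left
      refine ⟨hinn, exists_cyclic_sylow hcyc ?_⟩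
      intro h
      have h1 : M1 q ≡ 9 [MOD p] := mod1 hq1 (hpn.trans (by rw [← hN, hn]; exact Dvd.intro_left _ rfl))
      rw [hidx] at h
      have h2 : p ∣ 9 := (Nat.modEq_zero_iff_dvd).1 (h1.symm.trans (Nat.modEq_zero_iff_dvd.2 h))
      have h3 : p ∣ 3 ^ 2 := h2
      have h4 := (Nat.prime_dvd_prime_iff_eq hp.1 Nat.prime_three).1 (hp.1.dvd_of_dvd_pow h3)
      rw [h4] at hpn
      exact h3n hpn
    · right; left
      by_cases hpr : p = r'
      · subst hpr; exact ⟨hinn, x1, hown⟩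
      · exact ⟨hinn, x0, hnoN hpr hpn⟩
  · right; right
    have hpd : p ∣ 2 * Nat.gcd 3 (q + 1) * e := by rw [← hout]; exact dvd_index hp.1 ha hinn
    have hpd' : p ∣ Nat.gcd 3 (q + 1) ∨ p ∣ e := by
      rcases hp.1.dvd_mul.1 hpd with h | h
      · rcases hp.1.dvd_mul.1 h with h | h
        · exact absurd ((Nat.prime_dvd_prime_iff_eq hp.1 Nat.prime_two).1 h) hp2
        · exact Or.inl h
      · exact Or.inr h
    have hlp : l ≠ p := by
      rintro rfl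
      rcases hpd' with h | h
      · have h3 : l ∣ 3 := h.trans (Nat.gcd_dvd_left _ _)
        exact hl3 ((Nat.prime_dvd_prime_iff_eq hl Nat.prime_three).1 h3)
      · have := Nat.le_of_dvd (by omega) h
        omega
    by_cases hfixex : ∃ g : MulAut ↥(twistedE6 F q), (g * a * g⁻¹) x1 = x1
    · -- the diagonal automorphisms
      obtain ⟨g, hg⟩ := hfixex
      rcases (Nat.dvd_prime Nat.prime_three).1 (Nat.gcd_dvd_left 3 (q + 1)) with hd1 | hd3
      · exfalso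
        rw [hd1, one_mul] at hstab
        obtain ⟨s, -, hs⟩ := inner_of_fix hZ hTx hstab hg
        exact hinn (inner_of_conj hs)
      · have hr3 : r' ≠ 3 := by
          rintro h
          have h3 : 3 ∣ q + 1 := by
            have := Nat.gcd_dvd_right 3 (q + 1)
            rwa [hd3] at this
          have h4 : 3 ∣ q := by rw [hqe, h]; exact dvd_pow_self 3 (by omega)
          have h5 := (Nat.dvd_add_right h4).1 h3
          norm_num at h5
        obtain ⟨x2, h32, hno2, hsec⟩ : ∃ x2 : ↥(twistedE6 F q), ¬ 3 ∣ orderOf x2 ∧ NoNorm 3 x2 ∧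
            ∀ y' : ↥(twistedE6 F q), orderOf y' = orderOf x2 → ∀ i : ℤ,
              (z * t ^ i * z⁻¹) * embT (algebraMap F (AlgebraicClosure F)) hq hF y' =
                embT (algebraMap F (AlgebraicClosure F)) hq hF y' * (z * t ^ i * z⁻¹) → t ^ i = 1 := by
          rcases Nat.lt_or_ge q 5 with hq5 | hq5
          · have hq2 : q = 2 := by
              have := hq.one_lt
              have h3 : 3 ∣ q + 1 := by
                have := Nat.gcd_dvd_right 3 (q + 1)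
                rwa [hd3] at this
              omega
            exact mainC hk hqe hq2 T1
          · exact mainB hk hqe hq5 hd3 hr3 T1
        obtain ⟨i, hi⟩ := fix_form T1 hqe hx1m (by
          refine hstab.trans ?_
          rw [hTcard, ← hn]) (hsec x2 rfl) hg
        set G := z * t ^ i * z⁻¹ with hG
        set e0 := embT (algebraMap F (AlgebraicClosure F)) hq hF with he0
        have hgp : (g * a * g⁻¹) ^ p = 1 := by
          rw [conj_pow, ← ha, pow_orderOf_eq_one, mul_one, mul_inv_cancel]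
        have hpow : ∀ (j : ℕ) y, e0 (((g * a * g⁻¹) ^ j) y) = G ^ j * e0 y * (G ^ j)⁻¹ := by
          intro j
          induction j with
          | zero => intro y; simp
          | succ j ih =>
            intro y
            rw [pow_succ', MulAut.mul_apply, hi, ih, pow_succ']
            group
        have hGp : t ^ (i * p) = 1 := by
          apply hsec x2 rfl
          have h1 := hpow p x2
          rw [hgp] at h1
          have h2 : z * t ^ (i * (p : ℤ)) * z⁻¹ = G ^ p := by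
            rw [hG, conj_pow, ← zpow_natCast, ← zpow_mul]
          rw [h2]
          have h3 : e0 x2 = G ^ p * e0 x2 * (G ^ p)⁻¹ := h1
          conv_rhs => rw [h3]
          rw [inv_mul_cancel_right]
        have hp3 : p = 3 := by
          by_contra hp3
          apply hinn
          rw [← orderOf_dvd_iff_zpow_eq_one, T1.htN, hn, hd3] at hGp
          have h3 : (3 : ℤ) ∣ i * p := by
            refine dvd_trans ?_ hGp
            push_cast
            exact Dvd.intro _ rfl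
          have h3i : (3 : ℤ) ∣ i := by
            rcases Int.prime_three.dvd_or_dvd h3 with h | h
            · exact h
            · exfalso
              have h4 : 3 ∣ p := by exact_mod_cast h
              exact hp3 ((Nat.prime_dvd_prime_iff_eq Nat.prime_three hp.1).1 h4).symm
          have hmem : G ∈ e0.range := by
            rw [hG, T1.hS _ (Subgroup.zpow_mem_zpowers t i), hd3]
            obtain ⟨j, rfl⟩ := h3i
            refine ⟨j, ?_⟩
            show (t ^ 3) ^ j = t ^ (3 * j)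
            rw [zpow_mul]
            rfl
          obtain ⟨s, hs⟩ := hmem
          refine inner_of_conj (g := g) (s := s) ?_
          refine MulEquiv.ext fun y => ?_
          apply embT_injective (algebraMap F (AlgebraicClosure F)) hq hF
          show e0 ((g * a * g⁻¹) y) = e0 (s * y * s⁻¹)
          rw [hi, map_mul, map_mul, map_inv, hs]
        subst hp3
        refine ⟨x2, h32, hno2.pcent, fun h hh => ?_⟩
        -- `a` fixes a conjugate of `x2`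
        set y' := g (h⁻¹ x2) with hy'
        have hyo : orderOf y' = orderOf x2 := by
          rw [hy', MulEquiv.orderOf_eq, MulEquiv.orderOf_eq]
        have h1 : a (h⁻¹ x2) = h⁻¹ x2 := by
          have h3 := congrArg (h⁻¹ : MulAut _) hh
          rw [MulAut.mul_apply, MulAut.mul_apply, MulAut.inv_apply_self] at h3
          exact h3
        have h2 : (g * a * g⁻¹) y' = y' := by
          rw [hy', MulAut.mul_apply, MulAut.mul_apply, MulAut.inv_apply_self, h1]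
        have h3 := hi y'
        rw [h2] at h3
        have h4 : t ^ i = 1 := by
          apply hsec y' hyo
          conv_rhs => rw [h3]
          rw [inv_mul_cancel_right]
        -- then `a = 1`
        have h5 : g * a * g⁻¹ = 1 := by
          refine MulEquiv.ext fun y => ?_
          apply embT_injective (algebraMap F (AlgebraicClosure F)) hq hF
          show e0 ((g * a * g⁻¹) y) = e0 y
          rw [hi, hG, h4]
          group
        have h6 : a = 1 := by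
          have h7 : a = g⁻¹ * (g * a * g⁻¹) * g := by group
          rw [h7, h5]; group
        rw [h6, orderOf_one] at ha
        norm_num at ha
    · push Not at hfixex
      have hfix0 : ∀ g : MulAut ↥(twistedE6 F q), (g * a * g⁻¹) x0 ≠ x0 := by
        intro g hg
        apply hfixex g
        rw [hx1, map_pow, hg]
      have hpl : ¬ p ∣ orderOf x1 := by
        rw [hx1l]
        intro h
        exact hlp ((Nat.prime_dvd_prime_iff_eq hp.1 hl).1 h).symm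
      by_cases hpr : p = r'
      · subst hpr; exact ⟨x1, hpl, hown.pcent, hfixex⟩
      by_cases hpn : p ∣ n
      · -- `p ∣ e`, `p ≥ 5`
        have hp3 : p ≠ 3 := by rintro rfl; exact h3n hpn
        have hpe : p ∣ e := by
          rcases hpd' with h | h
          · exact absurd ((Nat.prime_dvd_prime_iff_eq hp.1 Nat.prime_three).1 (h.trans (Nat.gcd_dvd_left _ _))) hp3
          · exact h
        have hp5 : 5 ≤ p := by
          have h2 := hp.1.two_le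
          have h4 : p ≠ 4 := by rintro rfl; exact absurd hp.1 (by norm_num)
          (clear * - hp2 hp3 h2 h4; omega)
        have he5 : p ≤ e := Nat.le_of_dvd (by omega) hpe
        refine ⟨x1, hpl, ?_, hfixex⟩
        intro Q hQ hn
        refine linP (ι := chevE6.Idx) (k := F) (twistedE6 F q).subtype hp.1 hp2 hl hlp ?_ Q hQ
          (fun y _ h => Subgroup.subtype_injective _ (by rw [h, map_one])) x1 hn ?_ ?_
        · intro h
          rw [CharP.cast_eq_zero_iff F r'] at h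
          exact hpr ((Nat.prime_dvd_prime_iff_eq hrF.out hp.1).1 h).symm
        · intro y _
          rw [← hx1l, pow_orderOf_eq_one, one_mul, mul_one]
        · have h1 : Fintype.card chevE6.Idx = 78 := by decide
          rw [h1]
          omega
      · refine ⟨x0, ?_, (hnoN hpr hpn).pcent, hfix0⟩
        rw [hx0o]
        exact hpn

/-- **The row `²E₆(q)` of S4329.** -/
theorem row_twistedE6 {G : Type*} [Group G] {F : Type u} [Field F] [Fintype F] {q : ℕ} (hq : IsPrimePow q)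
    (hF : Fintype.card F = q ^ 2) (e : G ≃* ↥(twistedE6 F q)) (p : ℕ) [hp : Fact p.Prime] (hp2 : p ≠ 2) : Row p G :=
  (row_tw hq hF p hp2).congr e.symm

end Cfsg.Agent.H83.RowE6
end

private theorem dce_db18242c5433 : _root_.True := by
  try have : _root_.True := by simp only [_root_.Cfsg.Agent.H83.OwnE6.wt.eq_1]
  try have : _root_.True := by simp only [_root_.Cfsg.Agent.Nodes.LeviDec.VJ.congr_simp]
  exact _root_.True.intro
end

-- part: H719/BigG2_mg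
section
set_option linter.all false
open scoped Cfsg.Agent.FastGrp

-- part: H719/BigG2
section
/-!
# The row of G2: large fields (helper719)

Generated by a script.
-/

set_option autoImplicit false
set_option linter.unusedSectionVars false
set_option linter.unusedVariables false

namespace Cfsg.Agent.H719.RowG2

open Subgroup Cfsg Cfsg.Lie Cfsg.Lie.ChevalleyDatum
open Cfsg.Agent.ChevalleyStructure Cfsg.Agent.ChevalleyStructure.Elts Cfsg.Agent.ChevalleyStructure.CoxeterGeom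
  Cfsg.Agent.ChevalleyStructure.CoxeterGeomTypes
open Cfsg.Agent.Nodes.RGDChev
open Cfsg.Agent.H129.TorusChar
open Cfsg.Agent.H568 Cfsg.Agent.H568.FldExc Cfsg.Agent.H719

universe u

/-- primes dividing the order of the torus element -/
theorem ord1 {q P l : ℕ} (hP : (P : ℤ) = 1 + (q : ℤ) + (q : ℤ) ^ 2) (hl : l.Prime) (hlP : l ∣ red 3 P) :
    orderOf ((q : ℕ) : ZMod l) = 3 := by
  have : Fact l.Prime := ⟨hl⟩
  have hlP1 : l ∣ P := hlP.trans (red_dvd _ _)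
  refine Num.ord_3 ?_ ?_
  · have h0 : ((P : ℤ) : ZMod l) = 0 := by rw [Int.cast_natCast, ZMod.natCast_eq_zero_iff]; exact hlP1
    rw [hP] at h0
    push_cast at h0
    exact h0
  · intro h1
    have h2 : l ≤ 3 := Nat.le_of_dvd (by norm_num) h1
    have h3 : l = 3 := by
      clear hP hlP hlP1
      interval_cases l <;> first | omega | (exfalso; revert hl; norm_num)
    clear this
    rcases h3 with rfl
    · refine not_dvd_red (by norm_num) (not_dvd_of_zmod hP ?_) hlP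
      push_cast
      generalize (q : ZMod (3 ^ 2)) = x
      revert x
      decide +kernel

theorem div1 {q P l : ℕ} (hP : (P : ℤ) = 1 + (q : ℤ) + (q : ℤ) ^ 2) (hl : l.Prime) (hl10 : 10 ≤ l)
    (h : orderOf ((q : ℕ) : ZMod l) = 3) : l ∣ red 3 P := by
  have : Fact l.Prime := ⟨hl⟩
  refine dvd_red (by norm_num) hl (by omega) ?_
  rw [← ZMod.natCast_eq_zero_iff, ← Int.cast_natCast (R := ZMod l), hP]
  push_cast
  exact Num.phi_of_ord_3 h

theorem div2 {q P l : ℕ} (hP : (P : ℤ) = 1 - (q : ℤ) + (q : ℤ) ^ 2) (hl : l.Prime) (hl10 : 10 ≤ l)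
    (h : orderOf ((q : ℕ) : ZMod l) = 6) : l ∣ red 3 P := by
  have : Fact l.Prime := ⟨hl⟩
  refine dvd_red (by norm_num) hl (by omega) ?_
  rw [← ZMod.natCast_eq_zero_iff, ← Int.cast_natCast (R := ZMod l), hP]
  push_cast
  exact Num.phi_of_ord_6 h

theorem co {q N1 N2 p : ℕ} (hN1 : (N1 : ℤ) = 1 + (q : ℤ) + (q : ℤ) ^ 2) (hN2 : (N2 : ℤ) = 1 - (q : ℤ) + (q : ℤ) ^ 2)
    (hp : p.Prime) (hp2 : p ≠ 2) (h1 : p ∣ N1) (h2 : p ∣ N2) : False := by
  have h3 : (p : ℤ) ∣ 2 := by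
    have h4 : (1 - (q : ℤ)) * (N1 : ℤ) + (1 + (q : ℤ)) * (N2 : ℤ) = 2 := by rw [hN1, hN2]; ring
    rw [← h4]
    exact dvd_add (Dvd.dvd.mul_left (Int.natCast_dvd_natCast.2 h1) _) (Dvd.dvd.mul_left (Int.natCast_dvd_natCast.2 h2) _)
  have h4 : p ∣ 2 := by exact_mod_cast h3
  have h5 : p ≤ 2 := Nat.le_of_dvd (by norm_num) h4
  clear hN1 hN2 h1 h2 h3
  interval_cases p <;> first | omega | (revert hp; norm_num)

theorem ex {q : ℕ} (hq : 7 ≤ q) : ∃ P1 P2 N1 N2 : ℕ, (P1 : ℤ) = 1 + (q : ℤ) + (q : ℤ) ^ 2 ∧ (P2 : ℤ) = 1 - (q : ℤ) + (q : ℤ) ^ 2 ∧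
    (N1 : ℤ) = 1 + (q : ℤ) + (q : ℤ) ^ 2 ∧ (N2 : ℤ) = 1 - (q : ℤ) + (q : ℤ) ^ 2 ∧ 14 < red 3 P1 ∧ 14 < red 3 P2 := by
  obtain ⟨t, rfl⟩ := Nat.exists_eq_add_of_le' hq
  have eP1 : 1 + ((t + 7 : ℕ) : ℤ) + ((t + 7 : ℕ) : ℤ) ^ 2 = ((57 + 15 * t + t ^ 2 : ℕ) : ℤ) := by push_cast; ring
  have eP2 : 1 - ((t + 7 : ℕ) : ℤ) + ((t + 7 : ℕ) : ℤ) ^ 2 = ((43 + 13 * t + t ^ 2 : ℕ) : ℤ) := by push_cast; ring
  have eN1 : 1 + ((t + 7 : ℕ) : ℤ) + ((t + 7 : ℕ) : ℤ) ^ 2 = ((57 + 15 * t + t ^ 2 : ℕ) : ℤ) := by push_cast; ring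
  have eN2 : 1 - ((t + 7 : ℕ) : ℤ) + ((t + 7 : ℕ) : ℤ) ^ 2 = ((43 + 13 * t + t ^ 2 : ℕ) : ℤ) := by push_cast; ring
  refine ⟨_, _, _, _, eP1.symm, eP2.symm, eN1.symm, eN2.symm, ?_, ?_⟩
  · have h := le_mul_red (b := 3) (by norm_num) (57 + 15 * t + t ^ 2)
    have h2 : 0 ≤ 15 * t + t ^ 2 := Nat.zero_le _
    generalize red 3 _ = s at h ⊢
    omega
  · have h := le_mul_red (b := 3) (by norm_num) (43 + 13 * t + t ^ 2)
    have h2 : 0 ≤ 13 * t + t ^ 2 := Nat.zero_le _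
    generalize red 3 _ = s at h ⊢
    omega

theorem hcen_dim : chevG2.rank + chevG2.nroots = 14 := rfl

/-- **The row for large fields.** -/
theorem row_big {F : Type u} [Field F] [Fintype F] [IsSimpleGroup ↥(chevG2.group F)] {r e : ℕ} [Fact r.Prime] [CharP F r]
    (hq : Fintype.card F = r ^ e) (he : 0 < e) (hqm : 7 ≤ Fintype.card F) {p : ℕ} [hpf : Fact p.Prime] (hp2 : p ≠ 2) :
    Row p ↥(chevG2.group F) := by
  have hp : IsType chevG2 2 CoxeterMatrix.G₂ := by simp [IsType, typeList]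
  have hna : ¬ IsMulCommutative ↥(chevG2.group F) := (Cfsg.Agent.S1055.result (ne_one (by omega))).2
  obtain ⟨P1, P2, N1, N2, hP1, hP2, hN1, hN2, hd1, hd2⟩ := ex hqm
  have hT1 := hasT_G2_3 (F := F) rfl hN1 hP1
  have hT2 := hasT_G2_6 (F := F) rfl hN2 hP2
  have hrq : r ∣ Fintype.card F := hq ▸ dvd_pow_self r he.ne'
  have hrN : ¬ r ∣ N1 := by
    intro h1
    have h2 : (Fintype.card F).Coprime N1 := coprime_of_eq (a := 1 + (Fintype.card F : ℤ)) (b := 1) (by rw [hN1]; ring)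
    have h3 : r ∣ 1 := h2 ▸ Nat.dvd_gcd hrq h1
    exact (Fact.out : r.Prime).one_lt.ne' (Nat.dvd_one.1 h3)
  have hco : p ∣ N1 → p ∣ N2 → False := fun h1 h2 => co hN1 hN2 hpf.1 hp2 h1 h2
  rw [← hcen_dim] at hd1 hd2
  have hown : ∀ {l : ℕ}, l.Prime → ∀ {x : ↥(chevG2.group F)}, orderOf x = l →
      (∀ y : ↥(chevG2.group F), orderOf y = r → x * y ≠ y * x) → (∀ k, l ∣ Nat.card F ^ k - 1 → 3 ∣ k) → NoNorm r x :=
    fun hl _ hx hcen hord => noNorm_G2 r hl hx hcen (Or.inl rfl) hord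
  have hq1 : 1 ≤ Fintype.card F := by omega
  have hc : p.Coprime 1 ∨ ∀ a : F, ∃ b : F, b ^ 1 = a := Or.inl (Nat.coprime_one_right p)
  refine row_gen hp hna hq he invC_G2 (by norm_num) (AutInv.inv_G2 _) ordF_G2 hp2 hc ?_ ?_
  · intro _ _
    obtain ⟨l1, hl1, hlP⟩ := Nat.exists_prime_and_dvd (n := red 3 P1) (by rw [hcen_dim] at hd1; omega)
    have hord : ∀ k, l1 ∣ Nat.card F ^ k - 1 → 3 ∣ k := by
      intro k hk
      rw [Nat.card_eq_fintype_card, Cfsg.Agent.Lib.Zsigmondy.dvd_pow_sub_one_iff hq1, ord1 hP1 hl1 hlP] at hk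
      exact hk
    exact Or.inr (inner_case hT1 hT2 hrN hco hd1 hd2 hl1 hlP hord hown)
  · intro hpe
    have he3 : 3 ≤ e := by
      have h1 := Nat.le_of_dvd he hpe
      have h2 := hpf.1.two_le
      omega
    obtain ⟨l1, hl1, hm1, hl10, hlr1, ho1⟩ := exists_prim (r := r) (e := e) (h := 3) Fact.out he3 (by norm_num)
    obtain ⟨l2, hl2, hm2, hl20, hlr2, ho2⟩ := exists_prim (r := r) (e := e) (h := 6) Fact.out he3 (by norm_num)
    rw [← hq] at ho1 ho2
    have hL1 : PrimL r e 1 [2, 6] l1 := ⟨hl1, hlr1, Nat.coprime_one_right _, 3, fun m hm => (hm1 m).1 hm, by decide⟩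
    have hL2 : PrimL r e 1 [2, 6] l2 := ⟨hl2, hlr2, Nat.coprime_one_right _, 6, fun m hm => (hm2 m).1 hm, by decide⟩
    refine field_case hT1 hT2 hrN hco hd1 hd2 hL1 (div1 hP1 hl1 hl10 ho1) hL2 (div2 hP2 hl2 hl20 ho2) ?_ hown
    intro k hk
    rw [Nat.card_eq_fintype_card, Cfsg.Agent.Lib.Zsigmondy.dvd_pow_sub_one_iff hq1, ho1] at hk
    exact hk

end Cfsg.Agent.H719.RowG2
end

-- part: H719/BigF4
section
/-!
# The row of F4: large fields (helper719)

Generated by a script.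
-/

set_option autoImplicit false
set_option linter.unusedSectionVars false
set_option linter.unusedVariables false

namespace Cfsg.Agent.H719.RowF4

open Subgroup Cfsg Cfsg.Lie Cfsg.Lie.ChevalleyDatum
open Cfsg.Agent.ChevalleyStructure Cfsg.Agent.ChevalleyStructure.Elts Cfsg.Agent.ChevalleyStructure.CoxeterGeom
  Cfsg.Agent.ChevalleyStructure.CoxeterGeomTypes
open Cfsg.Agent.Nodes.RGDChev
open Cfsg.Agent.H129.TorusChar
open Cfsg.Agent.H568 Cfsg.Agent.H568.FldExc Cfsg.Agent.H719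

universe u

/-- primes dividing the order of the torus element -/
theorem ord1 {q P l : ℕ} (hP : (P : ℤ) = 1 - (q : ℤ) ^ 2 + (q : ℤ) ^ 4) (hl : l.Prime) (hlP : l ∣ red 2 P) :
    orderOf ((q : ℕ) : ZMod l) = 12 := by
  have : Fact l.Prime := ⟨hl⟩
  have hlP1 : l ∣ P := hlP.trans (red_dvd _ _)
  refine Num.ord_12 ?_ ?_
  · have h0 : ((P : ℤ) : ZMod l) = 0 := by rw [Int.cast_natCast, ZMod.natCast_eq_zero_iff]; exact hlP1
    rw [hP] at h0
    push_cast at h0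
    exact h0
  · intro h1
    have h2 : l ≤ 12 := Nat.le_of_dvd (by norm_num) h1
    have h3 : l = 2 ∨ l = 3 := by
      clear hP hlP hlP1
      interval_cases l <;> first | omega | (exfalso; revert hl; norm_num)
    clear this
    rcases h3 with rfl | rfl
    · refine not_dvd_of_zmod hP ?_ hlP1
      push_cast
      generalize (q : ZMod 2) = x
      revert x
      decide +kernel
    · refine not_dvd_of_zmod hP ?_ hlP1
      push_cast
      generalize (q : ZMod 3) = x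
      revert x
      decide +kernel

theorem div1 {q P l : ℕ} (hP : (P : ℤ) = 1 - (q : ℤ) ^ 2 + (q : ℤ) ^ 4) (hl : l.Prime) (hl10 : 10 ≤ l)
    (h : orderOf ((q : ℕ) : ZMod l) = 12) : l ∣ red 2 P := by
  have : Fact l.Prime := ⟨hl⟩
  refine dvd_red (by norm_num) hl (by omega) ?_
  rw [← ZMod.natCast_eq_zero_iff, ← Int.cast_natCast (R := ZMod l), hP]
  push_cast
  exact Num.phi_of_ord_12 h

theorem div2 {q P l : ℕ} (hP : (P : ℤ) = 1 + (q : ℤ) ^ 4) (hl : l.Prime) (hl10 : 10 ≤ l)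
    (h : orderOf ((q : ℕ) : ZMod l) = 8) : l ∣ red 2 P := by
  have : Fact l.Prime := ⟨hl⟩
  refine dvd_red (by norm_num) hl (by omega) ?_
  rw [← ZMod.natCast_eq_zero_iff, ← Int.cast_natCast (R := ZMod l), hP]
  push_cast
  exact Num.phi_of_ord_8 h

theorem co {q N1 N2 p : ℕ} (hN1 : (N1 : ℤ) = 1 - (q : ℤ) ^ 2 + (q : ℤ) ^ 4) (hN2 : (N2 : ℤ) = 1 + (q : ℤ) ^ 4)
    (hp : p.Prime) (hp2 : p ≠ 2) (h1 : p ∣ N1) (h2 : p ∣ N2) : False := by
  have h3 : (p : ℤ) ∣ 1 := by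
    have h4 : ((q : ℤ) ^ 2) * (N1 : ℤ) + (1 - (q : ℤ) ^ 2) * (N2 : ℤ) = 1 := by rw [hN1, hN2]; ring
    rw [← h4]
    exact dvd_add (Dvd.dvd.mul_left (Int.natCast_dvd_natCast.2 h1) _) (Dvd.dvd.mul_left (Int.natCast_dvd_natCast.2 h2) _)
  have h4 : p ∣ 1 := by exact_mod_cast h3
  have h5 : p ≤ 1 := Nat.le_of_dvd (by norm_num) h4
  clear hN1 hN2 h1 h2 h3
  interval_cases p <;> first | omega | (revert hp; norm_num)

theorem ex {q : ℕ} (hq : 4 ≤ q) : ∃ P1 P2 N1 N2 : ℕ, (P1 : ℤ) = 1 - (q : ℤ) ^ 2 + (q : ℤ) ^ 4 ∧ (P2 : ℤ) = 1 + (q : ℤ) ^ 4 ∧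
    (N1 : ℤ) = 1 - (q : ℤ) ^ 2 + (q : ℤ) ^ 4 ∧ (N2 : ℤ) = 1 + (q : ℤ) ^ 4 ∧ 52 < red 2 P1 ∧ 52 < red 2 P2 := by
  obtain ⟨t, rfl⟩ := Nat.exists_eq_add_of_le' hq
  have eP1 : 1 - ((t + 4 : ℕ) : ℤ) ^ 2 + ((t + 4 : ℕ) : ℤ) ^ 4 = ((241 + 248 * t + 95 * t ^ 2 + 16 * t ^ 3 + t ^ 4 : ℕ) : ℤ) := by push_cast; ring
  have eP2 : 1 + ((t + 4 : ℕ) : ℤ) ^ 4 = ((257 + 256 * t + 96 * t ^ 2 + 16 * t ^ 3 + t ^ 4 : ℕ) : ℤ) := by push_cast; ring
  have eN1 : 1 - ((t + 4 : ℕ) : ℤ) ^ 2 + ((t + 4 : ℕ) : ℤ) ^ 4 = ((241 + 248 * t + 95 * t ^ 2 + 16 * t ^ 3 + t ^ 4 : ℕ) : ℤ) := by push_cast; ring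
  have eN2 : 1 + ((t + 4 : ℕ) : ℤ) ^ 4 = ((257 + 256 * t + 96 * t ^ 2 + 16 * t ^ 3 + t ^ 4 : ℕ) : ℤ) := by push_cast; ring
  refine ⟨_, _, _, _, eP1.symm, eP2.symm, eN1.symm, eN2.symm, ?_, ?_⟩
  · have h := le_mul_red (b := 2) (by norm_num) (241 + 248 * t + 95 * t ^ 2 + 16 * t ^ 3 + t ^ 4)
    have h2 : 0 ≤ 248 * t + 95 * t ^ 2 + 16 * t ^ 3 + t ^ 4 := Nat.zero_le _
    generalize red 2 _ = s at h ⊢
    omega
  · have h := le_mul_red (b := 2) (by norm_num) (257 + 256 * t + 96 * t ^ 2 + 16 * t ^ 3 + t ^ 4)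
    have h2 : 0 ≤ 256 * t + 96 * t ^ 2 + 16 * t ^ 3 + t ^ 4 := Nat.zero_le _
    generalize red 2 _ = s at h ⊢
    omega

theorem hcen_dim : chevF4.rank + chevF4.nroots = 52 := rfl

/-- **The row for large fields.** -/
theorem row_big {F : Type u} [Field F] [Fintype F] [IsSimpleGroup ↥(chevF4.group F)] {r e : ℕ} [Fact r.Prime] [CharP F r]
    (hq : Fintype.card F = r ^ e) (he : 0 < e) (hqm : 4 ≤ Fintype.card F) {p : ℕ} [hpf : Fact p.Prime] (hp2 : p ≠ 2) :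
    Row p ↥(chevF4.group F) := by
  have hp : IsType chevF4 4 CoxeterMatrix.F₄ := by simp [IsType, typeList]
  have hna : ¬ IsMulCommutative ↥(chevF4.group F) := (Cfsg.Agent.S1054.result chevF4 (by simp)).2
  obtain ⟨P1, P2, N1, N2, hP1, hP2, hN1, hN2, hd1, hd2⟩ := ex hqm
  have hT1 := hasT_F4_12 (F := F) rfl hN1 hP1
  have hT2 := hasT_F4_8 (F := F) rfl hN2 hP2
  have hrq : r ∣ Fintype.card F := hq ▸ dvd_pow_self r he.ne'
  have hrN : ¬ r ∣ N1 := by
    intro h1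
    have h2 : (Fintype.card F).Coprime N1 := coprime_of_eq (a := -(Fintype.card F : ℤ) + (Fintype.card F : ℤ) ^ 3) (b := 1) (by rw [hN1]; ring)
    have h3 : r ∣ 1 := h2 ▸ Nat.dvd_gcd hrq h1
    exact (Fact.out : r.Prime).one_lt.ne' (Nat.dvd_one.1 h3)
  have hco : p ∣ N1 → p ∣ N2 → False := fun h1 h2 => co hN1 hN2 hpf.1 hp2 h1 h2
  rw [← hcen_dim] at hd1 hd2
  have hown : ∀ {l : ℕ}, l.Prime → ∀ {x : ↥(chevF4.group F)}, orderOf x = l →
      (∀ y : ↥(chevF4.group F), orderOf y = r → x * y ≠ y * x) → (∀ k, l ∣ Nat.card F ^ k - 1 → 12 ∣ k) → NoNorm r x :=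
    fun hl _ hx hcen hord => noNorm_F4 r hl hx hcen (Or.inr rfl) hord
  have hq1 : 1 ≤ Fintype.card F := by omega
  have hc : p.Coprime 1 ∨ ∀ a : F, ∃ b : F, b ^ 1 = a := Or.inl (Nat.coprime_one_right p)
  refine row_gen hp hna hq he invC_F4 (by norm_num) (AutInv.inv_F4 _) ordF_F4 hp2 hc ?_ ?_
  · intro _ _
    obtain ⟨l1, hl1, hlP⟩ := Nat.exists_prime_and_dvd (n := red 2 P1) (by rw [hcen_dim] at hd1; omega)
    have hord : ∀ k, l1 ∣ Nat.card F ^ k - 1 → 12 ∣ k := by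
      intro k hk
      rw [Nat.card_eq_fintype_card, Cfsg.Agent.Lib.Zsigmondy.dvd_pow_sub_one_iff hq1, ord1 hP1 hl1 hlP] at hk
      exact hk
    exact Or.inr (inner_case hT1 hT2 hrN hco hd1 hd2 hl1 hlP hord hown)
  · intro hpe
    have he3 : 3 ≤ e := by
      have h1 := Nat.le_of_dvd he hpe
      have h2 := hpf.1.two_le
      omega
    obtain ⟨l1, hl1, hm1, hl10, hlr1, ho1⟩ := exists_prim (r := r) (e := e) (h := 12) Fact.out he3 (by norm_num)
    obtain ⟨l2, hl2, hm2, hl20, hlr2, ho2⟩ := exists_prim (r := r) (e := e) (h := 8) Fact.out he3 (by norm_num)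
    rw [← hq] at ho1 ho2
    have hL1 : PrimL r e 1 [2, 6, 8, 12] l1 := ⟨hl1, hlr1, Nat.coprime_one_right _, 12, fun m hm => (hm1 m).1 hm, by decide⟩
    have hL2 : PrimL r e 1 [2, 6, 8, 12] l2 := ⟨hl2, hlr2, Nat.coprime_one_right _, 8, fun m hm => (hm2 m).1 hm, by decide⟩
    refine field_case hT1 hT2 hrN hco hd1 hd2 hL1 (div1 hP1 hl1 hl10 ho1) hL2 (div2 hP2 hl2 hl20 ho2) ?_ hown
    intro k hk
    rw [Nat.card_eq_fintype_card, Cfsg.Agent.Lib.Zsigmondy.dvd_pow_sub_one_iff hq1, ho1] at hk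
    exact hk

end Cfsg.Agent.H719.RowF4
end
end

-- part: H568/ESixThree
section
prune_inst 0x10000140040000000000000000001c223600019000280000000000400c8009000000012020a00002000202800000004811100040020000000a000000000000000008040080080008800006000084000000000000000000000000000000000000000000000
set_option linter.all false
open scoped Cfsg.Agent.FastGrp

-- part: H568/ESixThreeA
section
/-!
# Traces of torus elements of order three in E6 (helper568)

* `trace_TT` : the trace of an element of the torus of `D.group k` is `rank + ∑ cX`;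
* `trace_nine`, `trace_twelve` : the traces `-3` and `6` of the elements `t` with `cX t y = ω ^ Gq B q y`.
-/

set_option autoImplicit false
set_option linter.unusedSectionVars false

namespace Cfsg.Agent.H568.ESixThree

open CoxeterSystem Cfsg Cfsg.Lie Cfsg.Lie.ChevalleyDatum
open Cfsg.Agent.ChevalleyStructure Cfsg.Agent.ChevalleyStructure.Elts Cfsg.Agent.ChevalleyStructure.CoxeterGeom
  Cfsg.Agent.ChevalleyStructure.CoxeterGeomTypes Cfsg.Agent.ChevalleyStructure.NPerm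
open Cfsg.Agent.Tits.Roots Cfsg.Agent.Tits.Core Cfsg.Agent.Nodes Cfsg.Agent.Nodes.Reps Cfsg.Agent.Nodes.BNOf
  Cfsg.Agent.Nodes.RGDChev
open Cfsg.Agent.KFacts.RgdChevCoord Cfsg.Agent.GpExc.Field Cfsg.Agent.BpExc.Fr Cfsg.Agent.BpExc.LangFr
  Cfsg.Agent.BpExc.TowChev Cfsg.Agent.BpExc
open Cfsg.Agent.H129 Cfsg.Agent.H129.TorusChar Cfsg.Agent.H129.TorusCent Cfsg.Agent.H129.TorusTw
  Cfsg.Agent.H129.TorusMain Cfsg.Agent.H129.TorusUntw

universe u

section Trace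

variable {D : ChevalleyDatum} {l : ℕ} {M : CoxeterMatrix (Fin l)} (hp : IsType D l M) {k : Type u} [Field k]

/-- The trace of an element of the torus. -/
theorem trace_TT {t : ↥(D.group k)} (ht : t ∈ TT D k) :
    Matrix.trace ((t : GL D.Idx k) : Matrix D.Idx D.Idx k) =
      (D.rank : k) + ∑ s : Fin D.nroots, cX hp t (vec D l s) := by
  have ht' := ht
  rw [Subgroup.mem_subgroupOf] at ht
  obtain ⟨c, hc, e, hact⟩ := Tor.exists_c hp ht
  have key : ∀ s, s < D.nroots → ch hp (vec D l s) t = ∏ i ∈ Finset.range D.rank, c i ^ D.cartan i s := by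
    intro s hs
    apply ch_eq hp hs ht'
    apply Subtype.ext
    rw [Subgroup.coe_mul, Subgroup.coe_mul, Subgroup.coe_inv, coe_xc hp hs, coe_xc hp hs, hact s hs, mul_one]
  rw [e, Matrix.trace_diagonal, Fintype.sum_sum_type]
  simp only [Sum.elim_inl, Sum.elim_inr]
  rw [Finset.sum_const, Finset.card_univ, Fintype.card_fin, nsmul_eq_mul, mul_one]
  congr 1
  refine Finset.sum_congr rfl fun s _ => ?_
  rw [cX_vec hp ht' s.2, key s s.2]

end Trace

/-- `Gq` modulo `3`. -/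
theorem gq_mod {l : ℕ} (B : Fin l → Fin l → ℤ) {q : ℤ} (hq : (3 : ℤ) ∣ q - 1) (x : Fin l → ℤ) :
    (3 : ℤ) ∣ Gq B q x - Gq B 1 x := by
  unfold Gq
  rw [← Finset.sum_sub_distrib]
  refine Finset.dvd_sum fun j _ => ?_
  rw [← mul_sub, ← Finset.sum_sub_distrib]
  refine Dvd.dvd.mul_left (Finset.dvd_sum fun i _ => ?_) _
  rw [← mul_sub, one_pow]
  refine Dvd.dvd.mul_left (hq.trans ?_) _
  exact sub_one_dvd_pow_sub_one _ _

theorem zpow_mod {k : Type u} [Field k] {ω : k} (hω : ω ^ 3 = 1) {g g' : ℤ} (h : (3 : ℤ) ∣ g - g') : ω ^ g = ω ^ g' := by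
  have h0 : ω ≠ 0 := by
    rintro rfl
    rw [zero_pow (by norm_num)] at hω
    exact zero_ne_one hω
  obtain ⟨c, hc⟩ := h
  have e : g = g' + 3 * c := by omega
  rw [e, zpow_add₀ h0, zpow_mul]
  have h3 : ω ^ (3 : ℤ) = 1 := by exact_mod_cast hω
  rw [h3, one_zpow, mul_one]

/-- The sum of the powers of a primitive cube root of unity. -/
theorem sum_omega {k : Type u} [Field k] {ω : k} (hω : ω ^ 3 = 1) (hω1 : ω ≠ 1) {ι : Type*} [Fintype ι] [DecidableEq ι]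
    (g : ι → ℤ) {a b : ℕ} (h0 : (Finset.univ.filter fun s => g s % 3 = 0).card = a)
    (h1 : (Finset.univ.filter fun s => g s % 3 = 1).card = b) (h2 : (Finset.univ.filter fun s => g s % 3 = 2).card = b) :
    ∑ s, ω ^ g s = (a : k) - b := by
  have hsum : ω ^ 2 + ω + 1 = 0 := by
    have h3 : (ω - 1) * (ω ^ 2 + ω + 1) = 0 := by
      have : (ω - 1) * (ω ^ 2 + ω + 1) = ω ^ 3 - 1 := by ring
      rw [this, hω, sub_self]
    exact (mul_eq_zero.1 h3).resolve_left (sub_ne_zero.2 hω1)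
  have key : ∀ s, ω ^ g s = (if g s % 3 = 0 then 1 else 0) + (if g s % 3 = 1 then ω else 0) +
      (if g s % 3 = 2 then ω ^ 2 else 0) := by
    intro s
    have h3 : (3 : ℤ) ∣ g s - g s % 3 := Int.dvd_self_sub_emod
    rw [zpow_mod hω h3]
    have h4 := Int.emod_nonneg (g s) (by norm_num : (3 : ℤ) ≠ 0)
    have h5 := Int.emod_lt_of_pos (g s) (by norm_num : (0 : ℤ) < 3)
    have h6 : g s % 3 = 0 ∨ g s % 3 = 1 ∨ g s % 3 = 2 := by (clear * -; omega)
    rcases h6 with h | h | h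
    · rw [h]; simp
    · rw [h]; simp
    · rw [h]
      norm_num
  rw [Finset.sum_congr rfl fun s _ => key s, Finset.sum_add_distrib, Finset.sum_add_distrib,
    ← Finset.sum_filter, ← Finset.sum_filter, ← Finset.sum_filter, Finset.sum_const, Finset.sum_const,
    Finset.sum_const, h0, h1, h2, nsmul_eq_mul, nsmul_eq_mul, nsmul_eq_mul]
  linear_combination (b : k) * hsum

section Six

variable {k : Type u} [Field k]

set_option maxRecDepth 10000 in
theorem trace_nine {M : CoxeterMatrix (Fin 6)} (hp : IsType chevE6 6 M) {t : ↥(chevE6.group k)} (ht : t ∈ TT chevE6 k)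
    {ω : k} (hω : ω ^ 3 = 1) (hω1 : ω ≠ 1) {q : ℤ} (hq : (3 : ℤ) ∣ q - 1)
    (h : ∀ y, cX hp t y = ω ^ Gq H719.TE6_9.B q y) :
    Matrix.trace ((t : GL chevE6.Idx k) : Matrix chevE6.Idx chevE6.Idx k) = -3 := by
  rw [trace_TT hp ht, Finset.sum_congr rfl fun s _ => (h _).trans (zpow_mod hω (gq_mod _ hq _)),
    sum_omega hω hω1 (fun s : Fin chevE6.nroots => Gq H719.TE6_9.B 1 (vec chevE6 6 s)) (a := 18) (b := 27)
      (by decide +kernel) (by decide +kernel) (by decide +kernel)]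
  have hr : chevE6.rank = 6 := hp.rank_eq
  rw [hr]
  norm_num

set_option maxRecDepth 10000 in
theorem trace_twelve {M : CoxeterMatrix (Fin 6)} (hp : IsType chevE6 6 M) {t : ↥(chevE6.group k)}
    (ht : t ∈ TT chevE6 k) {ω : k} (hω : ω ^ 3 = 1) (hω1 : ω ≠ 1) {q : ℤ} (hq : (3 : ℤ) ∣ q - 1)
    (h : ∀ y, cX hp t y = ω ^ Gq H719.TE6_12.B q y) :
    Matrix.trace ((t : GL chevE6.Idx k) : Matrix chevE6.Idx chevE6.Idx k) = 6 := by
  rw [trace_TT hp ht, Finset.sum_congr rfl fun s _ => (h _).trans (zpow_mod hω (gq_mod _ hq _)),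
    sum_omega hω hω1 (fun s : Fin chevE6.nroots => Gq H719.TE6_12.B 1 (vec chevE6 6 s)) (a := 24) (b := 24)
      (by decide +kernel) (by decide +kernel) (by decide +kernel)]
  have hr : chevE6.rank = 6 := hp.rank_eq
  rw [hr]
  norm_num

end Six

end Cfsg.Agent.H568.ESixThree
end

-- part: H568/ESixThreeB
section
/-!
# Elements of E6(q), q = 1 mod 3, normalising no 3-subgroup (helper568)

* `exists_tor'` : `Tor` from tabulated data;
* `pow_div_eq_one` : everything commuting with `1 ≠ s ∈ ⟨x⟩` in `chevE6.group F` is killed by `N / 3`;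
* `noNorm_tor` : `NoNorm 3 x`.
-/

set_option autoImplicit false
set_option linter.unusedSectionVars false

namespace Cfsg.Agent.H568.ESixThree

open CoxeterSystem Cfsg Cfsg.Lie Cfsg.Lie.ChevalleyDatum
open Cfsg.Agent.ChevalleyStructure Cfsg.Agent.ChevalleyStructure.Elts Cfsg.Agent.ChevalleyStructure.CoxeterGeom
  Cfsg.Agent.ChevalleyStructure.CoxeterGeomTypes Cfsg.Agent.ChevalleyStructure.NPerm
open Cfsg.Agent.Tits.Roots Cfsg.Agent.Tits.Core Cfsg.Agent.Nodes Cfsg.Agent.Nodes.Reps Cfsg.Agent.Nodes.BNOf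
  Cfsg.Agent.Nodes.RGDChev
open Cfsg.Agent.KFacts.RgdChevCoord Cfsg.Agent.GpExc.Field Cfsg.Agent.BpExc.Fr Cfsg.Agent.BpExc.LangFr
  Cfsg.Agent.BpExc.TowChev Cfsg.Agent.BpExc
open Cfsg.Agent.H129.TorusChar Cfsg.Agent.H129.TorusCent Cfsg.Agent.H129.TorusTw Cfsg.Agent.H129.TorusMain
  Cfsg.Agent.H129.TorusUntw Cfsg.Agent.H129.WData Cfsg.Agent.H129.StCover Cfsg.Agent.H129.UntwTwo
  Cfsg.Agent.H719.RowTorus
open Cfsg.Agent.ChevalleyStructure.StTorus (eval_eq_one)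

universe u

section Gen

variable {D : ChevalleyDatum} {l : ℕ} {M : CoxeterMatrix (Fin l)} (hp : IsType D l M) {k : Type u} [Field k]
  {W : Type*} [Group W] (cs : CoxeterSystem M W) {p e : ℕ} [Fact p.Prime] [CharP k p]
  {F : Type u} [Field F] [Fintype F] (f : F →+* k)

/-- `Tor` from tabulated data. -/
theorem exists_tor' [IsAlgClosed k] [Finite W] (hl : 0 < l) (hk : LocFin k)
    (he : 0 < e) (hq : Fintype.card F = p ^ e) {d' : ℕ}
    {B' : Fin l → Fin l → ℤ} (hB : InvC D l d' B') (hd' : d' ≠ 0) {A : Mat l}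
    (hA : ∀ i j, A i j = cartanOf D l i j) {L : List (Fin l × Mat l)} (hL : ChainOK A L) {V B : Mat l}
    {c : Fin l → ℤ} (hcyc : CycOK l (hd L) V B c) {m : ℕ} {R : Fin m → Fin l → ℤ} {prv dep : ℕ → ℕ}
    (hR : RootOK D l (hd L) R prv dep) {N N0 : ℕ} (hfN : fN c ((p ^ e : ℕ) : ℤ) = N) (hqN : (p ^ e).Coprime N)
    (hN0 : N0 ∣ N)
    (hgood : ∀ r : ℕ, r.Prime → r ∣ N0 → ¬ r ∣ Nat.card W ∧ ¬ r ∣ d' ∧ ∀ s, ¬ (r : ℤ) ∣ Gq B ((p ^ e : ℕ) : ℤ) (R s)) :
    ∃ (n z t : ↥(D.group k)) (u : k) (x : ↥(D.group F)),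
      Tor hp cs f p e (hN := nsys_of_locFin hp cs hk p) (cs.wordProd (L.map Prod.fst)) B N N0 n z t u x := by
  have hpF : p.Prime := Fact.out
  have hpN : ¬ p ∣ N := fun h1 => by
    have h2 : p ∣ Nat.gcd (p ^ e) N := Nat.dvd_gcd (dvd_pow_self p he.ne') h1
    rw [hqN] at h2
    exact hpF.one_lt.ne' (Nat.dvd_one.1 h2)
  have hlin := lin_refl hp cs hA hL
  have hc := cyc_of hlin hcyc
  exact exists_tor hp cs f hl hk he hq hB hd' _ hc hfN hpN hN0
    (fun r hr hrN => ⟨(hgood r hr hrN).1, (hgood r hr hrN).2.1, fun a ha =>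
      not_dvd_G hp cs hlin hc hR hfN hr (hrN.trans hN0) hqN (hgood r hr hrN).2.2 ha⟩)

variable {hp cs f}

/-- Everything commuting with `1 ≠ s ∈ ⟨x⟩` is killed by `N / d`. -/
theorem pow_div_eq_one [IsAlgClosed k] (hq : Fintype.card F = p ^ e) {d : ℕ} (hd : d.Prime)
    {B' : Fin l → Fin l → ℤ} (hB : InvC D l d B') (hdq : d ∣ p ^ e - 1) (hpd : ¬ p ∣ d)
    (hPhi : ∃ Φ : (Fin D.rank → kˣ) →* D.SteinbergGroup k, IsPhi Φ)
    {kv : Fin D.rank → ℤ} {i0 : Fin D.rank} (hk0 : kv i0 = 1)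
    (hkv : ∀ s < D.nroots, (d : ℤ) ∣ ∑ i : Fin D.rank, kv i * D.cartan i s)
    {Bc : Fin D.rank → Fin D.rank → ℤ}
    (hBc : ∀ i m : Fin D.rank, ∑ j : Fin D.rank, D.cartan i (D.simple j) * Bc j m = if i = m then (d : ℤ) else 0)
    {hN : NSys M (TT D k) (nc hp k)} {w : W} {B : Fin l → Fin l → ℤ} {N N0 : ℕ} {n z t : ↥(D.group k)} {u : k}
    {x : ↥(D.group F)} (hT : Tor hp cs f p e (hN := hN) w B N N0 n z t u x) (hdN : d ∣ N)
    {s : ↥(D.group F)} (hs : s ∈ Subgroup.zpowers x) (hs1 : s ≠ 1) {y : ↥(D.group F)} (hy : y * s = s * y) :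
    y ^ (N / d) = 1 := by
  obtain ⟨Φ, hΦ⟩ := hPhi
  have hpF : p.Prime := Fact.out
  -- the centre
  have hdk : ((d : ℕ) : k) ≠ 0 := by
    rw [Ne, CharP.cast_eq_zero_iff k p]
    exact hpd
  have : NeZero ((d : ℕ) : k) := ⟨hdk⟩
  have : NeZero d := ⟨hd.ne_zero⟩
  obtain ⟨ζ, hζ⟩ := HasEnoughRootsOfUnity.exists_primitiveRoot k d
  have hζ0 : ζ ≠ 0 := hζ.ne_zero hd.ne_zero
  set ω : kˣ := Units.mk0 ζ hζ0 with hω
  have hωd : ω ^ d = 1 := Units.ext (by rw [Units.val_pow_eq_pow_val]; exact hζ.pow_eq_one)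
  have hc : ∀ s < D.nroots, ∏ i : Fin D.rank, (ω ^ kv i) ^ D.cartan i s = 1 := by
    intro s hs
    obtain ⟨a, ha⟩ := hkv s hs
    rw [Finset.prod_congr rfl fun i _ => (zpow_mul ω (kv i) (D.cartan i s)).symm, prod_zpow_sum, ha, zpow_mul,
      zpow_natCast, hωd, one_zpow]
  have hc1 : (fun i => ω ^ kv i : Fin D.rank → kˣ) ≠ 1 := by
    intro h1
    have h2 := congrFun h1 i0
    simp only [hk0, zpow_one, Pi.one_apply] at h2
    have h3 : ζ = 1 := congrArg Units.val h2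
    rw [h3] at hζ
    exact hd.one_lt.ne' (hζ.eq_orderOf.trans orderOf_one)
  have hfix : ∀ b : Fin D.rank → kˣ, (∀ s < D.nroots, ∏ i : Fin D.rank, b i ^ D.cartan i s = 1) →
      ∀ i, b i ^ p ^ e = b i := by
    intro b hb i
    have h1 := eval_eq_one (fun i j : Fin D.rank => D.cartan i (D.simple j)) (fun j => Bc j i)
      (fun m => if m = i then (d : ℤ) else 0) (fun m => hBc m i) b
      (fun j => hb (D.simple j) (simple_lt hp.inList j.2))
    rw [Finset.prod_eq_single i] at h1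
    · rw [if_pos rfl, zpow_natCast] at h1
      obtain ⟨a, ha⟩ := hdq
      have h2 : p ^ e = d * a + 1 := by
        have : 0 < p ^ e := Nat.pow_pos hpF.pos
        omega
      rw [h2, pow_succ, pow_mul, h1, one_pow, one_mul]
    · intro j _ hj; rw [if_neg hj, zpow_zero]
    · intro hi; exact absurd (Finset.mem_univ _) hi
  have h1 : z * t ^ d * z⁻¹ ∈ (emb hp.inList f).range := by
    rw [← conj_pow]
    exact fix_pow_range hp cs f hq hB hd.ne_zero (conj_fixed hT.hz hT.fixed (Subgroup.mem_zpowers t))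
  have h2 : z * t * z⁻¹ ∉ (emb hp.inList f).range := not_mem_range hp cs hΦ f hq hc hc1 hfix hT.hn hT.hz hT.gen
  -- the element
  have h3 := hT.mem_zpowers hs hs1 (y := emb hp.inList f y) (by rw [← map_mul, hy, map_mul]) (phi_emb hp f hq y)
  have h4 : z * (z⁻¹ * emb hp.inList f y * z) * z⁻¹ ∈ (emb hp.inList f).range := ⟨y, by group⟩
  obtain ⟨i, hi⟩ := (hS_of_prime hd h1 h2 h3).1 h4
  have hi' : (t ^ d) ^ i = z⁻¹ * emb hp.inList f y * z := hi
  have h5 : (z⁻¹ * emb hp.inList f y * z) ^ (N / d) = 1 := by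
    rw [← hi', ← zpow_natCast, ← zpow_natCast, ← zpow_mul, ← zpow_mul]
    have e1 : (d : ℤ) * (i * ((N / d : ℕ) : ℤ)) = (N : ℤ) * i := by
      obtain ⟨m, rfl⟩ := hdN
      rw [Nat.mul_div_cancel_left _ hd.pos]
      push_cast
      ring
    rw [e1, zpow_mul, zpow_natCast, ← hT.order, pow_orderOf_eq_one, one_zpow]
  apply emb_injective hp.inList f
  rw [map_pow, map_one]
  have h6 : emb hp.inList f y = z * (z⁻¹ * emb hp.inList f y * z) * z⁻¹ := by group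
  rw [h6, conj_pow, h5]
  group

end Gen

section Six

variable {k : Type u} [Field k] [IsAlgClosed k] {p e : ℕ} [Fact p.Prime] [CharP k p]
  {F : Type u} [Field F] [Fintype F] {f : F →+* k}

/-- **`NoNorm 3 x`.** -/
theorem noNorm_tor (hp : IsType chevE6 6 CoxeterMatrix.E₆) (hq : Fintype.card F = p ^ e) (h3 : 3 ∣ p ^ e - 1)
    {hN : NSys CoxeterMatrix.E₆ (TT chevE6 k) (nc hp k)} {w : CoxeterMatrix.E₆.Group} {B : Fin 6 → Fin 6 → ℤ}
    {N N0 : ℕ} {n z t : ↥(chevE6.group k)} {u : k} {x : ↥(chevE6.group F)}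
    (hT : Tor hp CoxeterMatrix.E₆.toCoxeterSystem f p e (hN := hN) w B N N0 n z t u x) (hdN : 3 ∣ N)
    (hdN2 : ¬ 3 ∣ N / 3) (hN0 : 78 < N0) : NoNorm 3 x := by
  have hpF : p.Prime := Fact.out
  have hp3 : ¬ p ∣ 3 := by
    intro h
    have h1 : p = 3 := (Nat.prime_dvd_prime_iff_eq hpF Nat.prime_three).1 h
    subst h1
    have he : e ≠ 0 := by
      rintro rfl
      have := Fintype.one_lt_card (α := F)
      rw [hq, pow_zero] at this
      exact lt_irrefl _ this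
    have h2 : 3 ∣ 3 ^ e := dvd_pow_self 3 he
    have h4 : 1 ≤ 3 ^ e := Nat.one_le_pow _ _ (by norm_num)
    have h5 := (Nat.dvd_sub h2 h3)
    rw [Nat.sub_sub_self h4] at h5
    exact absurd h5 (by norm_num)
  have h3k : ((3 : ℕ) : F) ≠ 0 := by
    intro h
    have h1 : f ((3 : ℕ) : F) = 0 := by rw [h, map_zero]
    rw [map_natCast, CharP.cast_eq_zero_iff k p] at h1
    exact hp3 h1
  refine H83.Frob.noNorm_of_frob (chevE6.group F).subtype (chevE6.group F).subtype_injective Nat.prime_three h3k ?_ ?_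
  · have h1 : Fintype.card chevE6.Idx = 78 := by
      rw [Fintype.card_sum, Fintype.card_fin, Fintype.card_fin]
      rfl
    rw [h1, hT.hx]
    exact hN0
  · intro s hs hs1 y hy hcomm
    have h1 := pow_div_eq_one hq Nat.prime_three invC_E6 h3 hp3 (Cfsg.Agent.H129.PhiE.isPhi_E6 _) (kv := ![1, 0, 2, 0, 1, 2])
      (i0 := ⟨0, by decide⟩) rfl (by decide +kernel)
      (Bc := ![![4, 3, 5, 6, 4, 2], ![3, 6, 6, 9, 6, 3], ![5, 6, 10, 12, 8, 4],
        ![6, 9, 12, 18, 12, 6], ![4, 6, 8, 12, 10, 5], ![2, 3, 4, 6, 5, 4]]) (by decide +kernel) hT hdN hs hs1 hcomm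
    apply hdN2
    have h2 := orderOf_dvd_of_pow_eq_one h1
    rwa [hy] at h2

/-- An element of order three of the twisted torus. -/
theorem char_of_pow_three {D : ChevalleyDatum} {l : ℕ} {M : CoxeterMatrix (Fin l)} {hp : IsType D l M}
    {W : Type*} [Group W] {cs : CoxeterSystem M W}
    {hN : NSys M (TT D k) (nc hp k)} {w : W} {B : Fin l → Fin l → ℤ} {N N0 : ℕ} {n z t : ↥(D.group k)} {u : k}
    {x : ↥(D.group F)} (hT : Tor hp cs f p e (hN := hN) w B N N0 n z t u x) (hN1 : N ≠ 0) {m : ↥(D.group k)}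
    (hm : m ∈ Subgroup.zpowers t) (hm3 : m ^ 3 = 1) (hm1 : m ≠ 1) :
    ∃ ω : k, ω ^ 3 = 1 ∧ ω ≠ 1 ∧ ∀ y, cX hp m y = ω ^ Gq B ((p ^ e : ℕ) : ℤ) y := by
  obtain ⟨i, hi⟩ := hm
  have hi' : t ^ i = m := hi
  have hu0 : u ≠ 0 := hT.prim.ne_zero hN1
  have hone : ∀ g : ℤ, u ^ g = 1 ↔ (N : ℤ) ∣ g := fun g => hT.prim.zpow_eq_one_iff_dvd g
  have htg : ∀ g : ℤ, t ^ g = 1 ↔ (N : ℤ) ∣ g := fun g => by rw [← hT.order, orderOf_dvd_iff_zpow_eq_one]
  refine ⟨u ^ i, ?_, ?_, ?_⟩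
  · rw [← zpow_natCast, ← zpow_mul, hone, ← htg, zpow_mul, hi', zpow_natCast, hm3]
  · rw [Ne, hone, ← htg, hi']
    exact hm1
  · intro y
    have h1 := (isMC_cX hp hT.ht).ne_zero y
    have h2 : ∀ g : ℤ, cX hp (t ^ g) y = cX hp t y ^ g := by
      intro g
      obtain ⟨b, rfl | rfl⟩ := Int.eq_nat_or_neg g
      · rw [zpow_natCast, zpow_natCast, cX_pow hp hT.ht]
      · have h3 : cX hp (t ^ (-(b : ℤ))) y * cX hp (t ^ b) y = 1 := by
          rw [← cX_mul hp (zpow_mem hT.ht _) (pow_mem hT.ht _), zpow_neg, zpow_natCast, inv_mul_cancel, cX_one]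
        rw [cX_pow hp hT.ht] at h3
        rw [zpow_neg (cX hp t y), zpow_natCast]
        exact eq_inv_of_mul_eq_one_left h3
    rw [← hi', h2, hT.char, ← zpow_mul, ← zpow_mul, mul_comm]

/-- A linear automorphism of order three fixing (up to conjugacy) an element of `⟨x⟩`. -/
theorem mem_of_fix {D : ChevalleyDatum} {l : ℕ} {M : CoxeterMatrix (Fin l)} {hp : IsType D l M}
    {W : Type*} [Group W] {cs : CoxeterSystem M W}
    {hN : NSys M (TT D k) (nc hp k)} {w : W} {B : Fin l → Fin l → ℤ} {N N0 : ℕ} {n z t : ↥(D.group k)} {u : k}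
    {x : ↥(D.group F)} (hT : Tor hp cs f p e (hN := hN) w B N N0 n z t u x) (hq : Fintype.card F = p ^ e)
    {a : MulAut ↥(D.group F)} {Mt : ↥(D.group k)} (hφ : phi D k p e Mt = Mt)
    (ha : ∀ y : ↥(D.group F), emb hp.inList f (a y) = Mt * emb hp.inList f y * Mt⁻¹)
    {v s : ↥(D.group F)} (hv : v ∈ Subgroup.zpowers x) (hv1 : v ≠ 1) (hav : a (s * v * s⁻¹) = s * v * s⁻¹) :
    z⁻¹ * ((emb hp.inList f s)⁻¹ * Mt * emb hp.inList f s) * z ∈ Subgroup.zpowers t := by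
  have h1 := ha (s * v * s⁻¹)
  rw [hav, map_mul, map_mul, map_inv] at h1
  refine hT.mem_zpowers hv hv1 (y := (emb hp.inList f s)⁻¹ * Mt * emb hp.inList f s) ?_ ?_
  · set S := emb hp.inList f s
    set V := emb hp.inList f v
    have h2 : S * V * S⁻¹ * Mt = Mt * (S * V * S⁻¹) := eq_mul_inv_iff_mul_eq.1 h1
    calc S⁻¹ * Mt * S * V = S⁻¹ * (Mt * (S * V * S⁻¹)) * S := by group
      _ = S⁻¹ * (S * V * S⁻¹ * Mt) * S := by rw [h2]
      _ = _ := by group
  · rw [map_mul, map_mul, map_inv, phi_emb hp f hq, hφ]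

end Six

end Cfsg.Agent.H568.ESixThree
end

-- part: H568/ESixThree
section
/-!
# The row of E6(q), q = 1 mod 3, p = 3, in S4329 (helper568)

`e6_three` : `Row 3 ↥(chevE6.group F)` if `3 ∣ |F| - 1`.
-/

set_option autoImplicit false
set_option linter.unusedSectionVars false

namespace Cfsg.Agent.H568.ESixThree

open CoxeterSystem Cfsg Cfsg.Lie Cfsg.Lie.ChevalleyDatum
open Cfsg.Agent.ChevalleyStructure Cfsg.Agent.ChevalleyStructure.Elts Cfsg.Agent.ChevalleyStructure.CoxeterGeom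
  Cfsg.Agent.ChevalleyStructure.CoxeterGeomTypes Cfsg.Agent.ChevalleyStructure.NPerm
open Cfsg.Agent.Tits.Roots Cfsg.Agent.Tits.Core Cfsg.Agent.Nodes Cfsg.Agent.Nodes.Reps Cfsg.Agent.Nodes.BNOf
  Cfsg.Agent.Nodes.RGDChev
open Cfsg.Agent.KFacts.RgdChevCoord Cfsg.Agent.GpExc.Field Cfsg.Agent.BpExc.Fr Cfsg.Agent.BpExc.LangFr
  Cfsg.Agent.BpExc.TowChev Cfsg.Agent.BpExc
open Cfsg.Agent.H129.TorusChar Cfsg.Agent.H129.TorusCent Cfsg.Agent.H129.TorusTw Cfsg.Agent.H129.TorusMain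
  Cfsg.Agent.H129.TorusUntw Cfsg.Agent.H719.RowTorus Cfsg.Agent.H719

universe u

/-! ### numbers -/

theorem nine_mod {q : ℕ} (hq : 3 ∣ q - 1) (hq1 : 1 < q) : (q ^ 6 + q ^ 3 + 1) % 9 = 3 := by
  have h : q % 9 = 1 ∨ q % 9 = 4 ∨ q % 9 = 7 := by omega
  rcases h with h | h | h <;> simp only [Nat.pow_mod, Nat.add_mod, h, _root_.one_pow, _root_.Nat.one_mod, _root_.Nat.reduceAdd, _root_.Nat.reduceMod, _root_.Nat.reducePow]

theorem twelve_mod {q : ℕ} (hq : 3 ∣ q - 1) (hq1 : 1 < q) : ((q ^ 4 - q ^ 2 + 1) * (q ^ 2 + q + 1)) % 9 = 3 := by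
  have h : q % 9 = 1 ∨ q % 9 = 4 ∨ q % 9 = 7 := by omega
  have h0 : q ^ 2 ≤ q ^ 4 := Nat.pow_le_pow_right (by omega) (by norm_num)
  obtain ⟨m, hm⟩ : ∃ m, m = q ^ 4 - q ^ 2 + 1 := ⟨_, rfl⟩
  have h1 : m + q ^ 2 = q ^ 4 + 1 := by omega
  rw [← hm]
  have h2 : (m + q ^ 2) % 9 = (q ^ 4 + 1) % 9 := by rw [h1]
  rcases h with h | h | h
  · have h3 : q ^ 2 % 9 = 1 := by simp [Nat.pow_mod, h]
    have h4 : q ^ 4 % 9 = 1 := by simp [Nat.pow_mod, h]
    have h5 : m % 9 = 1 := by omega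
    simp [Nat.mul_mod, Nat.add_mod, h3, h, h5]
  · have h3 : q ^ 2 % 9 = 7 := by simp [Nat.pow_mod, h]
    have h4 : q ^ 4 % 9 = 4 := by simp [Nat.pow_mod, h]
    have h5 : m % 9 = 7 := by omega
    simp [Nat.mul_mod, Nat.add_mod, h3, h, h5]
  · have h3 : q ^ 2 % 9 = 4 := by simp [Nat.pow_mod, h]
    have h4 : q ^ 4 % 9 = 7 := by simp [Nat.pow_mod, h]
    have h5 : m % 9 = 4 := by omega
    simp [Nat.mul_mod, Nat.add_mod, h3, h, h5]

theorem three_of_mod {N : ℕ} (h : N % 9 = 3) : 3 ∣ N ∧ ¬ 3 ∣ N / 3 := by omega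

theorem prime_five {r : ℕ} (hr : r.Prime) (h2 : r ≠ 2) (h3 : r ≠ 3) (h5 : r ≠ 5) : ¬ r ∣ 51840 := by
  intro h
  have h0 : (51840 : ℕ) = 2 ^ 7 * 3 ^ 4 * 5 := by norm_num
  rw [h0] at h
  rcases (Nat.Prime.dvd_mul hr).1 h with h | h
  · rcases (Nat.Prime.dvd_mul hr).1 h with h | h
    · exact h2 ((Nat.prime_dvd_prime_iff_eq hr Nat.prime_two).1 (hr.dvd_of_dvd_pow h))
    · exact h3 ((Nat.prime_dvd_prime_iff_eq hr Nat.prime_three).1 (hr.dvd_of_dvd_pow h))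
  · exact h5 ((Nat.prime_dvd_prime_iff_eq hr Nat.prime_five).1 h)

theorem ne_nine {q r : ℕ} (h : r ∣ q ^ 6 + q ^ 3 + 1) : r ≠ 2 ∧ r ≠ 5 := by
  have h4 : ((q : ZMod r) ^ 6 + (q : ZMod r) ^ 3 + 1 = 0) := by
    have := (ZMod.natCast_eq_zero_iff (q ^ 6 + q ^ 3 + 1) r).2 h
    push_cast at this
    exact this
  refine ⟨?_, ?_⟩ <;> rintro rfl
  · generalize (q : ZMod 2) = x at h4; revert h4; revert x; decide
  · generalize (q : ZMod 5) = x at h4; revert h4; revert x; decide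

theorem ne_twelve {q r : ℕ} (hq : 1 ≤ q) (h : r ∣ q ^ 4 - q ^ 2 + 1) : r ≠ 2 ∧ r ≠ 3 ∧ r ≠ 5 := by
  have h0 : q ^ 2 ≤ q ^ 4 := Nat.pow_le_pow_right hq (by norm_num)
  have h4 : ((q : ZMod r) ^ 4 - (q : ZMod r) ^ 2 + 1 = 0) := by
    have := (ZMod.natCast_eq_zero_iff (q ^ 4 - q ^ 2 + 1) r).2 h
    push_cast [Nat.cast_sub h0] at this
    exact this
  refine ⟨?_, ?_, ?_⟩ <;> rintro rfl
  · generalize (q : ZMod 2) = x at h4; revert h4; revert x; decide
  · generalize (q : ZMod 3) = x at h4; revert h4; revert x; decide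
  · generalize (q : ZMod 5) = x at h4; revert h4; revert x; decide

/-- a primitive prime divisor of `q ^ 9 - 1` -/
theorem exists_nine {r e : ℕ} (hr : r.Prime) (he : 0 < e) (h3 : 3 ∣ r ^ e - 1) :
    ∃ n : ℕ, n.Prime ∧ n ≠ r ∧ n ≠ 3 ∧ n ∣ ((r ^ e) ^ 6 + (r ^ e) ^ 3 + 1) / 3 ∧ ∀ m, n ∣ r ^ m - 1 → e * 9 ∣ m := by
  obtain ⟨l, hl, hd, hl1, hlr⟩ := Lib.Zsigmondy.exists_primitive hr.two_le (n := e * 9) (by omega) (by omega) (by omega)
  have hq1 : 1 < r ^ e := Nat.one_lt_pow he.ne' hr.one_lt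
  have hln : l ≠ r := by
    rintro rfl
    have h1 : l ∣ l ^ (e * 9) - 1 := (hd _).2 dvd_rfl
    have h2 : l ∣ l ^ (e * 9) := dvd_pow_self l (by omega)
    have h4 : 1 ≤ l ^ (e * 9) := Nat.one_le_pow _ _ hr.pos
    have h5 := Nat.dvd_sub h2 h1
    rw [Nat.sub_sub_self h4] at h5
    exact hr.one_lt.ne' (Nat.dvd_one.1 h5)
  have hl3 : l ≠ 3 := by
    rintro rfl
    have := Nat.le_of_dvd (by norm_num) hl1
    omega
  refine ⟨l, hl, hln, hl3, ?_, fun m hm => (hd m).1 hm⟩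
  set q := r ^ e with hq
  have h9 : l ∣ q ^ 9 - 1 := by rw [hq, ← pow_mul, hd]
  have h3' : ¬ l ∣ q ^ 3 - 1 := by
    rw [hq, ← pow_mul, hd]
    intro h
    have := Nat.le_of_dvd (by omega) h
    omega
  have e1 : q ^ 9 - 1 = (q ^ 3 - 1) * (q ^ 6 + q ^ 3 + 1) := by
    have h01 : 1 ≤ q ^ 9 := Nat.one_le_pow _ _ (by omega)
    have h02 : 1 ≤ q ^ 3 := Nat.one_le_pow _ _ (by omega)
    zify [h01, h02]
    ring
  rw [e1] at h9
  have h4 := (hl.dvd_mul.1 h9).resolve_left h3'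
  obtain ⟨c, hc⟩ := (three_of_mod (nine_mod h3 hq1)).1
  rw [hc] at h4 ⊢
  rw [Nat.mul_div_cancel_left _ (by norm_num)]
  exact (hl.dvd_mul.1 h4).resolve_left fun h => hl3 ((Nat.prime_dvd_prime_iff_eq hl Nat.prime_three).1 h)

/-- a primitive prime divisor of `q ^ 12 - 1` -/
theorem exists_twelve {r e : ℕ} (hr : r.Prime) (he : 0 < e) :
    ∃ n : ℕ, n.Prime ∧ n ≠ r ∧ n ≠ 3 ∧ n ∣ (r ^ e) ^ 4 - (r ^ e) ^ 2 + 1 ∧ ∀ m, n ∣ r ^ m - 1 → e * 12 ∣ m := by
  obtain ⟨l, hl, hd, hl1, hlr⟩ := Lib.Zsigmondy.exists_primitive hr.two_le (n := e * 12) (by omega) (by omega) (by omega)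
  have hq1 : 1 < r ^ e := Nat.one_lt_pow he.ne' hr.one_lt
  have hln : l ≠ r := by
    rintro rfl
    have h1 : l ∣ l ^ (e * 12) - 1 := (hd _).2 dvd_rfl
    have h2 : l ∣ l ^ (e * 12) := dvd_pow_self l (by omega)
    have h4 : 1 ≤ l ^ (e * 12) := Nat.one_le_pow _ _ hr.pos
    have h5 := Nat.dvd_sub h2 h1
    rw [Nat.sub_sub_self h4] at h5
    exact hr.one_lt.ne' (Nat.dvd_one.1 h5)
  have hl3 : l ≠ 3 := by
    rintro rfl
    have := Nat.le_of_dvd (by norm_num) hl1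
    omega
  refine ⟨l, hl, hln, hl3, ?_, fun m hm => (hd m).1 hm⟩
  set q := r ^ e with hq
  have h12 : l ∣ q ^ 12 - 1 := by rw [hq, ← pow_mul, hd]
  have h6 : ¬ l ∣ q ^ 6 - 1 := by
    rw [hq, ← pow_mul, hd]
    intro h
    have := Nat.le_of_dvd (by omega) h
    omega
  have h4 : ¬ l ∣ q ^ 4 - 1 := by
    rw [hq, ← pow_mul, hd]
    intro h
    have := Nat.le_of_dvd (by omega) h
    omega
  have e1 : q ^ 12 - 1 = (q ^ 6 - 1) * ((q ^ 2 + 1) * (q ^ 4 - q ^ 2 + 1)) := by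
    have h0 : q ^ 2 ≤ q ^ 4 := Nat.pow_le_pow_right (by omega) (by norm_num)
    have h01 : 1 ≤ q ^ 12 := Nat.one_le_pow _ _ (by omega)
    have h02 : 1 ≤ q ^ 6 := Nat.one_le_pow _ _ (by omega)
    zify [h01, h02, h0]
    ring
  rw [e1] at h12
  refine (hl.dvd_mul.1 ((hl.dvd_mul.1 h12).resolve_left h6)).resolve_left fun h => h4 ?_
  have e2 : q ^ 4 - 1 = (q ^ 2 + 1) * (q ^ 2 - 1) := by
    have h01 : 1 ≤ q ^ 4 := Nat.one_le_pow _ _ (by omega)
    have h02 : 1 ≤ q ^ 2 := Nat.one_le_pow _ _ (by omega)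
    zify [h01, h02]
    ring
  rw [e2]
  exact h.mul_right _

theorem trace_conj' {D : ChevalleyDatum} {k : Type u} [Field k] (g h : ↥(D.group k)) :
    Matrix.trace (((g⁻¹ * h * g : ↥(D.group k)) : GL D.Idx k) : Matrix D.Idx D.Idx k) =
      Matrix.trace ((h : GL D.Idx k) : Matrix D.Idx D.Idx k) := by
  rw [Subgroup.coe_mul, Subgroup.coe_mul, Units.val_mul, Units.val_mul, Subgroup.coe_inv]
  exact Matrix.trace_units_conj' _ _

/-- **The conjugate element fixed by `a`.** -/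
theorem exists_fix {S : Type*} [Group S] [Finite S] (hZ : Subgroup.center S = ⊥) {a : MulAut S} (ha : orderOf a = 3)
    {x : S} (hx : NoNorm 3 x) (hA : ¬ Avoid 3 a x) {n : ℕ} (hn : n.Prime) (hnx : n ∣ orderOf x)
    (hc : ∀ s ∈ Subgroup.zpowers x, s ≠ 1 → IsCyclic ↥(Subgroup.centralizer ({s} : Set S))) :
    ∃ v s : S, v ∈ Subgroup.zpowers x ∧ orderOf v = n ∧ v ≠ 1 ∧ a (s * v * s⁻¹) = s * v * s⁻¹ := by
  obtain ⟨g, hg⟩ : ∃ g : MulAut S, (g * a * g⁻¹) x = x := by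
    by_contra hcon
    push Not at hcon
    exact hA (avoid_of_noNorm (hp := ⟨Nat.prime_three⟩) hZ ha hx fun _ => hcon)
  obtain ⟨v, hv, hvn⟩ := exists_orderOf_dvd hnx
  have hv1 : v ≠ 1 := by
    rintro rfl
    rw [orderOf_one] at hvn
    exact hn.one_lt.ne hvn
  have hgv : (g * a * g⁻¹) v = v := by
    obtain ⟨i, rfl⟩ := hv
    show (g * a * g⁻¹) (x ^ i) = x ^ i
    rw [map_zpow, hg]
  have : Fact n.Prime := ⟨hn⟩
  obtain ⟨P, hP⟩ := cyclic_sylow_of_cent hvn (hc v hv hv1)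
  by_contra hcon
  refine not_fixed_of_conj hvn (fun y hy => conj_of_cyclic P hP hvn y hy) (fun s hs => ?_) g hgv
  exact hcon ⟨v, s, hv, hvn, hv1, hs⟩

/-! ### the theorem -/

section Main

variable {F : Type u} [Field F] [Fintype F]

theorem e6_three_aux {q : ℕ} (hq : Fintype.card F = q) (h3 : 3 ∣ q - 1) : Row 3 ↥(chevE6.group F) := by
  classical
  have hp : IsType chevE6 6 CoxeterMatrix.E₆ := by simp
  have hW : Nat.card CoxeterMatrix.E₆.Group = 51840 :=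
    Cfsg.Agent.S1093.result (⟨6, CoxeterMatrix.E₆⟩, 51840) (by simp)
  have : Finite CoxeterMatrix.E₆.Group := Nat.finite_of_card_ne_zero (by rw [hW]; norm_num)
  have hfin : Finite ↥(chevE6.group F) := inferInstance
  obtain ⟨hS, hna⟩ := S1054.result (F := F) chevE6 (by simp)
  have hZ : Subgroup.center ↥(chevE6.group F) = ⊥ := H568.center_eq_bot hna
  obtain ⟨r, e, hrF, hrc, hrk, he, rfl, hk⟩ := _root_.Cfsg.Agent.H129.TorusUntw.exists_closure hq
  have hr : r.Prime := Fact.out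
  have hq1 : 1 < r ^ e := Nat.one_lt_pow he.ne' hr.one_lt
  have hq4 : 4 ≤ r ^ e := by omega
  obtain ⟨h90, h91⟩ := three_of_mod (nine_mod h3 hq1)
  obtain ⟨h120, h121⟩ := three_of_mod (twelve_mod h3 hq1)
  obtain ⟨n9, hn9, hn9r, hn93, hn9d, hn9o⟩ := exists_nine hr he h3
  obtain ⟨n12, hn12, hn12r, hn123, hn12d, hn12o⟩ := exists_twelve hr he
  have h0 : (r ^ e) ^ 2 ≤ (r ^ e) ^ 4 := Nat.pow_le_pow_right (by omega) (by norm_num)
  -- the torus of order `Φ₉(q)`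
  obtain ⟨n, z, t, u, x, hT⟩ := exists_tor' hp CoxeterMatrix.E₆.toCoxeterSystem (algebraMap F (AlgebraicClosure F))
    (by norm_num) hk he hq invC_E6 (by norm_num) TE6_9.hA TE6_9.chainOK TE6_9.cycOK TE6_9.rootOK
    (N := (r ^ e) ^ 6 + (r ^ e) ^ 3 + 1) (N0 := ((r ^ e) ^ 6 + (r ^ e) ^ 3 + 1) / 3)
    (by rw [TE6_9.fN_eq]; push_cast; ring)
    (H129.UntwData.coprime_of_eq (a := ((r ^ e : ℕ) : ℤ) ^ 2 + ((r ^ e : ℕ) : ℤ) ^ 5) (by push_cast; ring))
    (Nat.div_dvd_of_dvd h90) (fun l hl hld => by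
      have hl3 : l ≠ 3 := fun h => h91 (h ▸ hld)
      have hld' := hld.trans (Nat.div_dvd_of_dvd h90)
      obtain ⟨hl2, hl5⟩ := ne_nine hld'
      refine ⟨by rw [hW]; exact prime_five hl hl2 hl3 hl5,
        fun h => hl3 ((Nat.prime_dvd_prime_iff_eq hl Nat.prime_three).1 h), fun s hs => ?_⟩
      have h1 : (l : ℤ) ∣ 1 + ((r ^ e : ℕ) : ℤ) ^ 3 + ((r ^ e : ℕ) : ℤ) ^ 6 := by
        have h2 := Int.natCast_dvd_natCast.2 hld'
        push_cast at h2 ⊢
        have e1 : (1 : ℤ) + ((r : ℤ) ^ e) ^ 3 + ((r : ℤ) ^ e) ^ 6 = ((r : ℤ) ^ e) ^ 6 + ((r : ℤ) ^ e) ^ 3 + 1 := by ring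
        rw [e1]
        exact h2
      exact hl3 ((Nat.prime_dvd_prime_iff_eq hl Nat.prime_three).1
        (by exact_mod_cast TE6_9.dvd_of_G h1 s hs)))
  -- the torus of order `Φ₁₂(q) Φ₃(q)`
  obtain ⟨n', z', t', u', x', hT'⟩ := exists_tor' hp CoxeterMatrix.E₆.toCoxeterSystem
    (algebraMap F (AlgebraicClosure F)) (by norm_num) hk he hq invC_E6 (by norm_num) TE6_12.hA TE6_12.chainOK
    TE6_12.cycOK TE6_12.rootOK
    (N := ((r ^ e) ^ 4 - (r ^ e) ^ 2 + 1) * ((r ^ e) ^ 2 + (r ^ e) + 1)) (N0 := (r ^ e) ^ 4 - (r ^ e) ^ 2 + 1)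
    (by rw [TE6_12.fN_eq]; push_cast [Nat.cast_sub h0]; ring)
    (H129.UntwData.coprime_of_eq (a := 1 - ((r ^ e : ℕ) : ℤ) ^ 2 + ((r ^ e : ℕ) : ℤ) ^ 4 + ((r ^ e : ℕ) : ℤ) ^ 5)
      (by push_cast [Nat.cast_sub h0]; ring))
    (Nat.dvd_mul_right _ _) (fun l hl hld => by
      obtain ⟨hl2, hl3, hl5⟩ := ne_twelve (by omega) hld
      refine ⟨by rw [hW]; exact prime_five hl hl2 hl3 hl5,
        fun h => hl3 ((Nat.prime_dvd_prime_iff_eq hl Nat.prime_three).1 h), fun s hs => ?_⟩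
      have h1 : (l : ℤ) ∣ 1 - ((r ^ e : ℕ) : ℤ) ^ 2 + ((r ^ e : ℕ) : ℤ) ^ 4 := by
        have h2 := Int.natCast_dvd_natCast.2 hld
        push_cast [Nat.cast_sub h0] at h2 ⊢
        have e1 : (1 : ℤ) - ((r : ℤ) ^ e) ^ 2 + ((r : ℤ) ^ e) ^ 4 = ((r : ℤ) ^ e) ^ 4 - ((r : ℤ) ^ e) ^ 2 + 1 := by ring
        rw [e1]
        exact h2
      exact hl2 ((Nat.prime_dvd_prime_iff_eq hl Nat.prime_two).1
        (by exact_mod_cast TE6_12.dvd_of_G h1 s hs)))
  -- no element of order 3 commutes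
  have hN9 : NoNorm 3 x := noNorm_tor hp hq h3 hT h90 h91 (by
    have h1 : 4 ^ 6 ≤ (r ^ e) ^ 6 := Nat.pow_le_pow_left hq4 6
    rw [Nat.lt_div_iff_mul_lt (by norm_num)]
    omega)
  have hN12 : NoNorm 3 x' := noNorm_tor hp hq h3 hT' h120 h121 (by
    have h1 : (r ^ e) ^ 4 = (r ^ e) ^ 2 * (r ^ e) ^ 2 := by ring
    have h2 : 4 ^ 2 ≤ (r ^ e) ^ 2 := Nat.pow_le_pow_left hq4 2
    have h4 : 16 * (r ^ e) ^ 2 ≤ (r ^ e) ^ 4 := by
      rw [h1]
      exact Nat.mul_le_mul_right _ h2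
    omega)
  intro a ha
  by_cases hA9 : Avoid 3 a x
  · exact ⟨x, hN9.not_dvd (hp := ⟨Nat.prime_three⟩), hA9⟩
  by_cases hA12 : Avoid 3 a x'
  · exact ⟨x', hN12.not_dvd (hp := ⟨Nat.prime_three⟩), hA12⟩
  exfalso
  obtain ⟨v, s, hv, hvo, hv1, hav⟩ := exists_fix hZ ha hN9 hA9 hn9 (by rw [hT.hx]; exact hn9d)
    (fun s hs hs1 => hT.cyclic hq hs hs1)
  obtain ⟨v', s', hv', hvo', hv1', hav'⟩ := exists_fix hZ ha hN12 hA12 hn12 (by rw [hT'.hx]; exact hn12d)
    (fun s hs hs1 => hT'.cyclic hq hs hs1)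
  have ha3 : a ^ 3 = 1 := by rw [← ha, pow_orderOf_eq_one]
  have hconj : orderOf (s * v * s⁻¹) = n9 := by rw [orderOf_conj', hvo]
  obtain ⟨Mt, hφ, hform⟩ := FldExc.lin_of_fix hp (algebraMap F (AlgebraicClosure F)) hq he invC_E6 (by norm_num)
    (AutInv.inv_E6 hp.inList) FldExc.ordF_E6 Nat.prime_three (by norm_num) ha3 hn9 hn9r
    ((Nat.coprime_primes hn9 Nat.prime_three).2 hn93) hconj hav (h := 9) hn9o (by decide)
  have hZk : Subgroup.center ↥(chevE6.group (AlgebraicClosure F)) = ⊥ := by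
    obtain ⟨hSk, hnak⟩ := S1054.result (F := AlgebraicClosure F) chevE6 (by simp)
    exact H568.center_eq_bot hnak
  have hMt3 : Mt ^ 3 = 1 := by
    refine FamUntw.eq_one_of_comm hp hk r (algebraMap F (AlgebraicClosure F)) hZk fun y => ?_
    have h1 : a (a (a y)) = y := by
      have h2 : (a ^ 3) y = y := by rw [ha3]; rfl
      exact h2
    have h2 := hform (a (a y))
    rw [h1, hform, hform] at h2
    conv_rhs => rw [h2]
    rw [pow_succ, pow_two]
    simp only [mul_assoc, inv_mul_cancel_left, inv_mul_cancel, mul_one]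
  have hMt1 : Mt ≠ 1 := by
    intro h1
    have h2 : a = 1 := by
      ext y
      have h4 := hform y
      rw [h1, one_mul, inv_one, mul_one] at h4
      have h5 := emb_injective hp.inList _ h4
      rw [h5]
      rfl
    rw [h2, orderOf_one] at ha
    exact absurd ha (by norm_num)
  have key : ∀ g : ↥(chevE6.group (AlgebraicClosure F)), (g⁻¹ * Mt * g) ^ 3 = 1 ∧ g⁻¹ * Mt * g ≠ 1 := by
    intro g
    refine ⟨?_, fun h => hMt1 ?_⟩
    · have h1 := conj_pow (i := 3) (a := g⁻¹) (b := Mt)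
      rw [inv_inv] at h1
      rw [h1, hMt3]
      group
    · have h1 : Mt = g * (g⁻¹ * Mt * g) * g⁻¹ := by group
      rw [h1, h]
      group
  have hdiv : (3 : ℤ) ∣ ((r ^ e : ℕ) : ℤ) - 1 := by
    have h1 : (((r ^ e - 1 : ℕ)) : ℤ) = ((r ^ e : ℕ) : ℤ) - 1 := by push_cast [Nat.cast_sub hq1.le]; rfl
    rw [← h1]
    exact_mod_cast h3
  -- the traces
  have h1 := mem_of_fix hT hq hφ hform hv hv1 hav
  have e1 : z⁻¹ * ((emb hp.inList (algebraMap F (AlgebraicClosure F)) s)⁻¹ * Mt *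
      emb hp.inList (algebraMap F (AlgebraicClosure F)) s) * z =
      (emb hp.inList (algebraMap F (AlgebraicClosure F)) s * z)⁻¹ * Mt *
        (emb hp.inList (algebraMap F (AlgebraicClosure F)) s * z) := by group
  rw [e1] at h1
  obtain ⟨ω, hω, hω1, hch⟩ := char_of_pow_three hT (by (clear * - hq1; positivity)) h1 (key _).1 (key _).2
  have htr := trace_nine hp (Subgroup.zpowers_le.2 hT.ht h1) hω hω1 hdiv hch
  rw [trace_conj'] at htr
  have h2 := mem_of_fix hT' hq hφ hform hv' hv1' hav'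
  have e2 : z'⁻¹ * ((emb hp.inList (algebraMap F (AlgebraicClosure F)) s')⁻¹ * Mt *
      emb hp.inList (algebraMap F (AlgebraicClosure F)) s') * z' =
      (emb hp.inList (algebraMap F (AlgebraicClosure F)) s' * z')⁻¹ * Mt *
        (emb hp.inList (algebraMap F (AlgebraicClosure F)) s' * z') := by group
  rw [e2] at h2
  obtain ⟨ω', hω', hω1', hch'⟩ := char_of_pow_three hT' (by (clear * -; positivity)) h2 (key _).1 (key _).2
  have htr' := trace_twelve hp (Subgroup.zpowers_le.2 hT'.ht h2) hω' hω1' hdiv hch'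
  rw [trace_conj', htr] at htr'
  have h9 : ((3 : ℕ) : AlgebraicClosure F) ^ 2 = 0 := by
    push_cast
    linear_combination -htr'
  have h10 : ((3 : ℕ) : AlgebraicClosure F) = 0 := pow_eq_zero_iff (by norm_num) |>.1 h9
  rw [CharP.cast_eq_zero_iff (AlgebraicClosure F) r] at h10
  have hr3 : r = 3 := (Nat.prime_dvd_prime_iff_eq hr Nat.prime_three).1 h10
  subst hr3
  have h11 : 3 ∣ 3 ^ e := dvd_pow_self 3 he.ne'
  have h12 := Nat.dvd_sub h11 h3
  rw [Nat.sub_sub_self hq1.le] at h12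
  exact absurd h12 (by norm_num)

/-- **The row of `E6(q)`, `q = 1 mod 3`, `p = 3`.** -/
theorem e6_three (h3 : 3 ∣ Fintype.card F - 1) : Row 3 ↥(chevE6.group F) := e6_three_aux rfl h3

end Main

end Cfsg.Agent.H568.ESixThree
end

private theorem dce_f3b4f2f44933 : _root_.True := by
  try have : _root_.True := by simp only [_root_.Cfsg.Agent.H129.TorusChar.cX.congr_simp]
  exact _root_.True.intro
end
end
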