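import Mathlib
import Cfsg.Agent.H83.OrthRed
set_option linter.all false

/-!
Classification of the orthogonal lists of roots up to `Eqv` from finitely many checks (helper83).
-/

set_option autoImplicit false
set_option linter.unusedSectionVars false

namespace Cfsg.Agent.H83.RedGen

open Cfsg.Lie Cfsg.Agent.ChevalleyStructure Cfsg.Agent.ChevalleyStructure.Elts
  Cfsg.Agent.ChevalleyStructure.RootCombGood Cfsg.Agent.H83.ChevInv Cfsg.Agent.H83.OrthRed

universe u

/-- a `D₄` certificate `(a, b, c, z, d)` -/
abbrev Cert := ℕ × ℕ × ℕ × ℕ × ℕ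

variable (D : ChevalleyDatum)

/-- the certificate is valid -/
def certOK (x : Cert) : Bool :=
  d4chk D x.1 x.2.1 x.2.2.1 x.2.2.2.1 x.2.2.2.2 && decide (x.2.2.2.1 < D.nroots) &&
    (List.range D.rank).all fun k => decide (2 * co D x.2.2.2.1 k =
      co D x.2.2.2.2 k - co D x.1 k - co D x.2.1 k - co D x.2.2.1 k)

/-- the certificate applies to the list -/
def redchk (C : List ℕ) (x : Cert) : Bool :=
  decide (x.1 ∈ C) && decide (x.2.1 ∈ C.erase x.1) && decide (x.2.2.1 ∈ (C.erase x.1).erase x.2.1) &&
    decide (x.2.2.2.2 ∈ ((C.erase x.1).erase x.2.1).erase x.2.2.1)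

variable {D} (hD : InList D) (K : Type u) [Field K] [CharP K 2]

variable {hD K}

/-- a list containing a `D₄` quadruple is equivalent to a shorter one -/
theorem of_redchk {C : List ℕ} {x : Cert} (hx : certOK D x = true) (h : redchk C x = true) (hC : OL D C) :
    ∃ L, OL D L ∧ L.length < C.length ∧ Eqv hD K C L := by
  obtain ⟨a, b, c, z, d⟩ := x
  unfold certOK at hx
  unfold redchk at h
  simp only [Bool.and_eq_true, decide_eq_true_eq, List.all_eq_true, List.mem_range] at hx h
  obtain ⟨⟨h1, h2⟩, h3⟩ := hx
  obtain ⟨⟨⟨ha, hb⟩, hc⟩, hd⟩ := h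
  set R := (((C.erase a).erase b).erase c).erase d with hR
  have hp : C.Perm (a :: b :: c :: d :: R) := by
    refine (List.perm_cons_erase ha).trans (List.Perm.cons a ?_)
    refine (List.perm_cons_erase hb).trans (List.Perm.cons b ?_)
    refine (List.perm_cons_erase hc).trans (List.Perm.cons c ?_)
    exact List.perm_cons_erase hd
  have hO := hC.perm hD hp
  have hz : ∀ e ∈ R, Orth D z e := by
    intro e he
    have q1 := hO.head.2 e (by simp [he])
    have q2 := hO.tail.head.2 e (by simp [he])
    have q3 := hO.tail.tail.head.2 e (by simp [he])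
    have q4 := hO.tail.tail.tail.head.2 e he
    unfold Orth at q1 q2 q3 q4 ⊢
    have h4 : 2 * car D z e = car D d e - car D a e - car D b e - car D c e := by
      unfold car
      rw [Finset.mul_sum, ← Finset.sum_sub_distrib, ← Finset.sum_sub_distrib, ← Finset.sum_sub_distrib]
      refine Finset.sum_congr rfl fun k hk => ?_
      rw [← mul_assoc, h3 k (Finset.mem_range.1 hk)]
      ring
    rw [q1, q2, q3, q4] at h4
    omega
  refine ⟨a :: b :: c :: R, ?_, ?_, (Eqv.perm hC hp).trans (Eqv.d4 hD h1 hO h2 hz)⟩
  · have : (a :: b :: c :: d :: R).Perm (d :: a :: b :: c :: R) := by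
      have q1 : (a :: b :: c :: d :: R).Perm (a :: b :: d :: c :: R) :=
        List.Perm.cons a (List.Perm.cons b (List.Perm.swap d c R))
      have q2 : (a :: b :: d :: c :: R).Perm (a :: d :: b :: c :: R) :=
        List.Perm.cons a (List.Perm.swap d b _)
      exact (q1.trans q2).trans (List.Perm.swap d a _)
    exact (hO.perm hD this).tail
  · have := hp.length_eq
    simp only [List.length_cons] at this ⊢
    omega

/-- the congruence: extend an equivalence by words to a longer list -/
theorem eqv_take {k : ℕ} (hc : chk D k (List.range D.rank) = true) {L : List ℕ} (hk : k ≤ L.length)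
    (hL : OL D L) : ∃ C ∈ casc D k (List.range D.rank), ∃ R : List ℕ, OL D (C ++ R) ∧
      (C ++ R).length = L.length ∧ Eqv hD K L (C ++ R) := by
  have hJ : ∀ j ∈ List.range D.rank, j < D.rank := fun j hj => List.mem_range.1 hj
  have h1 : OL D (L.take k) := ⟨fun r hr => hL.lt r (List.mem_of_mem_take hr), hL.orth.sublist (List.take_sublist k L)⟩
  obtain ⟨w, hw, hC⟩ := exists_casc hD k _ hJ hc (L.take k) (by rw [List.length_take]; omega) h1
    fun r _ => inJ_range r
  have hw' : ∀ a ∈ w, a < D.rank := fun a ha => hJ a (hw a ha)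
  have h2 : (L.take k).map (RootWord.wact D w) ++ (L.drop k).map (RootWord.wact D w) =
      L.map (RootWord.wact D w) := by
    rw [← List.map_append, List.take_append_drop]
  refine ⟨_, hC, (L.drop k).map (RootWord.wact D w), ?_, ?_, ?_⟩
  · rw [h2]; exact OL.map_wact hD hw' hL
  · rw [h2, List.length_map]
  · rw [h2]; exact Eqv.word hw' hL.lt

theorem redchk_append {C R : List ℕ} {x : Cert} (h : redchk C x = true) : redchk (C ++ R) x = true := by
  unfold redchk at h ⊢
  simp only [Bool.and_eq_true, decide_eq_true_eq] at h ⊢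
  obtain ⟨⟨⟨ha, hb⟩, hc⟩, hd⟩ := h
  have e1 : (C ++ R).erase x.1 = C.erase x.1 ++ R := List.erase_append_left _ ha
  have e2 : (C.erase x.1 ++ R).erase x.2.1 = (C.erase x.1).erase x.2.1 ++ R := List.erase_append_left _ hb
  have e3 : ((C.erase x.1).erase x.2.1 ++ R).erase x.2.2.1 = ((C.erase x.1).erase x.2.1).erase x.2.2.1 ++ R :=
    List.erase_append_left _ hc
  rw [e1, e2, e3]
  exact ⟨⟨⟨List.mem_append_left _ ha, List.mem_append_left _ hb⟩, List.mem_append_left _ hc⟩,
    List.mem_append_left _ hd⟩

theorem chk_mono : ∀ (k : ℕ) (J : List ℕ), chk D (k + 1) J = true → chk D k J = true := by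
  intro k
  induction k with
  | zero => intro J _; rfl
  | succ k ih =>
    intro J h
    rw [chk] at h ⊢
    rw [List.all_eq_true] at h ⊢
    intro m hm
    have := h m hm
    rw [Bool.and_eq_true] at this ⊢
    exact ⟨this.1, ih _ this.2⟩

theorem chk_le {j k : ℕ} (hjk : j ≤ k) {J : List ℕ} (h : chk D k J = true) : chk D j J = true := by
  induction hjk with
  | refl => exact h
  | step _ ih => exact ih (chk_mono _ _ h)

variable (D) in
/-- the check for the lists of `k` roots: a certificate applies or a word maps to a representative -/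
def small (certs : List Cert) (words reps : List (List ℕ)) (k : ℕ) : Bool :=
  (casc D k (List.range D.rank)).all fun C => certs.any (redchk C) ||
    words.any fun w => reps.any fun R => (C.map (RootWord.wact D w)).isPerm R

variable (D) in
/-- the check for all lists: all lists of `n + 1` roots are reducible -/
def allchk (certs : List Cert) (words reps : List (List ℕ)) (n : ℕ) : Bool :=
  chk D (n + 1) (List.range D.rank) && certs.all (certOK D) &&
    words.all (fun w => w.all fun a => decide (a < D.rank)) &&
    (List.range (n + 1)).all (small D certs words reps) &&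
    (casc D (n + 1) (List.range D.rank)).all fun C => certs.any (redchk C)

/-- **Classification from the checks.** -/
theorem classify {certs : List Cert} {words reps : List (List ℕ)} {n : ℕ}
    (h : allchk D certs words reps n = true) : ∀ (m : ℕ) (L : List ℕ), L.length ≤ m → OL D L →
      ∃ R ∈ reps, Eqv hD K L R := by
  unfold allchk at h
  simp only [Bool.and_eq_true] at h
  obtain ⟨⟨⟨⟨h1, h2⟩, h3⟩, h4⟩, h5⟩ := h
  rw [List.all_eq_true] at h2 h3 h4 h5
  intro m
  induction m with
  | zero =>
    intro L hL hO
    have hl : L.length = 0 := Nat.le_zero.1 hL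
    obtain ⟨C, hC, hE, hCO⟩ := exists_eqv_casc hD K (chk_le (Nat.zero_le _) h1) hl hO
    have h6 := h4 0 (List.mem_range.2 (Nat.succ_pos n))
    unfold small at h6
    rw [List.all_eq_true] at h6
    have h7 := h6 C hC
    rw [Bool.or_eq_true, List.any_eq_true, List.any_eq_true] at h7
    rcases h7 with ⟨x, hx, hx'⟩ | ⟨w, hw, hw'⟩
    · obtain ⟨L', -, h9, -⟩ := of_redchk (hD := hD) (K := K) (h2 x hx) hx' hCO
      have : C = [] := by simpa [casc] using hC
      rw [this] at h9
      simp at h9
    · rw [List.any_eq_true] at hw'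
      obtain ⟨R, hR, hP⟩ := hw'
      have hwr : ∀ a ∈ w, a < D.rank := by
        have := h3 w hw
        rw [List.all_eq_true] at this
        exact fun a ha => of_decide_eq_true (this a ha)
      exact ⟨R, hR, hE.trans ((Eqv.word hwr hCO.lt).trans
        (Eqv.perm (OL.map_wact hD hwr hCO) (List.isPerm_iff.1 hP)))⟩
  | succ m ih =>
    intro L hL hO
    by_cases hn : L.length ≤ n
    · obtain ⟨C, hC, hE, hCO⟩ := exists_eqv_casc hD K (chk_le (by omega : L.length ≤ n + 1) h1) rfl hO
      have h6 := h4 L.length (List.mem_range.2 (by omega))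
      unfold small at h6
      rw [List.all_eq_true] at h6
      have h7 := h6 C hC
      rw [Bool.or_eq_true, List.any_eq_true, List.any_eq_true] at h7
      rcases h7 with ⟨x, hx, hx'⟩ | ⟨w, hw, hw'⟩
      · obtain ⟨L', h8, h9, h10⟩ := of_redchk (hD := hD) (K := K) (h2 x hx) hx' hCO
        have hlen : C.length = L.length := by
          clear hE h8 h9 h10 hx' hCO h6 ih hO
          have key : ∀ (k : ℕ) (J : List ℕ), ∀ C ∈ casc D k J, C.length = k := by
            intro k
            induction k with
            | zero => intro J C hC; have : C = [] := by simpa [casc] using hC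
                      rw [this]; rfl
            | succ k ihk =>
              intro J C hC
              rw [casc, List.mem_flatMap] at hC
              obtain ⟨m, -, hm⟩ := hC
              rw [List.mem_map] at hm
              obtain ⟨C', hC', rfl⟩ := hm
              rw [List.length_cons, ihk _ _ hC']
          exact key _ _ C hC
        obtain ⟨R, hR, hE'⟩ := ih L' (by omega) h8
        exact ⟨R, hR, (hE.trans h10).trans hE'⟩
      · rw [List.any_eq_true] at hw'
        obtain ⟨R, hR, hP⟩ := hw'
        have hwr : ∀ a ∈ w, a < D.rank := by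
          have := h3 w hw
          rw [List.all_eq_true] at this
          exact fun a ha => of_decide_eq_true (this a ha)
        exact ⟨R, hR, hE.trans ((Eqv.word hwr hCO.lt).trans
          (Eqv.perm (OL.map_wact hD hwr hCO) (List.isPerm_iff.1 hP)))⟩
    · obtain ⟨C, hC, R, hO', hlen, hE⟩ := eqv_take (hD := hD) (K := K) h1 (by omega : n + 1 ≤ L.length) hO
      have h6 := h5 C hC
      rw [List.any_eq_true] at h6
      obtain ⟨x, hx, hx'⟩ := h6
      obtain ⟨L', h8, h9, h10⟩ := of_redchk (hD := hD) (K := K) (h2 x hx) (redchk_append hx') hO'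
      obtain ⟨R', hR', hE'⟩ := ih L' (by omega) h8
      exact ⟨R', hR', (hE.trans h10).trans hE'⟩

end Cfsg.Agent.H83.RedGen
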