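import Mathlib
import Cfsg.Agent.H83.RedGen
set_option linter.all false

/-!
The orthogonal lists of roots of `E₇` up to `Eqv` (helper83): five classes and the empty list.
-/

set_option autoImplicit false

namespace Cfsg.Agent.H83.RedESeven

open Cfsg.Lie Cfsg.Agent.ChevalleyStructure.Elts Cfsg.Agent.H83.ChevInv Cfsg.Agent.H83.OrthRed Cfsg.Agent.H83.RedGen

universe u

/-- the `D₄` certificates -/
def certs : List Cert := [(92, 87, 63, 36, 66), (125, 92, 87, 2, 73), (125, 63, 66, 18, 73), (125, 87, 63, 9, 78),
  (125, 92, 66, 7, 78), (92, 63, 73, 48, 78), (87, 66, 73, 50, 78)]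

def words : List (List ℕ) := [[], [5, 6, 4, 5], [5, 6, 4, 5, 0, 2, 3, 4, 1, 3, 2, 0]]

/-- the representatives -/
def reps : List (List ℕ) := [[], [125], [125, 92], [125, 92, 63], [125, 92, 87], [125, 92, 63, 87]]

theorem allchk_eq : allchk chevE7 certs words reps 4 = true := by decide +kernel

end Cfsg.Agent.H83.RedESeven
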